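import Cfsg.Agent.H933.O10.Base_m3
import Cfsg.Agent.H954.TSing4
import Cfsg.Agent.H882.Del.Stein
import Mathlib
import Cfsg.Agent.SporadicB.AtlasPres.M11Rec
import Cfsg.Agent.H6.M11.Reps
import Cfsg.Agent.TwoGenCore.IsoMEleven
import Cfsg.Agent.H906.Cover_m3
import Cfsg.Agent.SectRankFour.AutM11
import Cfsg.Agent.UGT.End.MEleven
import Cfsg.Agent.H36.M12.Lin
import Cfsg.Agent.H727.GW.Isom
import Cfsg.Agent.H932.MtCov_m3
import Cfsg.Agent.H882.Del.M11Grp
import Cfsg.Agent.S0384
import Cfsg.Agent.H876.D3.FourFive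
import Cfsg.Agent.H911.AdF
import Cfsg.Agent.H876.D3.Main5_m3
import Cfsg.Agent.H130.U4.Final
import Cfsg.Agent.FastGrp
import Cfsg.Agent.Prune
set_option linter.all false

section
prune_inst 0x7fbdbdf8bbb889dfdfff7e77a6dccdfdf8b83fffa6dff94b7fe061ff0b9f5b00c9c5638d0beb10fe1ed6c01410e87b43f9ffeeffe06bdc7ffffd5ff45ffbffcffdf7bd0851968c340fbc2ff703f0778e7f3fffffffffffffffffffffffffffbeffbfffffffff

-- part: H933/O10/Type
section
prune_inst 0x740406620200000085803320005034000402000b0800800000040800c00000800e40003000120220888100010060010000a0420000000a000000000100000000020010000000000008000080000000000000000000000000000000000000000000000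
set_option linter.all false
open scoped Cfsg.Agent.FastGrp

-- part: H933/O10/Eleven
section
/-!
# Isometries of order eleven in dimension ten (helper933)

`no_fixed_eleven` : `x` an isometry of a nondegenerate quadratic form on `F^10`, `x ^ 11 = 1`, `x ≠ 1`,
`y x y⁻¹ = x ^ 3` for some `y ∈ GL_10(F)`, `11 ≠ 0` in `F`: `x` has no non-zero fixed vector.
-/

set_option autoImplicit false
set_option linter.unusedSectionVars false

namespace Cfsg.Agent.H933.O10

open Cfsg Cfsg.Geo Matrix Module Cfsg.Agent.H915.LD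

universe u v

section ev

variable {K : Type v} [Field K] {ι : Type} [Fintype ι] [DecidableEq ι]

/-- `c` is an eigenvalue of `A` -/
def Ev (A : Matrix ι ι K) (c : K) : Prop := ∃ v : ι → K, v ≠ 0 ∧ A *ᵥ v = c • v

theorem ev_iff_det {A : Matrix ι ι K} {c : K} : Ev A c ↔ (A - c • 1).det = 0 := by
  rw [← Matrix.exists_mulVec_eq_zero_iff]
  refine exists_congr fun v => and_congr_right fun _ => ?_
  rw [sub_mulVec, smul_mulVec, one_mulVec, sub_eq_zero]

theorem ev_transpose {A : Matrix ι ι K} {c : K} : Ev Aᵀ c ↔ Ev A c := by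
  rw [ev_iff_det, ev_iff_det, ← Matrix.det_transpose, transpose_sub, transpose_transpose, transpose_smul,
    transpose_one]

theorem ev_pow {A : Matrix ι ι K} {c : K} {v : ι → K} (h : A *ᵥ v = c • v) (n : ℕ) : (A ^ n) *ᵥ v = c ^ n • v := by
  induction n with
  | zero => rw [pow_zero, pow_zero, one_mulVec, one_smul]
  | succ n ih => rw [pow_succ, ← mulVec_mulVec, h, mulVec_smul, ih, smul_smul, pow_succ']

/-- an isometry of a nondegenerate bilinear form: eigenvalues come in inverse pairs -/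
theorem ev_inv {A M : Matrix ι ι K} (hM : IsUnit M) (h : Aᵀ * M * A = M) {c : K} (hc : c ≠ 0) (hev : Ev A c) :
    Ev A c⁻¹ := by
  obtain ⟨v, hv, hAv⟩ := hev
  rw [← ev_transpose]
  refine ⟨M *ᵥ v, ?_, ?_⟩
  · intro h0
    obtain ⟨N, rfl⟩ := hM
    apply hv
    rw [← one_mulVec v, ← N.inv_mul, ← mulVec_mulVec, h0, mulVec_zero]
  · have h1 : (Aᵀ * M * A) *ᵥ v = M *ᵥ v := by rw [h]
    rw [← mulVec_mulVec, hAv, mulVec_smul, ← mulVec_mulVec] at h1
    conv_rhs => rw [← h1]
    rw [smul_smul, inv_mul_cancel₀ hc, one_smul]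

theorem ev_conj {A B : Matrix ι ι K} (hB : IsUnit B) (hBA : B * A = A ^ 3 * B) (hA : A ^ 11 = 1) {c : K} (hev : Ev A c) :
    Ev A (c ^ 4) := by
  obtain ⟨v, hv, hAv⟩ := hev
  refine ⟨B *ᵥ v, ?_, ?_⟩
  · intro h0
    obtain ⟨N, rfl⟩ := hB
    apply hv
    rw [← one_mulVec v, ← N.inv_mul, ← mulVec_mulVec, h0, mulVec_zero]
  · have h1 : (A ^ 3) *ᵥ (B *ᵥ v) = c • (B *ᵥ v) := by
      rw [mulVec_mulVec, ← hBA, ← mulVec_mulVec, hAv, mulVec_smul]
    have h2 := ev_pow h1 4
    rw [← pow_mul, show 3 * 4 = 11 + 1 by norm_num, pow_succ, hA, Matrix.one_mul] at h2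
    exact h2

theorem ev_eleven {A : Matrix ι ι K} (hA : A ^ 11 = 1) {c : K} (hev : Ev A c) : c ^ 11 = 1 := by
  obtain ⟨v, hv, hAv⟩ := hev
  have h := ev_pow hAv 11
  rw [hA, one_mulVec] at h
  have h2 : (c ^ 11 - 1) • v = 0 := by rw [sub_smul, one_smul, ← h, sub_self]
  exact sub_eq_zero.1 ((smul_eq_zero.1 h2).resolve_right hv)

theorem exists_ev [IsAlgClosed K] (h11 : (11 : K) ≠ 0) {A : Matrix ι ι K} (hA : A ^ 11 = 1) (hA1 : A ≠ 1) :
    ∃ c : K, c ≠ 1 ∧ Ev A c := by
  set X : Module.End K (ι → K) := Matrix.toLin' A with hX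
  have hXa : ∀ v, X v = A *ᵥ v := fun v => Matrix.toLin'_apply _ _
  set W : Submodule K (ι → K) := LinearMap.range (X - 1) with hW
  have hXW : ∀ w ∈ W, X w ∈ W := by
    rintro _ ⟨v, rfl⟩
    exact ⟨X v, by simp [LinearMap.sub_apply, map_sub]⟩
  have hne : Nontrivial W := by
    rw [Submodule.nontrivial_iff_ne_bot]
    intro h0
    rw [hW, LinearMap.range_eq_bot, sub_eq_zero] at h0
    apply hA1
    apply Matrix.toLin'.injective
    rw [← hX, h0, Matrix.toLin'_one]
    rfl
  obtain ⟨c, hc⟩ := Module.End.exists_eigenvalue (X.restrict hXW)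
  obtain ⟨w, hw, hw0⟩ := hc.exists_hasEigenvector
  rw [Module.End.mem_eigenspace_iff] at hw
  have h1 : A *ᵥ (w : ι → K) = c • (w : ι → K) := by
    rw [← hXa]
    exact congrArg Subtype.val hw
  refine ⟨c, ?_, (w : ι → K), fun h => hw0 (Subtype.ext h), h1⟩
  rintro rfl
  rw [one_smul] at h1
  obtain ⟨v, hv⟩ := w.2
  have hv' : A *ᵥ v - v = (w : ι → K) := by
    rw [← hv, LinearMap.sub_apply, hXa]
    rfl
  have h2 : ∀ n : ℕ, (A ^ n) *ᵥ v = v + (n : K) • (w : ι → K) := by
    intro n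
    induction n with
    | zero => simp
    | succ n ih =>
      rw [pow_succ', ← mulVec_mulVec, ih, mulVec_add, mulVec_smul, h1, ← hv', Nat.cast_succ, add_smul, one_smul]
      abel
  have h3 := h2 11
  rw [hA, one_mulVec] at h3
  have h4 : ((11 : ℕ) : K) • (w : ι → K) = 0 := by
    have := h3
    rw [left_eq_add] at this
    exact this
  rcases smul_eq_zero.1 h4 with h | h
  · exact h11 (by exact_mod_cast h)
  · exact hw0 (Subtype.ext h)

theorem not_ev_one [IsAlgClosed K] (h11 : (11 : K) ≠ 0) (hι : Fintype.card ι = 10) {A B M : Matrix ι ι K}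
    (hA : A ^ 11 = 1) (hA1 : A ≠ 1) (hM : IsUnit M) (h : Aᵀ * M * A = M) (hB : IsUnit B) (hBA : B * A = A ^ 3 * B) :
    ¬ Ev A 1 := by
  intro h1
  obtain ⟨c, hc1, hc⟩ := exists_ev h11 hA hA1
  have hc11 := ev_eleven hA hc
  have hc0 : c ≠ 0 := by
    rintro rfl
    rw [zero_pow (by norm_num)] at hc11
    exact zero_ne_one hc11
  have hall : ∀ k : Fin 11, Ev A (c ^ (k : ℕ)) := by
    have e1 : Ev A (c ^ 1) := by rwa [pow_one]
    have step : ∀ m n : ℕ, Ev A (c ^ m) → (4 * m) % 11 = n → Ev A (c ^ n) := by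
      intro m n hm hn
      have := ev_conj hB hBA hA hm
      rw [← pow_mul, mul_comm m 4, ← Nat.div_add_mod (4 * m) 11, pow_add, pow_mul, hc11, one_pow, one_mul, hn] at this
      exact this
    have inv : ∀ m n : ℕ, Ev A (c ^ m) → m + n = 11 → Ev A (c ^ n) := by
      intro m n hm hmn
      have := ev_inv hM h (pow_ne_zero m hc0) hm
      have h2 : (c ^ m)⁻¹ = c ^ n := by
        exact inv_eq_of_mul_eq_one_right (by rw [← pow_add, hmn, hc11])
      rwa [h2] at this
    have e4 := step 1 4 e1 (by norm_num)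
    have e5 := step 4 5 e4 (by norm_num)
    have e9 := step 5 9 e5 (by norm_num)
    have e3 := step 9 3 e9 (by norm_num)
    have e10 := inv 1 10 e1 (by norm_num)
    have e7 := inv 4 7 e4 (by norm_num)
    have e6 := inv 5 6 e5 (by norm_num)
    have e2 := inv 9 2 e9 (by norm_num)
    have e8 := inv 3 8 e3 (by norm_num)
    intro k
    fin_cases k
    · simpa using h1
    all_goals assumption
  choose v hv0 hv using hall
  have hinj : Function.Injective fun k : Fin 11 => c ^ (k : ℕ) := by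
    have hord : orderOf c = 11 := by
      have : Fact (Nat.Prime 11) := ⟨by norm_num⟩
      exact orderOf_eq_prime hc11 hc1
    intro a b hab
    exact Fin.ext (pow_injOn_Iio_orderOf (by rw [hord]; exact a.2) (by rw [hord]; exact b.2) hab)
  have hli : LinearIndependent K v := by
    refine Module.End.eigenvectors_linearIndependent' (Matrix.toLin' A) (fun k : Fin 11 => c ^ (k : ℕ)) hinj v ?_
    intro k
    exact ⟨Module.End.mem_eigenspace_iff.2 (by rw [Matrix.toLin'_apply]; exact hv k), hv0 k⟩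
  have h3 := hli.fintype_card_le_finrank
  rw [Fintype.card_fin, Module.finrank_fintype_fun_eq_card, hι] at h3
  omega

end ev

variable {F : Type u} [Field F] {ι : Type} [Fintype ι] [DecidableEq ι]

/-- **No fixed vectors.** -/
theorem no_fixed_eleven (hι : Fintype.card ι = 10) (h11 : (11 : F) ≠ 0) {Q : (ι → F) → F}
    (hQ : IsNondegenerateQuadraticForm Q) {x y : GL ι F} (hx : x ∈ omegaGL Q) (hx11 : x ^ 11 = 1) (hx1 : x ≠ 1)
    (hxy : y * x * y⁻¹ = x ^ 3) (v : ι → F) (hv : (x : Matrix ι ι F) *ᵥ v = v) : v = 0 := by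
  by_contra hv0
  let φ : Matrix ι ι F →+* Matrix ι ι (AlgebraicClosure F) := (algebraMap F (AlgebraicClosure F)).mapMatrix
  have hφ : Function.Injective φ := by
    intro a b hab
    ext i j
    apply (algebraMap F (AlgebraicClosure F)).injective
    exact congrFun (congrFun hab i) j
  have hmat : (x : Matrix ι ι F) ^ 11 = 1 := by
    rw [← Units.val_pow_eq_pow_val, hx11, Units.val_one]
  refine not_ev_one (K := AlgebraicClosure F) (ι := ι) (A := φ x) (B := φ y)
    (M := φ (gramMatrix (QuadraticMap.polar Q))) ?_ hι ?_ ?_ ?_ ?_ ?_ ?_ ?_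
  · intro h
    apply h11
    apply (algebraMap F (AlgebraicClosure F)).injective
    rw [map_ofNat, map_zero, h]
  · rw [← map_pow, hmat, map_one]
  · intro h
    apply hx1
    apply Units.ext
    apply hφ
    rw [h, Units.val_one, map_one]
  · exact (isUnit_gram hQ).map φ
  · have h1 := congrArg φ (gram_conj hQ hx)
    rw [map_mul, map_mul] at h1
    exact h1
  · exact (Units.isUnit y).map φ
  · rw [← map_pow, ← map_mul, ← map_mul]
    congr 1
    have h1 : y * x = x ^ 3 * y := by rw [← hxy]; group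
    have h2 := congrArg (fun g : GL ι F => (g : Matrix ι ι F)) h1
    simpa using h2
  · refine ⟨fun i => algebraMap F (AlgebraicClosure F) (v i), ?_, ?_⟩
    · intro h0
      apply hv0
      funext i
      apply (algebraMap F (AlgebraicClosure F)).injective
      rw [congrFun h0 i]
      simp
    · rw [one_smul]
      funext i
      have h1 := congrArg (algebraMap F (AlgebraicClosure F)) (congrFun hv i)
      rw [← h1]
      simp only [mulVec, dotProduct, map_sum, map_mul]
      rfl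

end Cfsg.Agent.H933.O10
end

-- part: H933/O10/Type
section
/-!
# The type of a quadratic form on `F^10` with an isometry of order 11 without fixed vectors (helper933)

* `plus_iff_odd` : plus type iff the order of `|F|` modulo 11 is odd;
* `odd_iff_sq` : the residues of `|F|` modulo 11;
* `type_eleven` : the type if `x ^ 11 = 1`, `x ≠ 1`, `y x y⁻¹ = x ^ 3`;
* `Cx.type_eleven` : the same if `Soc P` contains such elements and `P` has no scalars.
-/

set_option autoImplicit false
set_option linter.unusedSectionVars false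

namespace Cfsg.Agent.H933.O10

open Cfsg Cfsg.Geo Matrix Module Cfsg.Agent.H915.LD Cfsg.Agent.LieClassical.OrthCore
open Cfsg.Agent.H955 (IsPlus)

universe u

variable {F : Type u} [Field F] {ι : Type} [Fintype ι] [DecidableEq ι]

theorem plusTop_iff {Q : QuadraticForm F (ι → F)} : IsPlusTypeOn (⇑Q) ⊤ ↔ IsPlus Q := by
  constructor
  · rintro ⟨U, -, hU0, hd⟩
    exact ⟨U, fun u hu => hU0 u hu, by rw [hd, finrank_top]⟩
  · rintro ⟨U, hU0, hd⟩
    exact ⟨U, le_top, fun u hu => hU0 u hu, by rw [finrank_top]; exact hd⟩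

theorem plus_iff_odd [Fintype F] {Q : (ι → F) → F} (hQ : IsNondegenerateQuadraticForm Q)
    (hι : Fintype.card ι = 10) (h11 : (11 : F) ≠ 0) {x : GL ι F} (hx : x ∈ omegaGL Q) (hx11 : x ^ 11 = 1)
    (hfix : ∀ v, (x : Matrix ι ι F) *ᵥ v = v → v = 0) :
    IsPlusTypeOn Q ⊤ ↔ Odd (orderOf (Fintype.card F : ZMod 11)) := by
  obtain ⟨R, rfl, hR⟩ := H883.Bridge.exists_quadraticForm hQ
  have : Fact (Nat.Prime 11) := ⟨by norm_num⟩
  rw [plusTop_iff]
  set X : Module.End F (ι → F) := Matrix.toLin' (x : Matrix ι ι F) with hX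
  have hXa : ∀ v, X v = (x : Matrix ι ι F) *ᵥ v := fun v => Matrix.toLin'_apply _ _
  have hXQ : ∀ v, R (X v) = R v := fun v => by rw [hXa]; exact fix_of_mem_omegaGL hx v
  have hX11 : X ^ 11 = 1 := by
    rw [hX, ← Matrix.toLin'_pow, ← Units.val_pow_eq_pow_val, hx11, Units.val_one, Matrix.toLin'_one]
    rfl
  have hXf : ∀ v, X v = v → v = 0 := fun v hv => hfix v (by rw [← hXa, hv])
  have hd : finrank F (ι → F) = 10 := by rw [Module.finrank_fintype_fun_eq_card, hι]
  have h11' : ((11 : ℕ) : F) ≠ 0 := by exact_mod_cast h11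
  constructor
  · intro hP
    by_contra hodd
    rw [Nat.not_odd_iff_even] at hodd
    have hdvd : orderOf (Fintype.card F : ZMod 11) ∣ 10 := by
      have h0 : (Fintype.card F : ZMod 11) ≠ 0 := by
        intro h0
        have h1 : 11 ∣ Fintype.card F := (ZMod.natCast_eq_zero_iff _ _).1 h0
        obtain ⟨p, hp, n, hn, hpn⟩ := FiniteField.card' F
        have h2 := (Nat.prime_dvd_prime_iff_eq (by norm_num) hn).1 ((by norm_num : Nat.Prime 11).dvd_of_dvd_pow (hpn ▸ h1))
        subst h2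
        exact h11' (CharP.cast_eq_zero F 11)
      exact orderOf_dvd_of_pow_eq_one (ZMod.pow_card_sub_one_eq_one h0)
    obtain ⟨A, hA⟩ := hdvd
    have h1 := (H954.TSing.isPlus_iff_even (r := 11) hR (x := X) (by norm_num) h11' hXQ hX11 hXf rfl hodd
      (hd.trans hA)).1 hP
    obtain ⟨a, ha⟩ := hodd
    obtain ⟨b, hb⟩ := h1
    rw [ha, hb] at hA
    have : (a + a) * (b + b) = 4 * (a * b) := by ring
    omega
  · intro hodd
    have hUn : Nondeg (H955.res R ⊤) := by
      intro v hv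
      apply Subtype.ext
      refine hR _ fun w => ?_
      exact hv ⟨w, trivial⟩
    have hU0 : ⊤ ⊓ H951.fx X = ⊥ := by
      rw [eq_bot_iff]
      rintro v ⟨-, hv⟩
      exact (Submodule.mem_bot F).2 (hXf v (H951.mem_fx.1 hv))
    obtain ⟨W, -, -, hW, hWd⟩ := H954.TSing.exists_ts_half (r := 11) (x := X) (Q := R) hXQ inferInstance (by norm_num)
      h11' hX11 (U := ⊤) (fun _ _ => trivial) hUn hU0 hodd
    exact ⟨W, hW, by rw [← hWd, finrank_top]⟩

/-- the residues modulo 11 -/
def Sq11 (q : ℕ) : Prop := q % 11 = 1 ∨ q % 11 = 3 ∨ q % 11 = 4 ∨ q % 11 = 5 ∨ q % 11 = 9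

/-- the non-residues modulo 11 -/
def Nsq11 (q : ℕ) : Prop := q % 11 = 2 ∨ q % 11 = 6 ∨ q % 11 = 7 ∨ q % 11 = 8 ∨ q % 11 = 10

theorem card_ne_zero [Fintype F] (h11 : (11 : F) ≠ 0) : (Fintype.card F : ZMod 11) ≠ 0 := by
  intro h0
  have h1 : 11 ∣ Fintype.card F := (ZMod.natCast_eq_zero_iff _ _).1 h0
  obtain ⟨p, hp, n, hn, hpn⟩ := FiniteField.card' F
  have h2 := (Nat.prime_dvd_prime_iff_eq (by norm_num) hn).1 ((by norm_num : Nat.Prime 11).dvd_of_dvd_pow (hpn ▸ h1))
  subst h2
  exact h11 (by exact_mod_cast CharP.cast_eq_zero F 11)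

theorem residue {a : ZMod 11} (ha : a ≠ 0) : (Odd (orderOf a) → a ^ 5 = 1) ∧ (¬ Odd (orderOf a) → a ^ 5 ≠ 1) := by
  have : Fact (Nat.Prime 11) := ⟨by norm_num⟩
  have hdvd : orderOf a ∣ 10 := orderOf_dvd_of_pow_eq_one (ZMod.pow_card_sub_one_eq_one ha)
  constructor
  · intro hodd
    apply orderOf_dvd_iff_pow_eq_one.1
    have h1 : Nat.Coprime (orderOf a) 2 := Nat.coprime_two_right.2 hodd
    exact h1.dvd_of_dvd_mul_right (by simpa using hdvd)
  · intro hodd h5
    apply hodd
    exact Odd.of_dvd_nat (by decide : Odd 5) (orderOf_dvd_of_pow_eq_one h5)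

theorem odd_iff_sq {q : ℕ} (h0 : (q : ZMod 11) ≠ 0) :
    (Odd (orderOf (q : ZMod 11)) → Sq11 q) ∧ (¬ Odd (orderOf (q : ZMod 11)) → Nsq11 q) := by
  obtain ⟨h1, h2⟩ := residue h0
  have hm : (q : ZMod 11) = ((q % 11 : ℕ) : ZMod 11) := (ZMod.natCast_mod q 11).symm
  have hlt : q % 11 < 11 := Nat.mod_lt _ (by norm_num)
  have hcase : ∀ k : Fin 11, ((k : ℕ) : ZMod 11) ≠ 0 →
      (((k : ℕ) : ZMod 11) ^ 5 = 1 → ((k : ℕ) = 1 ∨ (k : ℕ) = 3 ∨ (k : ℕ) = 4 ∨ (k : ℕ) = 5 ∨ (k : ℕ) = 9)) ∧
      (((k : ℕ) : ZMod 11) ^ 5 ≠ 1 → ((k : ℕ) = 2 ∨ (k : ℕ) = 6 ∨ (k : ℕ) = 7 ∨ (k : ℕ) = 8 ∨ (k : ℕ) = 10)) := by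
    decide
  obtain ⟨h3, h4⟩ := hcase ⟨q % 11, hlt⟩ (by rwa [← hm])
  change ((q % 11 : ℕ) : ZMod 11) ^ 5 = 1 → _ at h3
  change ((q % 11 : ℕ) : ZMod 11) ^ 5 ≠ 1 → _ at h4
  rw [← hm] at h3 h4
  exact ⟨fun h => h3 (h1 h), fun h => h4 (h2 h)⟩

/-- **The type.** -/
theorem type_eleven [Fintype F] (hι : Fintype.card ι = 10) (h11 : (11 : F) ≠ 0) {Q : (ι → F) → F}
    (hQ : IsNondegenerateQuadraticForm Q) {x y : GL ι F} (hx : x ∈ omegaGL Q) (hx11 : x ^ 11 = 1) (hx1 : x ≠ 1)
    (hxy : y * x * y⁻¹ = x ^ 3) :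
    (IsPlusTypeOn Q ⊤ → Sq11 (Fintype.card F)) ∧ (¬ IsPlusTypeOn Q ⊤ → Nsq11 (Fintype.card F)) := by
  rw [plus_iff_odd hQ hι h11 hx hx11 (no_fixed_eleven hι h11 hQ hx hx11 hx1 hxy)]
  exact odd_iff_sq (card_ne_zero h11)

/-! ### Lifting from the simple group -/

namespace Cx

variable {p : ℕ} {Q : (Fin 10 → F) → F} {H P : Subgroup (GL (Fin 10) F)}

theorem ker_sq (h : Cx p Q H P) {z : P} (hz : z ∈ (toSoc P).ker) : z ^ 2 = 1 := by
  rw [ker_toSoc, Subgroup.mem_subgroupOf, mem_scalars_iff] at hz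
  obtain ⟨c, hc⟩ := hz
  have h2 := h.scalar_sq z.2 hc
  apply Subtype.ext
  apply Units.ext
  rw [Subgroup.coe_pow, Units.val_pow_eq_pow_val, hc, smul_pow, one_pow, h2, one_smul]
  rfl

/-- elements of order 11 and their normalisers lift -/
theorem lift (h : Cx p Q H P) {T : Type*} [Group T] (e : Soc P ≃* T) {X Y : T} (hX : X ^ 11 = 1) (hX1 : X ≠ 1)
    (hXY : Y * X * Y⁻¹ = X ^ 3) :
    ∃ x y : GL (Fin 10) F, x ∈ P ∧ y ∈ P ∧ x ^ 11 = 1 ∧ x ≠ 1 ∧ y * x * y⁻¹ = x ^ 3 := by
  obtain ⟨x0, hx0⟩ := toSoc_surjective P (e.symm X)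
  obtain ⟨y0, hy0⟩ := toSoc_surjective P (e.symm Y)
  have h1 : x0 ^ 11 ∈ (toSoc P).ker := by
    rw [MonoidHom.mem_ker, map_pow, hx0, ← map_pow, hX, map_one]
  have h2 : (x0 ^ 3)⁻¹ * (y0 * x0 * y0⁻¹) ∈ (toSoc P).ker := by
    rw [MonoidHom.mem_ker, map_mul, map_inv, map_mul, map_mul, map_inv, map_pow, hx0, hy0, ← map_inv, ← map_pow,
      ← map_mul, ← map_mul, ← map_inv, ← map_mul, hXY, inv_mul_cancel, map_one]
  have h11 : x0 ^ 132 = 1 := by
    have h3 := h.ker_sq h1
    calc x0 ^ 132 = ((x0 ^ 11) ^ 2) ^ 6 := by rw [← pow_mul, ← pow_mul]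
      _ = 1 := by rw [h3, one_pow]
  have hz := h.ker_sq h2
  have hzc := ker_toSoc_le P h2
  set z := (x0 ^ 3)⁻¹ * (y0 * x0 * y0⁻¹) with hzdef
  have h4 : y0 * x0 * y0⁻¹ = x0 ^ 3 * z := by rw [hzdef]; group
  refine ⟨x0 ^ 12, y0, P.pow_mem x0.2 _, y0.2, ?_, ?_, ?_⟩
  · have h5 : (x0 ^ 12) ^ 11 = 1 := by rw [← pow_mul]; exact h11
    exact_mod_cast congrArg Subtype.val h5
  · intro h5
    apply hX1
    have h6 : x0 ^ 12 = 1 := Subtype.ext (by exact_mod_cast h5)
    have h7 := congrArg (toSoc P) h6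
    rw [map_pow, hx0, map_one, ← map_pow, pow_succ, hX, one_mul] at h7
    have h8 := congrArg e h7
    rwa [e.apply_symm_apply, map_one] at h8
  · have h5 : y0 * x0 ^ 12 * y0⁻¹ = (x0 ^ 12) ^ 3 := by
      rw [← conj_pow, h4]
      have hcomm : Commute (x0 ^ 3) z := (Subgroup.mem_center_iff.1 hzc _)
      rw [hcomm.mul_pow, show z ^ 12 = (z ^ 2) ^ 6 by rw [← pow_mul], hz, one_pow, mul_one, ← pow_mul, ← pow_mul]
    exact_mod_cast congrArg Subtype.val h5

/-- **The type for every `T` containing `11:5`.** -/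
theorem type (h : Cx p Q H P) [Fintype F] (h11 : (11 : F) ≠ 0) {T : Type*} [Group T] (e : Soc P ≃* T) {X Y : T}
    (hX : X ^ 11 = 1) (hX1 : X ≠ 1) (hXY : Y * X * Y⁻¹ = X ^ 3) :
    (IsPlusTypeOn Q ⊤ → Sq11 (Fintype.card F)) ∧ (¬ IsPlusTypeOn Q ⊤ → Nsq11 (Fintype.card F)) := by
  obtain ⟨x, y, hx, -, h1, h2, h3⟩ := h.lift e hX hX1 hXY
  exact type_eleven (by rw [Fintype.card_fin]) h11 h.hQ (h.le_omega hx) h1 h2 h3

end Cx

/-! ### The alternating groups -/

/-- `i ↦ i + 1` on the first eleven points -/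
def xPerm : Equiv.Perm (Fin 11) := ⟨fun i => i + 1, fun i => i - 1, fun i => by simp, fun i => by simp⟩

/-- `i ↦ 3 i` -/
def yPerm : Equiv.Perm (Fin 11) := ⟨fun i => 3 * i, fun i => 4 * i, by decide, by decide⟩

theorem mem_alt_of_odd {κ : Type*} [Fintype κ] [DecidableEq κ] {σ : Equiv.Perm κ} {n : ℕ} (hn : Odd n)
    (h : σ ^ n = 1) : σ ∈ alternatingGroup κ := by
  rw [Equiv.Perm.mem_alternatingGroup]
  have h1 : Equiv.Perm.sign σ ^ n = 1 := by rw [← map_pow, h, map_one]
  obtain ⟨k, rfl⟩ := hn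
  rwa [pow_succ, pow_mul, Int.units_sq, one_pow, one_mul] at h1

theorem alt_eleven {κ : Type*} [Fintype κ] [DecidableEq κ] (f : Fin 11 ↪ κ) :
    ∃ X Y : alternatingGroup κ, X ^ 11 = 1 ∧ X ≠ 1 ∧ Y * X * Y⁻¹ = X ^ 3 := by
  have h1 : xPerm ^ 11 = 1 := by decide
  have h2 : yPerm ^ 5 = 1 := by decide
  have h3 : yPerm * xPerm * yPerm⁻¹ = xPerm ^ 3 := by decide
  have h4 : xPerm ≠ 1 := by decide
  set φ : Equiv.Perm (Fin 11) →* Equiv.Perm κ := Equiv.Perm.viaEmbeddingHom f
  have hφ : Function.Injective φ := Equiv.Perm.viaEmbeddingHom_injective f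
  refine ⟨⟨φ xPerm, mem_alt_of_odd (n := 11) (by decide) (by rw [← map_pow, h1, map_one])⟩,
    ⟨φ yPerm, mem_alt_of_odd (n := 5) (by decide) (by rw [← map_pow, h2, map_one])⟩, ?_, ?_, ?_⟩
  · apply Subtype.ext
    change φ xPerm ^ 11 = 1
    rw [← map_pow, h1, map_one]
  · intro h
    apply h4
    apply hφ
    rw [map_one]
    exact congrArg Subtype.val h
  · apply Subtype.ext
    change φ yPerm * φ xPerm * (φ yPerm)⁻¹ = φ xPerm ^ 3
    rw [← map_inv, ← map_mul, ← map_mul, h3, map_pow]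

theorem psl_eleven : ∃ X Y : ProjectiveSpecialLinearGroup (Fin 2) (ZMod 11), X ^ 11 = 1 ∧ X ≠ 1 ∧
    Y * X * Y⁻¹ = X ^ 3 := by
  let x : SpecialLinearGroup (Fin 2) (ZMod 11) := ⟨!![1, 1; 0, 1], by decide⟩
  let y : SpecialLinearGroup (Fin 2) (ZMod 11) := ⟨!![5, 0; 0, 9], by decide⟩
  have h1 : x ^ 11 = 1 := by decide
  have h2 : y * x * y⁻¹ = x ^ 3 := by decide
  refine ⟨QuotientGroup.mk x, QuotientGroup.mk y, ?_, ?_, ?_⟩
  · rw [← QuotientGroup.mk_pow, h1]; rfl
  · intro h
    rw [QuotientGroup.eq_one_iff] at h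
    have h3 := Subgroup.mem_center_iff.1 h ⟨!![0, 1; -1, 0], by decide⟩
    revert h3
    decide
  · rw [← QuotientGroup.mk_pow, ← h2]; rfl

end Cfsg.Agent.H933.O10
end
end

-- part: H933/O10/DelNM
section
prune_inst 0x424007444176200000000801230200050780004020048080028c00b4402406062098228410630001212a20c0140010060000000304020000000000000000100000000100491080000000086000080000000000000000000000000000000000000000000000
set_option linter.all false
open scoped Cfsg.Agent.FastGrp

/-!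
# Deleted permutation modules with `Q (v i) = (v i, v j)`: never maximal, characteristics 2 and 3 (helper933)

The case `|ι| + 1 = 0` in characteristic 2 and 3 (helper882 has the other characteristics): the reflections in the
`v i` permute the roots `± v i`, `v i - v j`.

* `not_maximal'` : no maximal subgroup of `E Q` is contained in `SG F v`;
* `mat_main'` : `H` maximal in `omegaGL Q`, `dim = 10`, `K ≤ P` of index 11 fixes `v0 ≠ 0`, ... : `Soc P ≃ A₁₁` and
  `11 ≠ 0`, `2 ≠ 0`, `3 ≠ 0` in `F`.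
-/

set_option autoImplicit false
set_option linter.unusedSectionVars false

namespace Cfsg.Agent.H933.O10

open QuadraticMap hiding proj
open Cfsg.Agent.LieClassical.OrthCore Cfsg.Agent.LieClassical.OrthTrans Cfsg.Agent.LieClassical.OrthFinite
open Cfsg.Agent.H882.Del

section abs

variable {F : Type*} [Field F] {V : Type*} [AddCommGroup V] [Module F V]
variable {ι : Type*} [Fintype ι] [DecidableEq ι] {v : ι → V} {Q : QuadraticForm F V} {a : F}

theorem polar_sum_left' (s : Finset ι) (y : V) : polar Q (∑ i ∈ s, v i) y = ∑ i ∈ s, polar Q (v i) y := by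
  induction s using Finset.induction_on with
  | empty => simp [QuadraticMap.polar_zero_left]
  | insert b s hb ih => rw [Finset.sum_insert hb, Finset.sum_insert hb, QuadraticMap.polar_add_left, ih]

theorem map_sum_gr (hg : Gr Q v a) {b : F} (hb : ∀ i, Q (v i) = b) (s : Finset ι) :
    Q (∑ i ∈ s, v i) = (s.card : F) * b + (s.card.choose 2 : F) * a := by
  induction s using Finset.induction_on with
  | empty => simp
  | insert c s hc ih =>
    rw [Finset.sum_insert hc, Q_add, ih, hb, polar_comm, polar_sum_left',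
      Finset.sum_congr rfl (g := fun _ => a) (fun j hj => hg j c (fun h => hc (h ▸ hj))), Finset.sum_const,
      Finset.card_insert_of_notMem hc, Nat.choose_succ_succ' s.card 1, Nat.choose_one_right, nsmul_eq_mul]
    push_cast
    ring

theorem SG_le_O' (S : Sys F v) (hg : Gr Q v a) (hQv : ∀ i, Q (v i) = a) : SG F v ≤ O Q := by
  rintro g ⟨σ, ε, hε, h⟩
  have hεε : ε * ε = 1 := by rcases hε with rfl | rfl <;> simp
  have hp : ∀ x y, polar Q (g x) (g y) = polar Q x y := polar_map_eq S hg fun i j => by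
    rw [h, h, QuadraticMap.polar_smul_left, QuadraticMap.polar_smul_right, smul_eq_mul, smul_eq_mul, ← mul_assoc, hεε,
      one_mul]
    by_cases hij : i = j
    · subst hij; rw [gr_self S hg, gr_self S hg]
    · rw [hg i j hij, hg _ _ (fun h => hij (σ.injective h))]
  intro x
  have hx : x ∈ Submodule.span F (Set.range v) := by rw [S.span]; trivial
  induction hx using Submodule.span_induction with
  | mem w hw =>
    obtain ⟨i, rfl⟩ := hw
    rw [h, QuadraticMap.map_smul, hQv, hQv, smul_eq_mul, hεε, one_mul]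
  | zero => rw [map_zero]
  | add b c _ _ hb hc => rw [map_add, Q_add, hb, hc, hp, ← Q_add]
  | smul c b _ hb => rw [map_smul, QuadraticMap.map_smul, hb, ← QuadraticMap.map_smul]

/-- coefficients of the roots -/
theorem rts_coeff' {x : V} (hx : x ∈ rts F v) :
    ∃ c : ι → F, x = ∑ i, c i • v i ∧ ∃ j k, ∀ l, l ≠ j → l ≠ k → c l = 0 := by
  rcases hx with ⟨i, ε, hε, rfl⟩ | ⟨i, j, hij, rfl⟩
  · exact ⟨Pi.single i ε, (sum_single ε i).symm, i, i, fun l hl _ => Pi.single_eq_of_ne hl _⟩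
  · refine ⟨Pi.single i 1 - Pi.single j 1, (sum_sub_single i j).symm, i, j, fun l hl hl' => ?_⟩
    rw [Pi.sub_apply, Pi.single_eq_of_ne hl, Pi.single_eq_of_ne hl', sub_zero]

/-- a sum of at least three of the `v i` is not a root -/
theorem sum_not_mem_rts (S : Sys F v) {s : Finset ι} (h3 : 3 ≤ s.card) (hs : s.card + 3 ≤ Fintype.card ι) :
    ∑ i ∈ s, v i ∉ rts F v := by
  intro hx
  obtain ⟨c, hc, j, k, hjk⟩ := rts_coeff' hx
  have h1 : ∑ i ∈ s, v i = ∑ i, (if i ∈ s then (1 : F) else 0) • v i := by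
    simp only [ite_smul, one_smul, zero_smul, Finset.sum_ite_mem, Finset.univ_inter]
  rw [h1] at hc
  obtain ⟨l, hl⟩ : ∃ l, l ∉ s ∪ {j, k} := exists_not_mem _ (lt_of_le_of_lt (Finset.card_union_le _ _) (by
    have := Finset.card_le_two (a := j) (b := k)
    omega))
  simp only [Finset.mem_union, Finset.mem_insert, Finset.mem_singleton, not_or] at hl
  have h2 := S.eq_of_comb hc (k := l) (by rw [if_neg hl.1, hjk l hl.2.1 hl.2.2])
  obtain ⟨i, hi, hij⟩ : ∃ i ∈ s, i ∉ ({j, k} : Finset ι) := by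
    by_contra hcon
    push Not at hcon
    have h4 := Finset.card_le_card (show s ⊆ {j, k} from hcon)
    have := Finset.card_le_two (a := j) (b := k)
    omega
  simp only [Finset.mem_insert, Finset.mem_singleton, not_or] at hij
  have h5 := congrFun h2 i
  rw [if_pos hi, hjk i hij.1 hij.2] at h5
  exact one_ne_zero h5

theorem not_E_le_stabR' (S : Sys F v) (hg : Gr Q v a) (hQv : ∀ i, Q (v i) = a) (hG : Good Q)
    (h23 : (2 : F) = 0 ∨ (3 : F) = 0) (h8 : 8 ≤ Fintype.card ι) : ¬ E Q ≤ stabR Q v := by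
  intro hle
  obtain ⟨i0, -, -⟩ := S.exists_two
  have hvi : v i0 ∈ rts F v := Or.inl ⟨i0, 1, Or.inl rfl, by rw [one_smul]⟩
  have key : ∀ k : ℕ, 3 ≤ k → k + 3 ≤ Fintype.card ι → (k : F) + (k.choose 2 : F) = 1 → False := by
    intro k hk3 hk hk1
    obtain ⟨s, -, hs⟩ := Finset.exists_subset_card_eq (s := (Finset.univ : Finset ι)) (n := k) (by
      rw [Finset.card_univ]; omega)
    have hQ1 : Q (∑ i ∈ s, v i) = a := by
      rw [map_sum_gr hg hQv, hs, ← add_mul, hk1, one_mul]
    have hne : ∑ i ∈ s, v i ≠ 0 := by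
      intro h0
      apply a_ne S hg hG.nondeg
      rw [← hQ1, h0, QuadraticMap.map_zero]
    obtain ⟨g, hgE, hgv⟩ := hG.trans_norm (S.ne_zero i0) hne (by rw [hQv, hQ1])
    have h1 := ((hle hgE).2 _).1 hvi
    rw [hgv] at h1
    exact sum_not_mem_rts S (by omega) (by omega) h1
  rcases h23 with h | h
  · exact key 5 (by norm_num) (by omega) (by
      rw [show (5 : ℕ).choose 2 = 10 by decide]; push_cast; linear_combination 7 * h)
  · exact key 4 (by norm_num) (by omega) (by
      rw [show (4 : ℕ).choose 2 = 6 by decide]; push_cast; linear_combination 3 * h)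

/-- **No maximal subgroup of `E Q` is contained in `SG`.** -/
theorem not_maximal' (S : Sys F v) (hg : Gr Q v a) (hQv : ∀ i, Q (v i) = a) (hG : Good Q)
    (h23 : (2 : F) = 0 ∨ (3 : F) = 0) (h8 : 8 ≤ Fintype.card ι) {H : Subgroup (V ≃ₗ[F] V)}
    (hH : Cfsg.Geo.IsMaximalIn (E Q) H) : ¬ H ≤ SG F v := by
  intro hHS
  have ha : a ≠ 0 := a_ne S hg hG.nondeg
  have hself : ∀ i, polar Q (v i) (v i) = 2 * a := by
    intro i
    rw [polar_self', hQv]
  have hQv' : ∀ i, Q (v i) ≠ 0 := fun i => by rw [hQv]; exact ha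
  have hr1 : ∀ k, refl Q (v k) (hQv' k) (v k) = -v k := by
    intro k
    rw [refl_apply, hself, hQv]
    have e : a⁻¹ * (2 * a) = 2 := by field_simp
    rw [e, two_smul]; abel
  have hr2 : ∀ k i, k ≠ i → refl Q (v k) (hQv' k) (v i) = v i - v k := by
    intro k i hki
    rw [refl_apply, hg k i hki, hQv, inv_mul_cancel₀ ha, one_smul]
  have hmap : ∀ k, ∀ x ∈ rts F v, refl Q (v k) (hQv' k) x ∈ rts F v := by
    intro k x hx
    rcases hx with ⟨i, ε, hε, rfl⟩ | ⟨i, j, hij, rfl⟩
    · rw [map_smul]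
      refine rts_smul ?_ hε
      by_cases h : k = i
      · subst h
        rw [hr1]
        exact Or.inl ⟨k, -1, Or.inr rfl, by rw [neg_one_smul]⟩
      · rw [hr2 k i h]
        exact Or.inr ⟨i, k, Ne.symm h, rfl⟩
    · rw [map_sub]
      by_cases h : k = i
      · subst h
        rw [hr1, hr2 k j hij]
        refine Or.inl ⟨j, -1, Or.inr rfl, ?_⟩
        rw [neg_one_smul]; abel
      · by_cases h' : k = j
        · subst h'
          rw [hr1, hr2 k i h]
          refine Or.inl ⟨i, 1, Or.inl rfl, ?_⟩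
          rw [one_smul]; abel
        · rw [hr2 k i h, hr2 k j h']
          refine Or.inr ⟨i, j, hij, ?_⟩
          abel
  have hrefl : ∀ k, refl Q (v k) (hQv' k) ∈ stabR Q v := fun k =>
    mem_stabR_of (refl_mem_O _) (hmap k) (by rw [refl_inv]; exact hmap k)
  have hSG : SG F v ≤ stabR Q v := fun g hg' =>
    mem_stabR_of (SG_le_O' S hg hQv hg') (fun x hx => SG_map_rts hg' hx) (fun x hx => SG_map_rts (inv_mem hg') hx)
  have h1 : H ≤ stabR Q v ⊓ E Q := le_inf (hHS.trans hSG) hH.1.le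
  obtain ⟨i, j, hij⟩ := S.exists_two
  have hne : refl Q (v j) (hQv' j) * refl Q (v i) (hQv' i) ∈ stabR Q v ⊓ E Q :=
    ⟨mul_mem (hrefl j) (hrefl i), hG.refl_mul_refl_mem (hQv' i) (hQv' j) (by rw [hQv, hQv])⟩
  rcases hH.2 _ h1 inf_le_right with h | h
  · rw [h] at hne
    obtain ⟨σ, ε, -, hσ⟩ := hHS hne
    obtain ⟨k, hk⟩ := exists_not_mem {i, j} (lt_of_le_of_lt Finset.card_le_two (by omega))
    simp only [Finset.mem_insert, Finset.mem_singleton, not_or] at hk
    have h4 := hσ k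
    change refl Q (v j) (hQv' j) (refl Q (v i) (hQv' i) (v k)) = _ at h4
    rw [hr2 i k (Ne.symm hk.1), map_sub, hr2 j k (Ne.symm hk.2), hr2 j i (Ne.symm hij)] at h4
    have h5 : v k - v i = ε • v (σ k) := by rw [← h4]; abel
    obtain ⟨l, hl⟩ := exists_not_mem {k, i, σ k} (lt_of_le_of_lt Finset.card_le_three (by omega))
    simp only [Finset.mem_insert, Finset.mem_singleton, not_or] at hl
    have h7 := S.eq_of_comb (c := Pi.single k 1 - Pi.single i 1) (d := Pi.single (σ k) ε) (by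
      rw [sum_sub_single, sum_single, h5]) (k := l) (by
      rw [Pi.sub_apply, Pi.single_eq_of_ne hl.1, Pi.single_eq_of_ne hl.2.1, Pi.single_eq_of_ne hl.2.2, sub_zero])
    have h8 := congrFun h7 k
    have h9 := congrFun h7 i
    rw [Pi.sub_apply, Pi.single_eq_same, Pi.single_eq_of_ne hk.1, sub_zero] at h8
    rw [Pi.sub_apply, Pi.single_eq_same, Pi.single_eq_of_ne (Ne.symm hk.1), zero_sub] at h9
    by_cases hσk : σ k = k
    · rw [hσk, Pi.single_eq_of_ne (Ne.symm hk.1)] at h9
      exact one_ne_zero (α := F) (by linear_combination -h9)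
    · rw [Pi.single_eq_of_ne (Ne.symm hσk)] at h8
      exact one_ne_zero h8
  · exact not_E_le_stabR' S hg hQv hG h23 h8 (inf_eq_right.1 h)

/-- **Abstract form.** `P` irreducible on `V`, `dim V = 10`, `K ≤ P` of index 11 fixes `v0 ≠ 0`, `P = K ∪ K g K`, `P`
normal in the maximal subgroup `H` of `E Q` and `H` permutes the lines spanned by the images of `v0`: the characteristic
is neither 2 nor 3. -/
theorem char_ne [Finite F] {P H : Subgroup (V ≃ₗ[F] V)} {K : Subgroup P} {v0 : V} (hG : Good Q)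
    (hH : Cfsg.Geo.IsMaximalIn (E Q) H) (hPH : P ≤ H)
    (hn : ∀ h ∈ H, ∀ x ∈ P, h * x * h⁻¹ ∈ P) (hirr : Irr P) (hd : Module.finrank F V = 10)
    (hK : K.index = 11) (h0 : v0 ≠ 0) (hfix : ∀ k ∈ K, (k : V ≃ₗ[F] V) v0 = v0)
    (hdc : ∀ g ∉ K, ∀ g' ∉ K, ∃ k ∈ K, ∃ k' ∈ K, g' = k * g * k') (hl : Lines P H v0) :
    (11 : F) ≠ 0 ∧ (2 : F) ≠ 0 ∧ (3 : F) ≠ 0 := by
  classical
  have hfinV : Module.Finite F V := Module.finite_of_finrank_pos (by omega)
  have : Finite V := Module.finite_of_finite F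
  have : Finite (V ≃ₗ[F] V) := by
    refine Finite.of_injective (fun f : V ≃ₗ[F] V => (f : V → V)) ?_
    intro f g hfg
    exact LinearEquiv.ext fun x => congrFun hfg x
  have : Fintype (P ⧸ K) := Fintype.ofFinite _
  have S : Sys F (orb P K v0) := sys_orb hirr (by rw [hK, hd]) (by omega) h0 hfix
  have hcard : Fintype.card (P ⧸ K) = 11 := by rw [S.card, hd]
  have hPO : P ≤ O Q := (hPH.trans hH.1.le).trans E_le_O
  obtain ⟨a, hg⟩ := gr_orb (K := K) (v0 := v0) hPO hfix hdc
  have ha : a ≠ 0 := a_ne S hg hG.nondeg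
  have hSG : H ≤ SG F (orb P K v0) := le_SG S hg ha (by omega) (hH.1.le.trans E_le_O) hfix hn hl
  have h11 : (11 : F) ≠ 0 := by
    have h1 := card_ne S hg hG.nondeg (by omega)
    rw [hcard] at h1
    exact_mod_cast h1
  have hQb : ∀ i, Q (orb P K v0 i) = Q v0 := by
    intro i
    induction i using QuotientGroup.induction_on with
    | H g => rw [orb_mk hfix]; exact hPO g.2 v0
  have hsum := map_sum_gr hg hQb Finset.univ
  rw [S.sum, QuadraticMap.map_zero, Finset.card_univ, hcard, show (11 : ℕ).choose 2 = 55 by decide] at hsum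
  have hb : Q v0 = -5 * a := by
    have h2 : (11 : F) * (Q v0 + 5 * a) = 0 := by
      push_cast at hsum
      linear_combination -hsum
    have h3 := (mul_eq_zero.1 h2).resolve_left h11
    linear_combination h3
  refine ⟨h11, fun h2 => ?_, fun h3 => ?_⟩
  · refine not_maximal' S hg (fun i => ?_) hG (Or.inl h2) (by omega) hH hSG
    rw [hQb, hb]
    linear_combination (-3 * a) * h2
  · refine not_maximal' S hg (fun i => ?_) hG (Or.inr h3) (by omega) hH hSG
    rw [hQb, hb]
    linear_combination (-2 * a) * h3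

end abs

open Cfsg Cfsg.Geo Matrix Cfsg.Agent.H915.LD

universe u

/-- **The matrix form.** -/
theorem Cx.eleven {F : Type u} [Field F] [Finite F] {p : ℕ} {Q : (Fin 10 → F) → F} {H P : Subgroup (GL (Fin 10) F)}
    (h : Cx p Q H P)
    {K : Subgroup P} (hK : K.index = 11) {v0 : Fin 10 → F} (h0 : v0 ≠ 0)
    (hfix : ∀ k ∈ K, ((k : GL (Fin 10) F) : Matrix (Fin 10) (Fin 10) F) *ᵥ v0 = v0)
    (hdc : ∀ g ∉ K, ∀ g' ∉ K, ∃ k ∈ K, ∃ k' ∈ K, g' = k * g * k')
    (hl : ∀ x ∈ H, ∃ g ∈ P, ∃ c : F, (x : Matrix (Fin 10) (Fin 10) F) *ᵥ v0 =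
      c • ((g : Matrix (Fin 10) (Fin 10) F) *ᵥ v0)) :
    Nonempty (Soc P ≃* alternatingGroup (Fin 11)) ∧ (11 : F) ≠ 0 ∧ (2 : F) ≠ 0 ∧ (3 : F) ≠ 0 := by
  obtain ⟨R, hR, hRn⟩ := H883.Bridge.exists_quadraticForm h.hQ
  have hG : Good R := H883.Bridge.good_of_card hRn (by rw [Fintype.card_fin]; norm_num)
  have hHR : IsMaximalIn (omegaGL (R : (Fin 10 → F) → F)) H := by rw [hR]; exact h.hH
  have hC := h.core
  let E0 := glEquiv (Fin 10) F
  have hap : ∀ (g : GL (Fin 10) F) (v : Fin 10 → F), E0 g v = (g : Matrix (Fin 10) (Fin 10) F) *ᵥ v :=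
    fun g v => glEquiv_apply g v
  let P' : Subgroup ((Fin 10 → F) ≃ₗ[F] (Fin 10 → F)) := P.map E0.toMonoidHom
  let H' : Subgroup ((Fin 10 → F) ≃ₗ[F] (Fin 10 → F)) := H.map E0.toMonoidHom
  let eP : P ≃* P' := E0.subgroupMap P
  have heP : ∀ g : P, ((eP g : P') : (Fin 10 → F) ≃ₗ[F] (Fin 10 → F)) = E0 (g : GL (Fin 10) F) := fun _ => rfl
  let K' : Subgroup P' := K.map eP.toMonoidHom
  have hKmem : ∀ g : P, eP g ∈ K' ↔ g ∈ K := fun g => Subgroup.mem_map_iff_mem eP.injective
  have hsurj : ∀ g' : P', ∃ g : P, eP g = g' := eP.surjective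
  have hH' : IsMaximalIn (E R) H' := by
    have h1 := (H883.Bridge.isMaximalIn_map_iff E0 (omegaGL (R : (Fin 10 → F) → F)) H).2 hHR
    rwa [H883.Bridge.map_omegaGL_eq_E hG] at h1
  have hfin : Module.finrank F (Fin 10 → F) = 10 := by simp
  obtain ⟨h11, h2, h3⟩ := char_ne (P := P') (H := H') (K := K') (v0 := v0) (Q := R) hG hH'
    (Subgroup.map_mono h.hc.le)
    (by
      rintro _ ⟨y, hy, rfl⟩ _ ⟨x, hx, rfl⟩
      refine ⟨y * x * y⁻¹, h.hc.normal y hy x hx, ?_⟩
      simp)
    (by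
      intro W hW
      refine hC.absIrred.1 W fun s hs => ?_
      obtain ⟨g, hg, rfl⟩ := hs
      rintro _ ⟨w, hw, rfl⟩
      have := hW (E0 g) ⟨g, hg, rfl⟩ w hw
      rw [hap] at this
      rwa [Matrix.toLin'_apply])
    hfin
    (by
      rw [← hK]
      exact Subgroup.index_map_equiv K eP)
    h0
    (by
      intro k hk
      obtain ⟨g, rfl⟩ := hsurj k
      rw [heP, hap]
      exact hfix g ((hKmem g).1 hk))
    (by
      intro g hg g' hg'
      obtain ⟨g, rfl⟩ := hsurj g
      obtain ⟨g', rfl⟩ := hsurj g'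
      rw [hKmem] at hg hg'
      obtain ⟨k, hk, k', hk', e⟩ := hdc g hg g' hg'
      exact ⟨eP k, (hKmem k).2 hk, eP k', (hKmem k').2 hk', by rw [e, map_mul, map_mul]⟩)
    (by
      rintro _ ⟨x, hx, rfl⟩
      obtain ⟨g, hg, c, e⟩ := hl x hx
      refine ⟨E0 g, ⟨g, hg, rfl⟩, c, ?_⟩
      change E0 x v0 = c • E0 g v0
      rw [hap, hap, e])
  refine ⟨?_, h11, h2, h3⟩
  have h4 := mat_main h2 hRn (by rw [Fintype.card_fin]; norm_num) hHR h.hc (K := K)
    (by rw [hK, Fintype.card_fin]) h0 hfix hdc hl (m := 11) (by rw [Fintype.card_fin])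
  exact h4.1

end Cfsg.Agent.H933.O10
end

-- part: H933/O10/DelTwelve
section
set_option linter.all false
open scoped Cfsg.Agent.FastGrp

/-!
# Twelve points (helper933)

`V` of dimension 10 spanned by vectors `W i j`, `i, j : Fin 12`, `W i j + W j k = W i k`, `∑ j, W j z = 0` (the heart of
the permutation module of degree 12 in characteristic 2 or 3).

* `W12.perm` : the action of `Perm (Fin 12)`;
* `Cx.twelve` : `H` maximal in `omegaGL Q` with core `P`, `P` permutes the twelve points 2-transitively and `H` preserves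
  the set of the `W i j`: then `Soc P ≃ A₁₂`.
-/

set_option autoImplicit false
set_option linter.unusedSectionVars false

namespace Cfsg.Agent.H933.O10

open QuadraticMap hiding proj
open Cfsg.Agent.LieClassical.OrthCore Cfsg.Agent.LieClassical.OrthTrans Cfsg.Agent.LieClassical.OrthFinite
open Cfsg.Agent.H882.Del

section abs

variable {F : Type*} [Field F] {V : Type*} [AddCommGroup V] [Module F V]

/-- The heart of the permutation module of degree 12. -/
structure W12 (F : Type*) [Field F] {V : Type*} [AddCommGroup V] [Module F V] (W : Fin 12 → Fin 12 → V) : Prop where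
  add : ∀ i j k, W i j + W j k = W i k
  sum : ∀ z, ∑ j, W j z = 0
  span : Submodule.span F (Set.range fun x : Fin 12 × Fin 12 => W x.1 x.2) = ⊤
  dim : Module.finrank F V = 10

namespace W12

variable {W : Fin 12 → Fin 12 → V} (w : W12 F W)

include w

theorem self (i : Fin 12) : W i i = 0 := by
  have := w.add i i i
  rwa [add_eq_left] at this

theorem neg (i j : Fin 12) : W j i = -W i j := by
  rw [eq_neg_iff_add_eq_zero, w.add, w.self]

theorem eq_sub (i j z : Fin 12) : W i j = W i z - W j z := by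
  rw [eq_sub_iff_add_eq, w.add]

/-- the vectors `W i 11` -/
theorem sys : Sys F (fun i : Fin 11 => W i.castSucc (Fin.last 11)) where
  span := by
    rw [eq_top_iff, ← w.span, Submodule.span_le]
    rintro _ ⟨⟨i, j⟩, rfl⟩
    have h : ∀ i, W i (Fin.last 11) ∈ Submodule.span F (Set.range fun i : Fin 11 => W i.castSucc (Fin.last 11)) := by
      intro i
      induction i using Fin.lastCases with
      | last => rw [w.self]; exact Submodule.zero_mem _
      | cast i => exact Submodule.subset_span ⟨i, rfl⟩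
    change W i j ∈ _
    rw [w.eq_sub i j (Fin.last 11)]
    exact Submodule.sub_mem _ (h i) (h j)
  card := by rw [w.dim, Fintype.card_fin]
  pos := by rw [w.dim]; norm_num
  sum := by
    have h := w.sum (Fin.last 11)
    rwa [Fin.sum_univ_castSucc, w.self, add_zero] at h

theorem exists_equiv (σ : Equiv.Perm (Fin 12)) : ∃ f : V ≃ₗ[F] V, ∀ i j, f (W i j) = W (σ i) (σ j) := by
  have h1 : ∀ σ : Equiv.Perm (Fin 12), ∑ i : Fin 11, W (σ i.castSucc) (σ (Fin.last 11)) = 0 := by
    intro σ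
    have h := w.sum (σ (Fin.last 11))
    rw [← Equiv.sum_comp σ, Fin.sum_univ_castSucc, w.self, add_zero] at h
    exact h
  have h2 : ∀ σ : Equiv.Perm (Fin 12), ∃ f : V →ₗ[F] V, ∀ i j, f (W i j) = W (σ i) (σ j) := by
    intro σ
    obtain ⟨f, hf⟩ := w.sys.exists_map _ (h1 σ)
    have h3 : ∀ i, f (W i (Fin.last 11)) = W (σ i) (σ (Fin.last 11)) := by
      intro i
      induction i using Fin.lastCases with
      | last => rw [w.self, map_zero, w.self]
      | cast i => exact hf i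
    refine ⟨f, fun i j => ?_⟩
    rw [w.eq_sub i j (Fin.last 11), map_sub, h3, h3, ← w.eq_sub]
  obtain ⟨f, hf⟩ := h2 σ
  obtain ⟨g, hg⟩ := h2 σ⁻¹
  refine ⟨LinearEquiv.ofLinearMap f g (w.sys.ext fun i => ?_) (w.sys.ext fun i => ?_), fun i j => hf i j⟩
  · rw [LinearMap.comp_apply, hg, hf, LinearMap.id_apply]
    exact congrArg₂ W (σ.apply_symm_apply _) (σ.apply_symm_apply _)
  · rw [LinearMap.comp_apply, hf, hg, LinearMap.id_apply]
    exact congrArg₂ W (σ.symm_apply_apply _) (σ.symm_apply_apply _)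

theorem ext' {f g : V ≃ₗ[F] V} (h : ∀ i j, f (W i j) = g (W i j)) : f = g := w.sys.ext' fun _ => h _ _

/-- The action of the symmetric group of degree 12. -/
noncomputable def perm : Equiv.Perm (Fin 12) →* (V ≃ₗ[F] V) where
  toFun σ := Classical.choose (w.exists_equiv σ)
  map_one' := w.ext' fun i j => Classical.choose_spec (w.exists_equiv 1) i j
  map_mul' σ τ := w.ext' fun i j => by
    rw [Classical.choose_spec (w.exists_equiv (σ * τ)) i j]
    show _ = (Classical.choose (w.exists_equiv σ)) ((Classical.choose (w.exists_equiv τ)) (W i j))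
    rw [Classical.choose_spec (w.exists_equiv τ) i j, Classical.choose_spec (w.exists_equiv σ) (τ i) (τ j)]
    rfl

theorem perm_apply (σ : Equiv.Perm (Fin 12)) (i j : Fin 12) : w.perm σ (W i j) = W (σ i) (σ j) :=
  Classical.choose_spec (w.exists_equiv σ) i j

theorem mem_rts {x : V} : x ∈ rts F (fun i : Fin 11 => W i.castSucc (Fin.last 11)) ↔ ∃ i j, i ≠ j ∧ x = W i j := by
  constructor
  · rintro (⟨i, ε, hε, rfl⟩ | ⟨i, j, hij, rfl⟩)
    · rcases hε with rfl | rfl
      · exact ⟨i.castSucc, Fin.last 11, (Fin.castSucc_lt_last i).ne, one_smul _ _⟩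
      · refine ⟨Fin.last 11, i.castSucc, (Fin.castSucc_lt_last i).ne', ?_⟩
        rw [neg_one_smul, w.neg]
    · exact ⟨i.castSucc, j.castSucc, fun h => hij (Fin.castSucc_injective 11 h), (w.eq_sub _ _ _).symm⟩
  · rintro ⟨i, j, hij, rfl⟩
    induction i using Fin.lastCases with
    | last =>
      induction j using Fin.lastCases with
      | last => exact absurd rfl hij
      | cast j => exact Or.inl ⟨j, -1, Or.inr rfl, by rw [neg_one_smul, w.neg]⟩
    | cast i =>
      induction j using Fin.lastCases with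
      | last => exact Or.inl ⟨i, 1, Or.inl rfl, (one_smul _ _).symm⟩
      | cast j =>
        exact Or.inr ⟨i, j, fun h => hij (by rw [h]), w.eq_sub _ _ _⟩

section form

variable {Q : QuadraticForm F V} {a : F} (hQ : ∀ i j, i ≠ j → Q (W i j) = a)

include hQ

theorem polar_eq {i j z : Fin 12} (hij : i ≠ j) (hiz : i ≠ z) (hjz : j ≠ z) : polar Q (W i z) (W j z) = a := by
  have h1 : Q (W i j) = a := hQ i j hij
  rw [w.eq_sub i j z, sub_eq_add_neg, Q_add, QuadraticMap.map_neg, QuadraticMap.polar_neg_right, hQ i z hiz,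
    hQ j z hjz] at h1
  linear_combination -h1

theorem gr : Gr Q (fun i : Fin 11 => W i.castSucc (Fin.last 11)) a := fun i j hij =>
  w.polar_eq hQ (fun h => hij (Fin.castSucc_injective 11 h)) (Fin.castSucc_lt_last i).ne (Fin.castSucc_lt_last j).ne

theorem q_sys (i : Fin 11) : Q (W i.castSucc (Fin.last 11)) = a := hQ _ _ (Fin.castSucc_lt_last i).ne

theorem perm_mem_O (σ : Equiv.Perm (Fin 12)) : w.perm σ ∈ O Q := by
  have hp : ∀ x y, polar Q (w.perm σ x) (w.perm σ y) = polar Q x y := polar_map_eq w.sys (w.gr hQ) fun i j => by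
    rw [w.perm_apply, w.perm_apply]
    by_cases hij : i = j
    · subst hij
      rw [polar_self', polar_self', w.q_sys hQ, hQ _ _ fun h => (Fin.castSucc_lt_last i).ne (σ.injective h)]
    · rw [w.gr hQ i j hij]
      exact w.polar_eq hQ (fun h => hij (Fin.castSucc_injective 11 (σ.injective h)))
        (fun h => (Fin.castSucc_lt_last i).ne (σ.injective h)) (fun h => (Fin.castSucc_lt_last j).ne (σ.injective h))
  intro x
  have hx : x ∈ Submodule.span F (Set.range fun i : Fin 11 => W i.castSucc (Fin.last 11)) := by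
    rw [w.sys.span]; trivial
  induction hx using Submodule.span_induction with
  | mem u hu =>
    obtain ⟨i, rfl⟩ := hu
    change Q (w.perm σ (W i.castSucc (Fin.last 11))) = Q (W i.castSucc (Fin.last 11))
    rw [w.perm_apply, w.q_sys hQ, hQ _ _ fun h => (Fin.castSucc_lt_last i).ne (σ.injective h)]
  | zero => rw [map_zero]
  | add b c _ _ hb hc => rw [map_add, Q_add, hb, hc, hp, ← Q_add]
  | smul c b _ hb => rw [map_smul, QuadraticMap.map_smul, hb, ← QuadraticMap.map_smul]

theorem perm_mem_stabR (σ : Equiv.Perm (Fin 12)) :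
    w.perm σ ∈ stabR Q (fun i : Fin 11 => W i.castSucc (Fin.last 11)) := by
  have h : ∀ σ : Equiv.Perm (Fin 12), ∀ x ∈ rts F (fun i : Fin 11 => W i.castSucc (Fin.last 11)),
      w.perm σ x ∈ rts F (fun i : Fin 11 => W i.castSucc (Fin.last 11)) := by
    intro σ x hx
    obtain ⟨i, j, hij, rfl⟩ := w.mem_rts.1 hx
    rw [w.perm_apply]
    exact w.mem_rts.2 ⟨_, _, fun h => hij (σ.injective h), rfl⟩
  refine mem_stabR_of (w.perm_mem_O hQ σ) (h σ) fun x hx => ?_
  rw [← map_inv]
  exact h σ⁻¹ x hx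

theorem alt_le_E (hG : Good Q) : (alternatingGroup (Fin 12)).map w.perm ≤ E Q := by
  rw [← hG.commutator_eq_E, ← alternatingGroup.commutator_perm_eq (α := Fin 12) (by simp), commutator_def,
    Subgroup.map_commutator]
  refine Subgroup.commutator_mono ?_ ?_ <;>
  · rintro _ ⟨σ, -, rfl⟩
    exact w.perm_mem_O hQ σ

end form

/-- **Abstract form.** -/
theorem equiv_alt {Q : QuadraticForm F V} {a : F} (hG : Good Q) (hQ : ∀ i j, i ≠ j → Q (W i j) = a) (h23 : (2 : F) = 0 ∨ (3 : F) = 0)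
    {P H : Subgroup (V ≃ₗ[F] V)} (hH : Cfsg.Geo.IsMaximalIn (E Q) H) (_hPH : P ≤ H)
    (hn : ∀ h ∈ H, ∀ x ∈ P, h * x * h⁻¹ ∈ P) (hp : ⁅P, P⁆ = P) (hne : P ≠ ⊥)
    (hPW : ∀ g ∈ P, ∃ σ : Equiv.Perm (Fin 12), ∀ i j, g (W i j) = W (σ i) (σ j))
    (hHW : ∀ h ∈ H, ∀ i j, i ≠ j → ∃ k l, k ≠ l ∧ h (W i j) = W k l) :
    Nonempty (P ≃* alternatingGroup (Fin 12)) := by
  set v : Fin 11 → V := fun i : Fin 11 => W i.castSucc (Fin.last 11) with hv
  have S : Sys F v := w.sys
  have hHR : H ≤ stabR Q v := by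
    have h1 : ∀ h ∈ H, ∀ x ∈ rts F v, h x ∈ rts F v := by
      intro h hh x hx
      obtain ⟨i, j, hij, rfl⟩ := w.mem_rts.1 hx
      obtain ⟨k, l, hkl, e⟩ := hHW h hh i j hij
      rw [e]
      exact w.mem_rts.2 ⟨k, l, hkl, rfl⟩
    exact fun h hh => mem_stabR_of (E_le_O (hH.1.le hh)) (h1 h hh) (h1 h⁻¹ (inv_mem hh))
  have hHE : stabR Q v ⊓ E Q = H := by
    rcases hH.2 _ (le_inf hHR hH.1.le) inf_le_right with h | h
    · exact h
    · exact absurd (inf_eq_right.1 h) (not_E_le_stabR' S (w.gr hQ) (w.q_sys hQ) hG h23 (by rw [Fintype.card_fin]; norm_num))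
  have hAH : (alternatingGroup (Fin 12)).map w.perm ≤ H := by
    rw [← hHE]
    refine le_inf ?_ (w.alt_le_E hQ hG)
    rintro _ ⟨σ, -, rfl⟩
    exact w.perm_mem_stabR hQ σ
  have hPA : P ≤ (alternatingGroup (Fin 12)).map w.perm := by
    have h1 : P ≤ (⊤ : Subgroup (Equiv.Perm (Fin 12))).map w.perm := by
      intro g hg
      obtain ⟨σ, hσ⟩ := hPW g hg
      exact ⟨σ, trivial, w.ext' fun i j => by rw [w.perm_apply, hσ]⟩
    rw [← hp]
    refine (Subgroup.commutator_mono h1 h1).trans ?_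
    rw [← Subgroup.map_commutator, ← commutator_def, alternatingGroup.commutator_perm_eq (α := Fin 12) (by simp)]
  let f : alternatingGroup (Fin 12) →* (V ≃ₗ[F] V) := w.perm.comp (alternatingGroup (Fin 12)).subtype
  have hf : ∀ σ, f σ ∈ (alternatingGroup (Fin 12)).map w.perm := fun σ => ⟨σ, σ.2, rfl⟩
  have hN : (P.comap f).Normal := by
    constructor
    intro n hn' g
    rw [Subgroup.mem_comap, map_mul, map_mul, map_inv]
    exact hn _ (hAH (hf g)) _ hn'
  have hs : IsSimpleGroup (alternatingGroup (Fin 12)) := alternatingGroup.isSimpleGroup (by simp)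
  have hPe : P = (alternatingGroup (Fin 12)).map w.perm := by
    refine le_antisymm hPA ?_
    rcases hs.eq_bot_or_eq_top_of_normal _ hN with h | h
    · exfalso
      apply hne
      rw [Subgroup.eq_bot_iff_forall]
      intro x hx
      obtain ⟨σ, hσ, rfl⟩ := hPA hx
      have h1 : (⟨σ, hσ⟩ : alternatingGroup (Fin 12)) ∈ P.comap f := hx
      rw [h, Subgroup.mem_bot] at h1
      have h3 : σ = 1 := congrArg Subtype.val h1
      rw [h3, map_one]
    · rintro _ ⟨σ, hσ, rfl⟩
      have h1 : (⟨σ, hσ⟩ : alternatingGroup (Fin 12)) ∈ P.comap f := by rw [h]; trivial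
      exact h1
  have hfr : (alternatingGroup (Fin 12)).map w.perm = f.range := by
    rw [MonoidHom.range_comp, Subgroup.range_subtype]
  have hinj : Function.Injective f := by
    rw [← MonoidHom.ker_eq_bot_iff]
    rcases hs.eq_bot_or_eq_top_of_normal _ (MonoidHom.normal_ker f) with h | h
    · exact h
    · exfalso
      apply hne
      rw [hPe, hfr, Subgroup.eq_bot_iff_forall]
      rintro _ ⟨x, rfl⟩
      have h1 : x ∈ f.ker := by rw [h]; trivial
      exact h1
  exact ⟨(MulEquiv.subgroupCongr (hPe.trans hfr)).trans (MonoidHom.ofInjective hinj).symm⟩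

end W12

end abs

open Cfsg Cfsg.Geo Matrix Cfsg.Agent.H915.LD

universe u

/-- **The matrix form.** `W i j` = `e_i - e_j` in the heart of the permutation module of degree 12. -/
theorem Cx.twelve {F : Type u} [Field F] [Finite F] {p : ℕ} {Q : (Fin 10 → F) → F} {H P : Subgroup (GL (Fin 10) F)}
    (h : Cx p Q H P) (h23 : (2 : F) = 0 ∨ (3 : F) = 0) {W : Fin 12 → Fin 12 → (Fin 10 → F)}
    (hadd : ∀ i j k, W i j + W j k = W i k) (hne : ∃ i j, W i j ≠ 0)
    (hPW : ∀ g ∈ P, ∃ σ : Equiv.Perm (Fin 12), ∀ i j, (g : Matrix (Fin 10) (Fin 10) F) *ᵥ W i j = W (σ i) (σ j))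
    (htr : ∀ i j k l, i ≠ j → k ≠ l → ∃ g ∈ P, (g : Matrix (Fin 10) (Fin 10) F) *ᵥ W i j = W k l)
    (hHW : ∀ x ∈ H, ∀ i j, i ≠ j → ∃ k l, k ≠ l ∧ (x : Matrix (Fin 10) (Fin 10) F) *ᵥ W i j = W k l) :
    Nonempty (Soc P ≃* alternatingGroup (Fin 12)) := by
  obtain ⟨R, hR, hRn⟩ := H883.Bridge.exists_quadraticForm h.hQ
  have hG : Good R := H883.Bridge.good_of_card hRn (by rw [Fintype.card_fin]; norm_num)
  have hHR : IsMaximalIn (omegaGL (R : (Fin 10 → F) → F)) H := by rw [hR]; exact h.hH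
  have hC := h.core
  have h12 : (12 : F) = 0 := by
    rcases h23 with h | h
    · linear_combination 6 * h
    · linear_combination 4 * h
  have hself : ∀ i, W i i = 0 := fun i => by
    have := hadd i i i
    rwa [add_eq_left] at this
  have hw : W12 F W :=
    { add := hadd
      sum := by
        have hc : ∀ z z', ∑ j, W j z = ∑ j, W j z' := by
          intro z z'
          rw [← sub_eq_zero, ← Finset.sum_sub_distrib]
          have h1 : ∀ j, W j z - W j z' = W z' z := by
            intro j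
            rw [sub_eq_iff_eq_add, add_comm, hadd]
          rw [Finset.sum_congr rfl fun j _ => h1 j, Finset.sum_const, Finset.card_univ, Fintype.card_fin,
            ← Nat.cast_smul_eq_nsmul F, show ((12 : ℕ) : F) = 0 by exact_mod_cast h12, zero_smul]
        intro z
        by_contra hz
        refine H879.TL.no_fixed_vector hC hz fun g hg => ?_
        obtain ⟨σ, hσ⟩ := hPW g hg
        rw [← Matrix.toLin'_apply, map_sum]
        simp only [Matrix.toLin'_apply, hσ]
        rw [Equiv.sum_comp σ fun j => W j (σ z), hc _ z]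
      span := by
        rcases hC.absIrred.1 (Submodule.span F (Set.range fun x : Fin 12 × Fin 12 => W x.1 x.2)) (by
          rintro _ ⟨g, hg, rfl⟩
          rw [Submodule.map_span_le]
          rintro _ ⟨⟨i, j⟩, rfl⟩
          obtain ⟨σ, hσ⟩ := hPW g hg
          rw [Matrix.toLin'_apply]
          change (g : Matrix (Fin 10) (Fin 10) F) *ᵥ W i j ∈ _
          rw [hσ]
          exact Submodule.subset_span ⟨(σ i, σ j), rfl⟩) with h1 | h1
        · exfalso
          obtain ⟨i, j, hij⟩ := hne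
          exact hij ((Submodule.mem_bot F).1 (h1 ▸ Submodule.subset_span ⟨(i, j), rfl⟩))
        · exact h1
      dim := by simp }
  obtain ⟨a, ha⟩ : ∃ a, ∀ i j, i ≠ j → R (W i j) = a := by
    refine ⟨R (W 0 1), fun i j hij => ?_⟩
    obtain ⟨g, hg, e⟩ := htr 0 1 i j (by decide) hij
    rw [← e, hR]
    exact fix_of_mem_omegaGL (h.le_omega hg) _
  let E0 := glEquiv (Fin 10) F
  have hap : ∀ (g : GL (Fin 10) F) (v : Fin 10 → F), E0 g v = (g : Matrix (Fin 10) (Fin 10) F) *ᵥ v :=
    fun g v => glEquiv_apply g v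
  let P' : Subgroup ((Fin 10 → F) ≃ₗ[F] (Fin 10 → F)) := P.map E0.toMonoidHom
  let H' : Subgroup ((Fin 10 → F) ≃ₗ[F] (Fin 10 → F)) := H.map E0.toMonoidHom
  let eP : P ≃* P' := E0.subgroupMap P
  have hH' : IsMaximalIn (E R) H' := by
    have h1 := (H883.Bridge.isMaximalIn_map_iff E0 (omegaGL (R : (Fin 10 → F) → F)) H).2 hHR
    rwa [H883.Bridge.map_omegaGL_eq_E hG] at h1
  obtain ⟨e⟩ := hw.equiv_alt (P := P') (H := H') hG ha h23 hH' (Subgroup.map_mono h.hc.le)
    (by
      rintro _ ⟨y, hy, rfl⟩ _ ⟨x, hx, rfl⟩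
      refine ⟨y * x * y⁻¹, h.hc.normal y hy x hx, ?_⟩
      simp)
    (by
      change ⁅P.map E0.toMonoidHom, P.map E0.toMonoidHom⁆ = _
      rw [← Subgroup.map_commutator, h.hc.perfect])
    (by
      intro hb
      have h1 : P = ⊥ := (Subgroup.map_eq_bot_iff_of_injective P (f := E0.toMonoidHom) E0.injective).1 hb
      subst h1
      exact hC.nonabelian ⟨⟨fun a b => by
        induction a using QuotientGroup.induction_on with
        | H a =>
          induction b using QuotientGroup.induction_on with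
          | H b => rw [Subsingleton.elim a b]⟩⟩)
    (by
      rintro _ ⟨g, hg, rfl⟩
      obtain ⟨σ, hσ⟩ := hPW g hg
      refine ⟨σ, fun i j => ?_⟩
      change E0 g (W i j) = _
      rw [hap, hσ])
    (by
      rintro _ ⟨x, hx, rfl⟩ i j hij
      obtain ⟨k, l, hkl, e⟩ := hHW x hx i j hij
      refine ⟨k, l, hkl, ?_⟩
      change E0 x (W i j) = _
      rw [hap, e])
  exact soc_equiv hC (alternatingGroup.isSimpleGroup (by simp)) (eP.trans e)

end Cfsg.Agent.H933.O10
end

-- part: H870/MEleven/Main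
section
prune_inst 0x420007404032202000000000230000070080000020008080080800a44020040000902080008300012102000006000006000100080400000000000000000010020800040000200000004008f000000000000000000000000000000000000000000000000000
set_option linter.all false
open scoped Cfsg.Agent.FastGrp

-- part: H870/MEleven/Lin
section
/-!
# Operators of order 11 on a vector space of dimension 10 over the field with two elements (helper870)

`A : Matrix ι ι F`, `|F| = 2`, `|ι| = 10`, `A ^ 11 = 1`, `A ≠ 1`.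

* `inv_cases` : invariant subspaces are `0` and everything; `no_fix`, `sum_pow_eq_zero`;
* `trace_eq_one` : the trace is 1;
* `exists_aeval` : matrices commuting with `A` are polynomials in `A`;
* `comm_cases` : if `Y A = A ^ 4 Y`, then matrices commuting with `A` and `Y` are `0`, `1` or satisfy `Z ^ 2 + Z + 1 = 0`.
-/

set_option autoImplicit false
set_option linter.unusedSectionVars false

namespace Cfsg.Agent.H870.MEleven

open Matrix Module Polynomial

universe u

variable {F : Type u} [Field F] [Fintype F] {ι : Type} [Fintype ι] [DecidableEq ι] {A : Matrix ι ι F}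

/-! ### counting -/

theorem sq_eq (hF : Fintype.card F = 2) (a : F) : a ^ 2 = a := by
  have := FiniteField.pow_card a
  rwa [hF] at this

theorem two_eq_zero (hF : Fintype.card F = 2) : (2 : F) = 0 := by
  have := FiniteField.cast_card_eq_zero F
  rw [hF] at this
  exact_mod_cast this

theorem add_self' (hF : Fintype.card F = 2) (a : F) : a + a = 0 := by
  rw [← two_mul, two_eq_zero hF, zero_mul]

theorem zero_or_one (hF : Fintype.card F = 2) (a : F) : a = 0 ∨ a = 1 := by
  have h := sq_eq hF a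
  have h1 : a * (a - 1) = 0 := by linear_combination h
  rcases mul_eq_zero.1 h1 with h2 | h2
  · exact Or.inl h2
  · exact Or.inr (sub_eq_zero.1 h2)

/-- the trace of a square -/
theorem trace_sq (hF : Fintype.card F = 2) (M : Matrix ι ι F) : (M * M).trace = M.trace := by
  have h := FiniteField.trace_pow_card M
  rw [hF, sq_eq hF, pow_two] at h
  exact h

/-- the fixed space -/
def fixS (A : Matrix ι ι F) : Submodule F (ι → F) := LinearMap.ker (Matrix.toLin' A - 1)

theorem mem_fixS {v : ι → F} : v ∈ fixS A ↔ A *ᵥ v = v := by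
  rw [fixS, LinearMap.mem_ker, LinearMap.sub_apply, Matrix.toLin'_apply, sub_eq_zero]
  rfl

theorem modEq_fix (hF : Fintype.card F = 2) (hA : A ^ 11 = 1) {U : Submodule F (ι → F)} (hU : ∀ u ∈ U, A *ᵥ u ∈ U) :
    2 ^ finrank F U ≡ 2 ^ finrank F (U ⊓ fixS A : Submodule F (ι → F)) [MOD 11] := by
  classical
  have : Fact (Nat.Prime 11) := ⟨by norm_num⟩
  let f : Function.End U := fun u => ⟨A *ᵥ u, hU u u.2⟩
  have hf : f ^ 11 ^ 1 = 1 := by
    funext u
    apply Subtype.ext
    have key : ∀ n : ℕ, (((f ^ n) u : U) : ι → F) = (A ^ n) *ᵥ (u : ι → F) := by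
      intro n
      induction n with
      | zero => rw [pow_zero, pow_zero, one_mulVec]; rfl
      | succ n ih =>
        rw [pow_succ', pow_succ', ← mulVec_mulVec, ← ih]
        rfl
    rw [key, pow_one, hA, one_mulVec]
    rfl
  have h1 := Equiv.Perm.card_fixedPoints_modEq (f := f) (p := 11) (n := 1) hf
  have h2 : Fintype.card U = 2 ^ finrank F U := by rw [Module.card_eq_pow_finrank (K := F), hF]
  have h3 : Fintype.card (Function.fixedPoints f) = 2 ^ finrank F (U ⊓ fixS A : Submodule F (ι → F)) := by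
    rw [← hF, ← Module.card_eq_pow_finrank (K := F)]
    refine Fintype.card_congr ⟨fun u => ⟨(u : U), (u : U).2, mem_fixS.2 (congrArg Subtype.val u.2)⟩,
      fun u => ⟨⟨u, u.2.1⟩, Subtype.ext (mem_fixS.1 u.2.2)⟩, fun _ => rfl, fun _ => rfl⟩
  rw [h2, h3] at h1
  exact h1

theorem dim_cases : ∀ u f : Fin 11, 2 ^ (u : ℕ) % 11 = 2 ^ (f : ℕ) % 11 → (u : ℕ) = f ∨ ((u : ℕ) = 10 ∧ (f : ℕ) = 0) ∨
    ((u : ℕ) = 0 ∧ (f : ℕ) = 10) := by decide

theorem finrank_cases (hF : Fintype.card F = 2) (hι : Fintype.card ι = 10) (hA : A ^ 11 = 1)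
    {U : Submodule F (ι → F)} (hU : ∀ u ∈ U, A *ᵥ u ∈ U) : U ≤ fixS A ∨ (U = ⊤ ∧ U ⊓ fixS A = ⊥) := by
  have h1 := modEq_fix hF hA hU
  have h2 : finrank F U ≤ 10 := by
    have := Submodule.finrank_le U
    rwa [Module.finrank_fintype_fun_eq_card, hι] at this
  have h3 : finrank F (U ⊓ fixS A : Submodule F (ι → F)) ≤ finrank F U := Submodule.finrank_mono inf_le_left
  rcases dim_cases ⟨finrank F U, by omega⟩ ⟨finrank F (U ⊓ fixS A : Submodule F (ι → F)), by omega⟩ h1 with h | h | h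
  · left
    have h4 : U ⊓ fixS A = U := Submodule.eq_of_le_of_finrank_eq inf_le_left h.symm
    exact inf_eq_left.1 h4
  · right
    refine ⟨?_, Submodule.finrank_eq_zero.1 h.2⟩
    apply Submodule.eq_top_of_finrank_eq
    rw [Module.finrank_fintype_fun_eq_card, hι]
    exact h.1
  · exfalso
    have h4 := h.1
    have h5 := h.2
    simp only at h4 h5
    omega

theorem no_fix (hF : Fintype.card F = 2) (hι : Fintype.card ι = 10) (hA : A ^ 11 = 1) (hA1 : A ≠ 1) : fixS A = ⊥ := by
  rcases finrank_cases hF hι hA (U := ⊤) (fun _ _ => trivial) with h | h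
  · exfalso
    apply hA1
    apply Matrix.toLin'.injective
    apply LinearMap.ext
    intro v
    rw [Matrix.toLin'_apply, Matrix.toLin'_one]
    exact mem_fixS.1 (h trivial)
  · rw [← h.2, top_inf_eq]

theorem inv_cases (hF : Fintype.card F = 2) (hι : Fintype.card ι = 10) (hA : A ^ 11 = 1) (hA1 : A ≠ 1)
    {U : Submodule F (ι → F)} (hU : ∀ u ∈ U, A *ᵥ u ∈ U) : U = ⊥ ∨ U = ⊤ := by
  rcases finrank_cases hF hι hA hU with h | h
  · left
    rw [no_fix hF hι hA hA1] at h
    exact le_bot_iff.1 h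
  · exact Or.inr h.1

theorem sum_pow_eq_zero (hF : Fintype.card F = 2) (hι : Fintype.card ι = 10) (hA : A ^ 11 = 1) (hA1 : A ≠ 1) :
    ∑ i ∈ Finset.range 11, A ^ i = 0 := by
  have h1 : (A - 1) * ∑ i ∈ Finset.range 11, A ^ i = 0 := by rw [mul_geom_sum, hA, sub_self]
  rw [sub_mul, one_mul, sub_eq_zero] at h1
  apply Matrix.toLin'.injective
  apply LinearMap.ext
  intro v
  rw [Matrix.toLin'_apply, map_zero, LinearMap.zero_apply]
  have h2 : (∑ i ∈ Finset.range 11, A ^ i) *ᵥ v ∈ fixS A := by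
    rw [mem_fixS, mulVec_mulVec, h1]
  rwa [no_fix hF hι hA hA1, Submodule.mem_bot] at h2

/-! ### the cyclic basis -/

section cyc

variable (hF : Fintype.card F = 2) (hι : Fintype.card ι = 10) (hA : A ^ 11 = 1) (hA1 : A ≠ 1)

include hF hι hA hA1

theorem pow_ten (v : ι → F) : (A ^ 10) *ᵥ v = ∑ i : Fin 10, (A ^ (i : ℕ)) *ᵥ v := by
  have h1 := sum_pow_eq_zero hF hι hA hA1
  rw [Finset.sum_range_succ, Finset.sum_range] at h1
  have h2 := congrArg (fun M => M *ᵥ v) h1
  simp only [add_mulVec, zero_mulVec, Matrix.sum_mulVec] at h2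
  have h3 := eq_neg_of_add_eq_zero_right h2
  rw [h3]
  have h4 : ∀ w : ι → F, -w = w := by
    intro w
    funext j
    rw [Pi.neg_apply, neg_eq_iff_add_eq_zero, add_self' hF]
  rw [h4]

theorem span_pow {v : ι → F} (hv : v ≠ 0) : ⊤ ≤ Submodule.span F (Set.range fun i : Fin 10 => (A ^ (i : ℕ)) *ᵥ v) := by
  set U := Submodule.span F (Set.range fun i : Fin 10 => (A ^ (i : ℕ)) *ᵥ v) with hU
  have hmem : ∀ i : Fin 10, (A ^ (i : ℕ)) *ᵥ v ∈ U := fun i => Submodule.subset_span ⟨i, rfl⟩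
  have h1 : ∀ u ∈ U, A *ᵥ u ∈ U := by
    intro u hu
    rw [hU] at hu
    induction hu using Submodule.span_induction with
    | mem x hx =>
      obtain ⟨i, rfl⟩ := hx
      simp only
      rw [mulVec_mulVec, ← pow_succ']
      by_cases h9 : (i : ℕ) + 1 < 10
      · exact hmem ⟨i + 1, h9⟩
      · have h10 : (i : ℕ) + 1 = 10 := by omega
        rw [h10, pow_ten hF hι hA hA1]
        exact Submodule.sum_mem _ fun j _ => hmem j
    | zero => rw [mulVec_zero]; exact U.zero_mem
    | add x y _ _ hx hy => rw [mulVec_add]; exact U.add_mem hx hy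
    | smul c x _ hx => rw [mulVec_smul]; exact U.smul_mem _ hx
  rcases inv_cases hF hι hA hA1 h1 with h | h
  · exfalso
    apply hv
    have h2 := hmem 0
    rw [h, Submodule.mem_bot] at h2
    simpa using h2
  · exact h.ge

theorem trace_eq_one : A.trace = 1 := by
  obtain ⟨v, hv⟩ : ∃ v : ι → F, v ≠ 0 := by
    have : Nonempty ι := Fintype.card_pos_iff.1 (by rw [hι]; norm_num)
    exact exists_ne 0
  have hd : Fintype.card (Fin 10) = finrank F (ι → F) := by
    rw [Module.finrank_fintype_fun_eq_card, hι, Fintype.card_fin]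
  let b := basisOfTopLeSpanOfCardEqFinrank (fun i : Fin 10 => (A ^ (i : ℕ)) *ᵥ v) (span_pow hF hι hA hA1 hv) hd
  have hb : ∀ i, b i = (A ^ (i : ℕ)) *ᵥ v := fun i => by
    simp only [b, coe_basisOfTopLeSpanOfCardEqFinrank]
  have h1 : LinearMap.trace F (ι → F) (Matrix.toLin' A) = A.trace := Matrix.trace_toLin'_eq A
  rw [← h1, LinearMap.trace_eq_matrix_trace F b, Matrix.trace]
  have h2 : ∀ i : Fin 10, (LinearMap.toMatrix b b (Matrix.toLin' A)).diag i = if i = 9 then 1 else 0 := by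
    intro i
    rw [Matrix.diag_apply, LinearMap.toMatrix_apply, Matrix.toLin'_apply, hb, mulVec_mulVec, ← pow_succ']
    by_cases h9 : (i : ℕ) + 1 < 10
    · have h3 : (A ^ ((i : ℕ) + 1)) *ᵥ v = b ⟨(i : ℕ) + 1, h9⟩ := (hb ⟨(i : ℕ) + 1, h9⟩).symm
      rw [h3, Basis.repr_self, Finsupp.single_apply, if_neg, if_neg]
      · intro h4
        rw [h4] at h9
        exact absurd h9 (by decide)
      · intro h4
        have := congrArg Fin.val h4
        simp only at this
        omega
    · have h10 : (i : ℕ) + 1 = 10 := by omega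
      have hi : i = 9 := Fin.ext (by
        show (i : ℕ) = 9
        omega)
      rw [h10, pow_ten hF hι hA hA1, if_pos hi]
      simp only [← hb, map_sum, Basis.repr_self, Finsupp.coe_finsetSum, Finset.sum_apply, Finsupp.single_apply,
        Finset.sum_ite_eq', Finset.mem_univ, if_true]
  simp only [h2, Finset.sum_ite_eq', Finset.mem_univ, if_true]

/-- matrices commuting with `A` are polynomials in `A` -/
theorem exists_aeval {Z : Matrix ι ι F} (hZ : Z * A = A * Z) : ∃ p : F[X], Z = aeval A p := by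
  obtain ⟨v, hv⟩ : ∃ v : ι → F, v ≠ 0 := by
    have : Nonempty ι := Fintype.card_pos_iff.1 (by rw [hι]; norm_num)
    exact exists_ne 0
  let U : Submodule F (ι → F) :=
    { carrier := {w | ∃ q : F[X], w = (aeval A q) *ᵥ v}
      add_mem' := by
        rintro _ _ ⟨q, rfl⟩ ⟨r, rfl⟩
        exact ⟨q + r, by rw [map_add, add_mulVec]⟩
      zero_mem' := ⟨0, by rw [map_zero, zero_mulVec]⟩
      smul_mem' := by
        rintro c _ ⟨q, rfl⟩
        exact ⟨c • q, by rw [map_smul, smul_mulVec]⟩ }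
  have hU : U = ⊤ := by
    rcases inv_cases hF hι hA hA1 (U := U) (by
      rintro _ ⟨q, rfl⟩
      exact ⟨X * q, by rw [map_mul, aeval_X, mulVec_mulVec]⟩) with h | h
    · exfalso
      apply hv
      have h2 : v ∈ U := ⟨1, by rw [map_one, one_mulVec]⟩
      rwa [h, Submodule.mem_bot] at h2
    · exact h
  have hall : ∀ w : ι → F, ∃ q : F[X], w = (aeval A q) *ᵥ v := by
    intro w
    have : w ∈ U := by rw [hU]; trivial
    exact this
  obtain ⟨p, hp⟩ := hall (Z *ᵥ v)
  refine ⟨p, ?_⟩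
  have hc : ∀ q : F[X], Z * aeval A q = aeval A q * Z := by
    intro q
    have h1 : Commute Z A := hZ
    exact (Polynomial.aeval_eq_sum_range (R := F) (p := q) A ▸ (Commute.sum_right _ _ _ fun i _ =>
      (h1.pow_right i).smul_right _) : Commute Z (aeval A q))
  apply Matrix.toLin'.injective
  apply LinearMap.ext
  intro w
  obtain ⟨q, rfl⟩ := hall w
  rw [Matrix.toLin'_apply, Matrix.toLin'_apply, mulVec_mulVec, hc, ← mulVec_mulVec, hp, mulVec_mulVec, mulVec_mulVec,
    ← map_mul, ← map_mul, mul_comm]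

/-- a matrix commuting with `A` is zero or injective -/
theorem zero_or_inj {B C : Matrix ι ι F} (hB : B * A = A * B) (hBC : B * C = 0) : B = 0 ∨ C = 0 := by
  rcases inv_cases hF hι hA hA1 (U := LinearMap.ker (Matrix.toLin' B)) (by
    intro u hu
    rw [LinearMap.mem_ker, Matrix.toLin'_apply] at hu ⊢
    rw [mulVec_mulVec, hB, ← mulVec_mulVec, hu, mulVec_zero]) with h | h
  · right
    apply Matrix.toLin'.injective
    apply LinearMap.ext
    intro w
    have h1 : C *ᵥ w ∈ LinearMap.ker (Matrix.toLin' B) := by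
      rw [LinearMap.mem_ker, Matrix.toLin'_apply, mulVec_mulVec, hBC, zero_mulVec]
    rw [h, Submodule.mem_bot] at h1
    rw [Matrix.toLin'_apply, h1, map_zero, LinearMap.zero_apply]
  · left
    apply Matrix.toLin'.injective
    rw [LinearMap.ker_eq_top.1 h, map_zero]

theorem comm_cases {Y Z : Matrix ι ι F} (hY : IsUnit Y) (hYA : Y * A = A ^ 4 * Y) (hZ : Z * A = A * Z)
    (hZY : Z * Y = Y * Z) : Z = 0 ∨ Z = 1 ∨ Z * Z + Z + 1 = 0 := by
  obtain ⟨p, hp⟩ := exists_aeval hF hι hA hA1 hZ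
  have hpow : ∀ n : ℕ, Y * A ^ n = (A ^ 4) ^ n * Y := by
    intro n
    induction n with
    | zero => rw [pow_zero, pow_zero, mul_one, one_mul]
    | succ n ih =>
      calc Y * A ^ (n + 1) = (Y * A ^ n) * A := by rw [pow_succ A n, mul_assoc]
        _ = (A ^ 4) ^ n * (Y * A) := by rw [ih, mul_assoc]
        _ = ((A ^ 4) ^ n * A ^ 4) * Y := by rw [hYA, mul_assoc]
        _ = (A ^ 4) ^ (n + 1) * Y := by rw [← pow_succ (A ^ 4) n]
  have h1 : Y * aeval A p = aeval (A ^ 4) p * Y := by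
    rw [Polynomial.aeval_eq_sum_range, Polynomial.aeval_eq_sum_range, Finset.mul_sum, Finset.sum_mul]
    refine Finset.sum_congr rfl fun i _ => ?_
    rw [mul_smul_comm, hpow, smul_mul_assoc]
  have hsq : ∀ B : Matrix ι ι F, aeval (B ^ 2) p = (aeval B p) ^ 2 := by
    intro B
    have h2 := FiniteField.expand_card p
    rw [hF] at h2
    rw [← map_pow, ← h2, Polynomial.expand_aeval]
  have h2 : aeval (A ^ 4) p = Z ^ 4 := by
    rw [show 4 = 2 * 2 by norm_num, pow_mul, hsq, hsq, ← hp, ← pow_mul]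
  rw [h2, ← hp, ← hZY] at h1
  have h3 : Z = Z ^ 4 := hY.mul_right_cancel h1
  have h4 : (Z : Matrix ι ι F) * ((Z - 1) * (Z * Z + Z + 1)) = 0 := by
    have : Z * ((Z - 1) * (Z * Z + Z + 1)) = Z ^ 4 - Z := by noncomm_ring
    rw [this, ← h3, sub_self]
  rcases zero_or_inj hF hι hA hA1 hZ h4 with h | h
  · exact Or.inl h
  · have h5 : (Z - 1) * A = A * (Z - 1) := by rw [sub_mul, mul_sub, hZ, one_mul, mul_one]
    rcases zero_or_inj hF hι hA hA1 h5 h with h | h
    · exact Or.inr (Or.inl (sub_eq_zero.1 h))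
    · exact Or.inr (Or.inr h)

end cyc

end Cfsg.Agent.H870.MEleven
end

-- part: H870/MEleven/Grp
section
/-!
# Class functions on the Mathieu group of degree 11 (helper870)

`K0` is the group generated by two explicit permutations of `Fin 11`.
`TF.eq` : a class function `T : K0 → F`, `|F| = 2`, `T (a a) = T a`, `T 1 = 0`, whose sums over the cosets `⟨X⟩ g` vanish, is
`τ (fix + 1)`.
-/

set_option autoImplicit false
set_option linter.unusedSectionVars false
set_option maxRecDepth 100000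

namespace Cfsg.Agent.H870.MEleven

open Cfsg.Agent.SporadicB.AtlasPres.M11Rec

universe u

theorem isM11 : Cfsg.IsM11 K0 := ⟨simple, card_eq⟩

instance finite_K0 : Finite K0 := Nat.finite_of_card_ne_zero (by rw [card_eq]; norm_num)

theorem isoM11 : Cfsg.Spor.IsoM11 K0 := TwoGenCore.IsoMEleven.isoM11 isM11

/-- order 11 -/
def pX : Equiv.Perm (Fin 11) := ⟨![10, 0, 1, 2, 3, 4, 5, 6, 7, 8, 9], ![1, 2, 3, 4, 5, 6, 7, 8, 9, 10, 0], by decide, by decide⟩

theorem mX : pX ∈ K0 := by
  have h : pX = ew [0, 1] := by decide +kernel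
  rw [h]; exact ew_mem _

def gX : K0 := ⟨pX, mX⟩

/-- order 5, normalises `X` -/
def pY : Equiv.Perm (Fin 11) := ⟨![6, 10, 3, 7, 0, 4, 8, 1, 5, 9, 2], ![4, 7, 10, 2, 5, 8, 0, 3, 6, 9, 1], by decide, by decide⟩

theorem mY : pY ∈ K0 := by
  have h : pY = ew [1, 0, 1, 1, 0, 1, 0, 1, 1, 0, 1, 0, 1, 0, 1, 0] := by decide +kernel
  rw [h]; exact ew_mem _

def gY : K0 := ⟨pY, mY⟩

/-- order 3 -/
def pD : Equiv.Perm (Fin 11) := ⟨![3, 7, 9, 10, 1, 5, 2, 4, 8, 6, 0], ![10, 4, 6, 0, 7, 5, 9, 1, 8, 2, 3], by decide, by decide⟩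

theorem mD : pD ∈ K0 := by
  have h : pD = ew [0, 1, 1, 0, 1, 1] := by decide +kernel
  rw [h]; exact ew_mem _

def gD : K0 := ⟨pD, mD⟩

/-- inverts `D` -/
def pS : Equiv.Perm (Fin 11) := ⟨![10, 2, 1, 3, 9, 5, 7, 6, 8, 4, 0], ![10, 2, 1, 3, 9, 5, 7, 6, 8, 4, 0], by decide, by decide⟩

theorem mS : pS ∈ K0 := by
  have h : pS = ew [0] := by decide +kernel
  rw [h]; exact ew_mem _

def gS : K0 := ⟨pS, mS⟩

/-- order 6 -/
def pX6 : Equiv.Perm (Fin 11) := ⟨![10, 9, 1, 0, 2, 8, 4, 6, 5, 7, 3], ![3, 2, 4, 10, 6, 8, 7, 9, 5, 1, 0], by decide, by decide⟩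

theorem mX6 : pX6 ∈ K0 := by
  have h : pX6 = ew [0, 1, 1] := by decide +kernel
  rw [h]; exact ew_mem _

def gX6 : K0 := ⟨pX6, mX6⟩

/-- order 8 -/
def pX8 : Equiv.Perm (Fin 11) := ⟨![7, 0, 9, 6, 8, 4, 5, 3, 1, 2, 10], ![1, 8, 9, 7, 5, 6, 3, 0, 4, 2, 10], by decide, by decide⟩

theorem mX8 : pX8 ∈ K0 := by
  have h : pX8 = ew [0, 1, 0, 1, 0, 1, 0, 2] := by decide +kernel
  rw [h]; exact ew_mem _

def gX8 : K0 := ⟨pX8, mX8⟩

/-- order 3, fixes 0 and 5 -/
def pE1 : Equiv.Perm (Fin 11) := ⟨![0, 9, 4, 2, 3, 5, 7, 10, 1, 8, 6], ![0, 8, 3, 4, 2, 5, 10, 6, 9, 1, 7], by decide, by decide⟩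

theorem mE1 : pE1 ∈ K0 := by
  have h : pE1 = ew [0, 1, 0, 1, 1, 0, 1, 0, 1, 1, 0] := by decide +kernel
  rw [h]; exact ew_mem _

def gE1 : K0 := ⟨pE1, mE1⟩

/-- order 3, commutes with `E1` -/
def pE2 : Equiv.Perm (Fin 11) := ⟨![0, 7, 9, 1, 8, 5, 4, 3, 6, 10, 2], ![0, 3, 10, 7, 6, 5, 8, 1, 4, 2, 9], by decide, by decide⟩

theorem mE2 : pE2 ∈ K0 := by
  have h : pE2 = ew [0, 1, 1, 0, 1, 0, 2, 0, 1, 0, 1, 0] := by decide +kernel
  rw [h]; exact ew_mem _

def gE2 : K0 := ⟨pE2, mE2⟩

/-- fixes 0, moves 5 -/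
def pB : Equiv.Perm (Fin 11) := ⟨![0, 10, 2, 1, 3, 9, 5, 7, 6, 8, 4], ![0, 3, 2, 4, 10, 6, 8, 7, 9, 5, 1], by decide, by decide⟩

theorem mB : pB ∈ K0 := by
  have h : pB = ew [1] := by decide +kernel
  rw [h]; exact ew_mem _

def gB : K0 := ⟨pB, mB⟩

/-- the coset `<X> R` has an odd number of elements of order 11 -/
def pR : Equiv.Perm (Fin 11) := ⟨![8, 10, 0, 2, 6, 3, 5, 9, 7, 1, 4], ![2, 9, 3, 5, 10, 6, 4, 8, 0, 7, 1], by decide, by decide⟩

theorem mR : pR ∈ K0 := by
  have h : pR = ew [1, 0, 1, 0] := by decide +kernel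
  rw [h]; exact ew_mem _

def gR : K0 := ⟨pR, mR⟩

theorem coe_eq {a b : K0} (h : (a : Equiv.Perm (Fin 11)) = b) : a = b := Subtype.ext h

theorem X_pow : gX ^ 11 = 1 := coe_eq (by
  show pX ^ 11 = 1
  decide +kernel)

theorem X_ne : gX ≠ 1 := fun h => absurd (show pX = 1 from congrArg Subtype.val h) (by decide +kernel)

theorem Y_pow : gY ^ 5 = 1 := coe_eq (by
  show pY ^ 5 = 1
  decide +kernel)

theorem Y_ne : gY ≠ 1 := fun h => absurd (show pY = 1 from congrArg Subtype.val h) (by decide +kernel)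

theorem order_X : orderOf gX = 11 := by
  have : Fact (Nat.Prime 11) := ⟨by norm_num⟩
  exact orderOf_eq_prime X_pow X_ne

theorem order_Y : orderOf gY = 5 := by
  have : Fact (Nat.Prime 5) := ⟨by norm_num⟩
  exact orderOf_eq_prime Y_pow Y_ne

theorem order_X8 : orderOf gX8 = 8 := by
  have : Fact (Nat.Prime 2) := ⟨Nat.prime_two⟩
  have h : orderOf gX8 = 2 ^ (2 + 1) := by
    refine orderOf_eq_prime_pow ?_ ?_
    · intro h
      exact absurd (show pX8 ^ 2 ^ 2 = 1 from congrArg Subtype.val h) (by decide +kernel)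
    · exact coe_eq (by
        show pX8 ^ 2 ^ (2 + 1) = 1
        decide +kernel)
  rw [h]; norm_num

theorem order_X6 : orderOf gX6 = 6 := by
  refine orderOf_eq_of_pow_and_pow_div_prime (by norm_num) ?_ ?_
  · exact coe_eq (by
      show pX6 ^ 6 = 1
      decide +kernel)
  · intro p hp hd
    have h4 : p = 2 ∨ p = 3 := by
      have h5 : p ∣ 2 * 3 := hd
      rcases (Nat.Prime.dvd_mul hp).1 h5 with h6 | h6
      · exact Or.inl ((Nat.prime_dvd_prime_iff_eq hp (by norm_num)).1 h6)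
      · exact Or.inr ((Nat.prime_dvd_prime_iff_eq hp (by norm_num)).1 h6)
    rcases h4 with rfl | rfl
    · intro h
      exact absurd (show pX6 ^ (6 / 2) = 1 from congrArg Subtype.val h) (by decide +kernel)
    · intro h
      exact absurd (show pX6 ^ (6 / 3) = 1 from congrArg Subtype.val h) (by decide +kernel)

theorem YX : gY * gX = gX ^ 4 * gY := coe_eq (by
  show pY * pX = pX ^ 4 * pY
  decide +kernel)

theorem SD_eq : gS * gD = gD * gD * gS := coe_eq (by
  show pS * pD = pD * pD * pS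
  decide +kernel)

theorem D_order : orderOf gD = 3 := by
  have : Fact (Nat.Prime 3) := ⟨by norm_num⟩
  refine orderOf_eq_prime (coe_eq ?_) ?_
  · show pD ^ 3 = 1
    decide +kernel
  · intro h
    exact absurd (show pD = 1 from congrArg Subtype.val h) (by decide +kernel)

/-- number of fixed points -/
def fixp (g : K0) : ℕ := (Finset.univ.filter fun j : Fin 11 => (g : Equiv.Perm (Fin 11)) j = j).card

theorem fixp_conj {a b : K0} (h : IsConj a b) : fixp a = fixp b := by
  obtain ⟨c, hc⟩ := isConj_iff.1 h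
  unfold fixp
  refine Finset.card_bij (fun j _ => (c : Equiv.Perm (Fin 11)) j) ?_ ?_ ?_
  · intro j hj
    rw [Finset.mem_filter] at hj ⊢
    refine ⟨Finset.mem_univ _, ?_⟩
    have h0 : ((c : Equiv.Perm (Fin 11)))⁻¹ ((c : Equiv.Perm (Fin 11)) j) = j := Equiv.symm_apply_apply _ _
    rw [← hc, Subgroup.coe_mul, Subgroup.coe_mul, Subgroup.coe_inv, Equiv.Perm.mul_apply, Equiv.Perm.mul_apply, h0,
      hj.2]
  · intro i _ j _ hij
    exact (c : Equiv.Perm (Fin 11)).injective hij
  · intro j hj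
    rw [Finset.mem_filter] at hj
    refine ⟨((c : Equiv.Perm (Fin 11)))⁻¹ j, ?_, by simp⟩
    rw [Finset.mem_filter]
    refine ⟨Finset.mem_univ _, ?_⟩
    have h1 := hj.2
    rw [← hc, Subgroup.coe_mul, Subgroup.coe_mul, Subgroup.coe_inv, Equiv.Perm.mul_apply, Equiv.Perm.mul_apply] at h1
    rw [Equiv.Perm.eq_inv_iff_eq]
    exact h1

section

variable {F : Type u} [Field F] [Fintype F]

/-- class functions that are traces of representations over the field with two elements -/
structure TF (T : K0 → F) : Prop where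
  conj : ∀ a b, IsConj a b → T a = T b
  sq : ∀ a, T (a * a) = T a
  one : T 1 = 0

variable {T : K0 → F}

theorem TF.pow_two_pow (h : TF T) (a : K0) (n : ℕ) : T (a ^ 2 ^ n) = T a := by
  induction n with
  | zero => rw [pow_zero, pow_one]
  | succ n ih => rw [pow_succ, pow_mul, pow_two, h.sq, ih]

theorem TF.eight (h : TF T) {a : K0} (ha : orderOf a = 8) : T a = 0 := by
  rw [← h.pow_two_pow a 3, show 2 ^ 3 = orderOf a by rw [ha]; norm_num, pow_orderOf_eq_one, h.one]

theorem TF.of_order (h : TF T) {a b : K0} (hab : orderOf a = orderOf b) : T a = T b := by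
  refine H6.M11.eq_of_order isoM11 order_X6 order_X8 order_Y order_X T h.conj ?_ ?_ hab
  · rw [h.eight order_X8, h.eight (by rw [orderOf_inv]; exact order_X8)]
  · have h1 : gX⁻¹ = gX ^ 2 ^ 5 := by
      rw [inv_eq_iff_mul_eq_one, ← pow_succ', show 2 ^ 5 + 1 = 11 * 3 by norm_num, pow_mul, X_pow, one_pow]
    rw [h1, h.pow_two_pow]

theorem TF.t8 (h : TF T) {a : K0} (ha : a ^ 8 = 1) : T a = 0 := by
  rw [← h.pow_two_pow a 3, show 2 ^ 3 = 8 by norm_num, ha, h.one]

theorem TF.t3 (h : TF T) {a : K0} (ha : a ^ 3 = 1) (ha1 : a ≠ 1) : T a = T gD := by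
  have : Fact (Nat.Prime 3) := ⟨by norm_num⟩
  exact h.of_order ((orderOf_eq_prime ha ha1).trans D_order.symm)

theorem TF.t5 (h : TF T) {a : K0} (ha : a ^ 5 = 1) (ha1 : a ≠ 1) : T a = T gY := by
  have : Fact (Nat.Prime 5) := ⟨by norm_num⟩
  exact h.of_order ((orderOf_eq_prime ha ha1).trans order_Y.symm)

theorem TF.t11 (h : TF T) {a : K0} (ha : a ^ 11 = 1) (ha1 : a ≠ 1) : T a = T gX := by
  have : Fact (Nat.Prime 11) := ⟨by norm_num⟩
  exact h.of_order ((orderOf_eq_prime ha ha1).trans order_X.symm)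

theorem TF.t6 (h : TF T) {a : K0} (ha : a ^ 6 = 1) (ha1 : a ^ 2 ≠ 1) : T a = T gD := by
  have h1 : T (a ^ 4) = T a := h.pow_two_pow a 2
  rw [← h1]
  refine h.t3 ?_ ?_
  · rw [← pow_mul, show 4 * 3 = 6 * 2 by norm_num, pow_mul, ha, one_pow]
  · intro h2
    apply ha1
    calc a ^ 2 = a ^ 2 * a ^ 4 := by rw [h2, mul_one]
      _ = 1 := by rw [← pow_add, ha]

theorem ne_one {a : K0} (h : (a : Equiv.Perm (Fin 11)) ≠ 1) : a ≠ 1 := fun h1 => h (congrArg Subtype.val h1)

theorem TF.cosetY (h : TF T) (i : ℕ) (hi : i < 11) : T (gX ^ i * gY) = T gY := by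
  have key : ∀ i : Fin 11, (pX ^ (i : ℕ) * pY) ^ 5 = 1 ∧ pX ^ (i : ℕ) * pY ≠ 1 := by decide +kernel
  obtain ⟨h1, h2⟩ := key ⟨i, hi⟩
  exact h.t5 (coe_eq h1) (ne_one h2)

variable (hF : Fintype.card F = 2)

include hF

theorem TF.Y_zero (h : TF T) (hN : ∀ g, ∑ i ∈ Finset.range 11, T (gX ^ i * g) = 0) : T gY = 0 := by
  have h1 := hN gY
  rw [Finset.sum_congr rfl (fun i hi => h.cosetY i (Finset.mem_range.1 hi)), Finset.sum_const, Finset.card_range,
    nsmul_eq_mul] at h1
  have h2 : ((11 : ℕ) : F) = 1 := by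
    have h3 := two_eq_zero hF
    push_cast
    linear_combination 5 * h3
  rwa [h2, one_mul] at h1

theorem TF.D_eq_X (h : TF T) (hN : ∀ g, ∑ i ∈ Finset.range 11, T (gX ^ i * g) = 0) : T gD = T gX := by
  have h5 := h.Y_zero hF hN
  have h1 := hN gR
  have e0 : T (gX ^ 0 * gR) = T gX := h.t11 (coe_eq (by
    show (pX ^ 0 * pR) ^ 11 = 1
    decide +kernel)) (ne_one (by
    show pX ^ 0 * pR ≠ 1
    decide +kernel))
  have e1 : T (gX ^ 1 * gR) = T gX := h.t11 (coe_eq (by
    show (pX ^ 1 * pR) ^ 11 = 1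
    decide +kernel)) (ne_one (by
    show pX ^ 1 * pR ≠ 1
    decide +kernel))
  have e2 : T (gX ^ 2 * gR) = T gD := h.t3 (coe_eq (by
    show (pX ^ 2 * pR) ^ 3 = 1
    decide +kernel)) (ne_one (by
    show pX ^ 2 * pR ≠ 1
    decide +kernel))
  have e3 : T (gX ^ 3 * gR) = 0 := h.t8 (coe_eq (by
    show (pX ^ 3 * pR) ^ 8 = 1
    decide +kernel))
  have e4 : T (gX ^ 4 * gR) = T gD := h.t6 (coe_eq (by
    show (pX ^ 4 * pR) ^ 6 = 1
    decide +kernel)) (ne_one (by
    show (pX ^ 4 * pR) ^ 2 ≠ 1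
    decide +kernel))
  have e5 : T (gX ^ 5 * gR) = T gY := h.t5 (coe_eq (by
    show (pX ^ 5 * pR) ^ 5 = 1
    decide +kernel)) (ne_one (by
    show pX ^ 5 * pR ≠ 1
    decide +kernel))
  have e6 : T (gX ^ 6 * gR) = T gD := h.t6 (coe_eq (by
    show (pX ^ 6 * pR) ^ 6 = 1
    decide +kernel)) (ne_one (by
    show (pX ^ 6 * pR) ^ 2 ≠ 1
    decide +kernel))
  have e7 : T (gX ^ 7 * gR) = T gX := h.t11 (coe_eq (by
    show (pX ^ 7 * pR) ^ 11 = 1
    decide +kernel)) (ne_one (by
    show pX ^ 7 * pR ≠ 1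
    decide +kernel))
  have e8 : T (gX ^ 8 * gR) = 0 := h.t8 (coe_eq (by
    show (pX ^ 8 * pR) ^ 8 = 1
    decide +kernel))
  have e9 : T (gX ^ 9 * gR) = 0 := h.t8 (coe_eq (by
    show (pX ^ 9 * pR) ^ 8 = 1
    decide +kernel))
  have e10 : T (gX ^ 10 * gR) = 0 := h.t8 (coe_eq (by
    show (pX ^ 10 * pR) ^ 8 = 1
    decide +kernel))
  simp only [Finset.sum_range_succ, Finset.sum_range_zero, e0, e1, e2, e3, e4, e5, e6, e7, e8, e9, e10, h5] at h1
  have h2 := two_eq_zero hF
  linear_combination h1 - (T gX * 2 + T gD) * h2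

/-- **The class functions.** -/
theorem TF.eq (h : TF T) (hN : ∀ g, ∑ i ∈ Finset.range 11, T (gX ^ i * g) = 0) (g : K0) :
    T g = T gX * ((fixp g : F) + 1) := by
  have h2 := two_eq_zero hF
  have h5 := h.Y_zero hF hN
  have h3 := h.D_eq_X hF hN
  obtain ⟨i, hi, -⟩ := H6.M11.exists_rep isoM11 order_X6 order_X8 order_Y order_X g
  rw [← h.conj _ _ hi, ← fixp_conj hi]
  have f0 : fixp (1 : K0) = 11 := by
    show (Finset.univ.filter fun j : Fin 11 => (1 : Equiv.Perm (Fin 11)) j = j).card = 11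
    decide +kernel
  have f1 : fixp (gX6 ^ 3) = 3 := by
    show (Finset.univ.filter fun j : Fin 11 => (pX6 ^ 3) j = j).card = 3
    decide +kernel
  have f2 : fixp (gX6 ^ 2) = 2 := by
    show (Finset.univ.filter fun j : Fin 11 => (pX6 ^ 2) j = j).card = 2
    decide +kernel
  have f3 : fixp (gX8 ^ 2) = 3 := by
    show (Finset.univ.filter fun j : Fin 11 => (pX8 ^ 2) j = j).card = 3
    decide +kernel
  have f4 : fixp gY = 1 := by
    show (Finset.univ.filter fun j : Fin 11 => pY j = j).card = 1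
    decide +kernel
  have f5 : fixp gX6 = 0 := by
    show (Finset.univ.filter fun j : Fin 11 => pX6 j = j).card = 0
    decide +kernel
  have f6 : fixp gX8 = 1 := by
    show (Finset.univ.filter fun j : Fin 11 => pX8 j = j).card = 1
    decide +kernel
  have f7 : fixp gX8⁻¹ = 1 := by
    show (Finset.univ.filter fun j : Fin 11 => (pX8⁻¹) j = j).card = 1
    decide +kernel
  have f8 : fixp gX = 0 := by
    show (Finset.univ.filter fun j : Fin 11 => pX j = j).card = 0
    decide +kernel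
  have f9 : fixp gX⁻¹ = 0 := by
    show (Finset.univ.filter fun j : Fin 11 => (pX⁻¹) j = j).card = 0
    decide +kernel
  have o8 : gX8 ^ 8 = 1 := by rw [← order_X8]; exact pow_orderOf_eq_one _
  have o6 : gX6 ^ 6 = 1 := by rw [← order_X6]; exact pow_orderOf_eq_one _
  have n6 : gX6 ^ 2 ≠ 1 := fun h0 => by
    have := orderOf_dvd_of_pow_eq_one h0
    rw [order_X6] at this
    norm_num at this
  fin_cases i
  · show T 1 = T gX * ((fixp (1 : K0) : F) + 1)
    rw [h.one, f0]
    push_cast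
    linear_combination -6 * T gX * h2
  · show T (gX6 ^ 3) = T gX * ((fixp (gX6 ^ 3) : F) + 1)
    rw [f1, h.t8 (by rw [← pow_mul, show 3 * 8 = 6 * 4 by norm_num, pow_mul, o6, one_pow])]
    push_cast
    linear_combination -2 * T gX * h2
  · show T (gX6 ^ 2) = T gX * ((fixp (gX6 ^ 2) : F) + 1)
    rw [f2, h.t3 (by rw [← pow_mul, o6]) n6, h3]
    push_cast
    linear_combination -T gX * h2
  · show T (gX8 ^ 2) = T gX * ((fixp (gX8 ^ 2) : F) + 1)
    rw [f3, h.t8 (by rw [← pow_mul, mul_comm, pow_mul, o8, one_pow])]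
    push_cast
    linear_combination -2 * T gX * h2
  · show T gY = T gX * ((fixp gY : F) + 1)
    rw [f4, h5]
    push_cast
    linear_combination -T gX * h2
  · show T gX6 = T gX * ((fixp gX6 : F) + 1)
    rw [f5, h.t6 o6 n6, h3]
    push_cast
    ring
  · show T gX8 = T gX * ((fixp gX8 : F) + 1)
    rw [f6, h.t8 o8]
    push_cast
    linear_combination -T gX * h2
  · show T gX8⁻¹ = T gX * ((fixp gX8⁻¹ : F) + 1)
    rw [f7, h.t8 (by rw [inv_pow, o8, inv_one])]
    push_cast
    linear_combination -T gX * h2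
  · show T gX = T gX * ((fixp gX : F) + 1)
    rw [f8]
    push_cast
    ring
  · show T gX⁻¹ = T gX * ((fixp gX⁻¹ : F) + 1)
    rw [f9, h.of_order (orderOf_inv gX)]
    push_cast
    ring

end

end Cfsg.Agent.H870.MEleven
end

-- part: H870/MEleven/Fix
section
/-!
# The fixed vector of the point stabiliser (helper870)

`exists_fix` : `ρ : K0 → M_ι(F)`, `|F| = 2`, spanning, `tr ρ(g) = fix(g) + 1`: the stabiliser of `0` fixes a non-zero vector.

The element `c = e (B - 1) e` of the group algebra, `e` the sum over the group `⟨E1, E2⟩` of order 9, acts on the permutation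
module with 11 points as the matrix with entries `1` for `i, j ≠ 0` and `0` otherwise.
-/

set_option autoImplicit false
set_option linter.unusedSectionVars false
set_option maxRecDepth 100000

namespace Cfsg.Agent.H870.MEleven

open Cfsg.Agent.SporadicB.AtlasPres.M11Rec Matrix

universe u

/-- the group of order 9 -/
def EL : List K0 := [1, gE1, gE1 * gE1, gE2, gE1 * gE2, gE1 * gE1 * gE2, gE2 * gE2, gE1 * gE2 * gE2,
  gE1 * gE1 * gE2 * gE2]

/-- the element of the group algebra -/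
def CL : List K0 := (EL.flatMap fun h => EL.map fun k => h * gB * k) ++ EL

theorem CL_length : CL.length = 90 := rfl

/-- number of the members of a list mapping `j` to `i` -/
def cnt (L : List K0) (i j : Fin 11) : ℕ := (L.filter fun c : K0 => decide ((c : Equiv.Perm (Fin 11)) j = i)).length

theorem cnt_CL : ∀ i j : Fin 11, cnt CL i j % 2 = if i ≠ 0 ∧ j ≠ 0 then 1 else 0 := by decide +kernel

variable {F : Type u} [Field F] [Fintype F]

theorem fixp_eq (g : K0) : (fixp g : F) = ∑ j : Fin 11, if (g : Equiv.Perm (Fin 11)) j = j then 1 else 0 := by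
  rw [fixp, Finset.card_filter, Nat.cast_sum]
  refine Finset.sum_congr rfl fun j _ => ?_
  rw [Nat.cast_ite, Nat.cast_one, Nat.cast_zero]

theorem sum_fixp (L : List K0) (k u : K0) : (L.map fun c => (fixp (k * c * u) : F)).sum =
    ∑ j : Fin 11, (cnt L ((k : Equiv.Perm (Fin 11))⁻¹ j) ((u : Equiv.Perm (Fin 11)) j) : F) := by
  induction L with
  | nil => simp only [cnt, _root_.List.map_nil, _root_.List.sum_nil, _root_.Equiv.Perm.coe_inv, _root_.List.filter_nil, _root_.List.length_nil, _root_.Nat.cast_zero, _root_.Finset.sum_const_zero]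
  | cons a L ih =>
    rw [List.map_cons, List.sum_cons, ih, fixp_eq, ← Finset.sum_add_distrib]
    refine Finset.sum_congr rfl fun j _ => ?_
    have h1 : ((k * a * u : K0) : Equiv.Perm (Fin 11)) j = j ↔
        (a : Equiv.Perm (Fin 11)) ((u : Equiv.Perm (Fin 11)) j) = (k : Equiv.Perm (Fin 11))⁻¹ j := by
      rw [Equiv.Perm.eq_inv_iff_eq]
      rfl
    unfold cnt
    rw [List.filter_cons]
    by_cases h : (a : Equiv.Perm (Fin 11)) ((u : Equiv.Perm (Fin 11)) j) = (k : Equiv.Perm (Fin 11))⁻¹ j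
    · rw [if_pos (h1.2 h), if_pos (by simpa using h), List.length_cons]
      push_cast
      ring
    · rw [if_neg (fun h2 => h (h1.1 h2)), if_neg (by simpa using h), zero_add]

theorem cast_mod (hF : Fintype.card F = 2) (n : ℕ) : (n : F) = ((n % 2 : ℕ) : F) := by
  conv_lhs => rw [← Nat.div_add_mod n 2]
  push_cast
  rw [two_eq_zero hF, zero_mul, zero_add]

theorem cast_cnt (hF : Fintype.card F = 2) (i j : Fin 11) : (cnt CL i j : F) = if i ≠ 0 ∧ j ≠ 0 then 1 else 0 := by
  rw [cast_mod hF, cnt_CL]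
  split_ifs <;> simp only [_root_.Nat.cast_one, _root_.Nat.cast_zero]

variable {ι : Type} [Fintype ι] [DecidableEq ι]

theorem trace_list (ρ : K0 →* Matrix ι ι F) (L : List K0) (k u : K0) :
    (ρ k * (L.map ρ).sum * ρ u).trace = (L.map fun c => (ρ (k * c * u)).trace).sum := by
  induction L with
  | nil => simp only [_root_.List.map_nil, _root_.List.sum_nil, _root_.MulZeroClass.mul_zero, _root_.MulZeroClass.zero_mul, _root_.Matrix.trace_zero, _root_.map_mul]
  | cons a L ih =>
    rw [List.map_cons, List.sum_cons, mul_add, add_mul, Matrix.trace_add, ih, List.map_cons, List.sum_cons, map_mul,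
      map_mul]

theorem sum_add_one (L : List K0) (f : K0 → F) : (L.map fun c => f c + 1).sum = (L.map f).sum + (L.length : F) := by
  induction L with
  | nil => simp
  | cons a L ih =>
    rw [List.map_cons, List.sum_cons, ih, List.map_cons, List.sum_cons, List.length_cons]
    push_cast
    ring

theorem trace_CL (hF : Fintype.card F = 2) (ρ : K0 →* Matrix ι ι F) (hT : ∀ g, (ρ g).trace = (fixp g : F) + 1) (k u : K0)
    (hk : (k : Equiv.Perm (Fin 11)) 0 = 0) : (ρ k * (CL.map ρ).sum * ρ u).trace =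
      ∑ j : Fin 11, if j ≠ 0 ∧ (u : Equiv.Perm (Fin 11)) j ≠ 0 then 1 else 0 := by
  rw [trace_list, List.map_congr_left (g := fun c => (fixp (k * c * u) : F) + 1) (fun c _ => hT _), sum_add_one,
    CL_length, sum_fixp]
  have h90 : ((90 : ℕ) : F) = 0 := by
    rw [cast_mod hF]
    norm_num
  rw [h90, add_zero]
  refine Finset.sum_congr rfl fun j _ => ?_
  rw [cast_cnt hF]
  have h1 : (k : Equiv.Perm (Fin 11))⁻¹ j ≠ 0 ↔ j ≠ 0 := by
    rw [Ne, Equiv.Perm.inv_eq_iff_eq, hk]
  simp only [h1]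

/-- **The fixed vector.** -/
theorem exists_fix (hF : Fintype.card F = 2) (ρ : K0 →* Matrix ι ι F) (hs : Submodule.span F (Set.range ρ) = ⊤)
    (hT : ∀ g, (ρ g).trace = (fixp g : F) + 1) :
    ∃ v : ι → F, v ≠ 0 ∧ ∀ k : K0, (k : Equiv.Perm (Fin 11)) 0 = 0 → ρ k *ᵥ v = v := by
  set X := (CL.map ρ).sum with hX
  have h1 : ∀ u, (X * ρ u).trace = ∑ j : Fin 11, if j ≠ 0 ∧ (u : Equiv.Perm (Fin 11)) j ≠ 0 then 1 else 0 := by
    intro u
    have h := trace_CL hF ρ hT 1 u rfl
    rwa [map_one, one_mul] at h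
  have h2 : ∀ k : K0, (k : Equiv.Perm (Fin 11)) 0 = 0 → ρ k * X = X := by
    intro k hk
    rw [← sub_eq_zero]
    apply H906.eq_zero_of_trace_mul hs
    rintro _ ⟨u, rfl⟩
    rw [sub_mul, Matrix.trace_sub, h1, hX, trace_CL hF ρ hT k u hk, sub_self]
  have h3 : X ≠ 0 := by
    intro h0
    have h4 := h1 gX
    rw [h0, zero_mul, Matrix.trace_zero] at h4
    have h5 : (∑ j : Fin 11, if j ≠ 0 ∧ (gX : Equiv.Perm (Fin 11)) j ≠ 0 then (1 : F) else 0) = ((9 : ℕ) : F) := by
      rw [← Finset.sum_filter, Finset.sum_const, nsmul_eq_mul, mul_one]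
      congr 1
    rw [h5, cast_mod hF] at h4
    norm_num at h4
  obtain ⟨w, hw⟩ : ∃ w : ι → F, X *ᵥ w ≠ 0 := by
    by_contra hcon
    push Not at hcon
    apply h3
    apply Matrix.toLin'.injective
    apply LinearMap.ext
    intro w
    rw [Matrix.toLin'_apply, hcon w, map_zero, LinearMap.zero_apply]
  exact ⟨X *ᵥ w, hw, fun k hk => by rw [mulVec_mulVec, h2 k hk]⟩

end Cfsg.Agent.H870.MEleven
end

-- part: H870/MEleven/Sharp
section
/-!
# `K0` is sharply 4-transitive on 11 points (helper870)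
-/

set_option autoImplicit false
set_option linter.unusedSectionVars false
set_option maxRecDepth 100000

namespace Cfsg.Agent.H870.MEleven

open Cfsg.Agent.SporadicB.AtlasPres.M11Rec Cfsg.Agent.SporadicA.SharpFour

theorem card_K4 : Nat.card K4 = 1 := by
  have s0 : (t0.map ew).length * Nat.card K1 ≤ Nat.card K0 := chain_step K0 0 (t0.map ew)
    (by
      intro w hw
      obtain ⟨v, -, rfl⟩ := List.mem_map.1 hw
      exact ew_mem v) nd0
  have s1 : (t1.map ew).length * Nat.card K2 ≤ Nat.card K1 := chain_step K1 1 (t1.map ew)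
    (by
      intro w hw
      obtain ⟨v, hv, rfl⟩ := List.mem_map.1 hw
      exact ⟨ew_mem v, fix1 v hv⟩) nd1
  have s2 : (t2.map ew).length * Nat.card K3 ≤ Nat.card K2 := chain_step K2 2 (t2.map ew)
    (by
      intro w hw
      obtain ⟨v, hv, rfl⟩ := List.mem_map.1 hw
      exact ⟨⟨ew_mem v, (fix2 v hv).1⟩, (fix2 v hv).2⟩) nd2
  have s3 : (t3.map ew).length * Nat.card K4 ≤ Nat.card K3 := chain_step K3 3 (t3.map ew)
    (by
      intro w hw
      obtain ⟨v, hv, rfl⟩ := List.mem_map.1 hw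
      exact ⟨⟨⟨ew_mem v, (fix3 v hv).1⟩, (fix3 v hv).2.1⟩, (fix3 v hv).2.2⟩) nd3
  have s4 : 1 ≤ Nat.card K4 := Nat.card_pos
  have hc := card_eq
  have l0 : (t0.map ew).length = 11 := by rw [List.length_map]; rfl
  have l1 : (t1.map ew).length = 10 := by rw [List.length_map]; rfl
  have l2 : (t2.map ew).length = 9 := by rw [List.length_map]; rfl
  have l3 : (t3.map ew).length = 8 := by rw [List.length_map]; rfl
  rw [l0] at s0
  rw [l1] at s1
  rw [l2] at s2
  rw [l3] at s3
  have hc' : Nat.card K0 = 7920 := hc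
  omega

theorem eq_one_of_fix {g : K0} (h0 : g • (0 : Fin 11) = 0) (h1 : g • (1 : Fin 11) = 1) (h2 : g • (2 : Fin 11) = 2)
    (h3 : g • (3 : Fin 11) = 3) : g = 1 := by
  have hm : (g : Equiv.Perm (Fin 11)) ∈ K4 := ⟨⟨⟨⟨g.2, h0⟩, h1⟩, h2⟩, h3⟩
  have h := Subgroup.card_eq_one.1 card_K4
  rw [h, Subgroup.mem_bot] at hm
  exact Subtype.ext hm

/-- the images of `0, 1, 2, 3` -/
def emb (g : K0) : Fin 4 ↪ Fin 11 :=
  ⟨fun i => g • (i.castLE (by norm_num) : Fin 11), fun i j h => by
    have h1 : (i.castLE (by norm_num) : Fin 11) = j.castLE (by norm_num) := MulAction.injective g h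
    have h2 : ((i.castLE (by norm_num) : Fin 11) : ℕ) = ((j.castLE (by norm_num) : Fin 11) : ℕ) := congrArg Fin.val h1
    exact Fin.ext h2⟩

theorem emb_injective : Function.Injective emb := by
  intro g h hgh
  have key : ∀ i : Fin 4, (h⁻¹ * g) • (i.castLE (by norm_num) : Fin 11) = i.castLE (by norm_num) := by
    intro i
    rw [mul_smul, inv_smul_eq_iff]
    exact congrFun (congrArg (fun f : Fin 4 ↪ Fin 11 => (f : Fin 4 → Fin 11)) hgh) i
  have h1 : h⁻¹ * g = 1 := eq_one_of_fix (key 0) (key 1) (key 2) (key 3)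
  exact (inv_mul_eq_one.1 h1).symm

theorem emb_surjective : Function.Surjective emb := by
  have h1 : Function.Bijective emb := by
    have := Fintype.ofFinite K0
    rw [Fintype.bijective_iff_injective_and_card]
    refine ⟨emb_injective, ?_⟩
    rw [← Nat.card_eq_fintype_card, card_eq, Fintype.card_embedding_eq, Fintype.card_fin, Fintype.card_fin]
    decide
  exact h1.2

theorem exists_tuple {a b c d : Fin 11} (h : [a, b, c, d].Nodup) : ∃ g : K0, g • (0 : Fin 11) = a ∧
    g • (1 : Fin 11) = b ∧ g • (2 : Fin 11) = c ∧ g • (3 : Fin 11) = d := by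
  have hinj : Function.Injective ![a, b, c, d] := List.nodup_ofFn.1 h
  obtain ⟨g, hg⟩ := emb_surjective ⟨![a, b, c, d], hinj⟩
  have key : ∀ i : Fin 4, g • (i.castLE (by norm_num) : Fin 11) = ![a, b, c, d] i := fun i =>
    congrFun (congrArg (fun f : Fin 4 ↪ Fin 11 => (f : Fin 4 → Fin 11)) hg) i
  exact ⟨g, key 0, key 1, key 2, key 3⟩

theorem sharp4 : Sharp4 K0 (Fin 11) where
  exists_map a b c d a' b' c' d' h h' := by
    obtain ⟨g, h0, h1, h2, h3⟩ := exists_tuple h
    obtain ⟨g', h0', h1', h2', h3'⟩ := exists_tuple h'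
    refine ⟨g' * g⁻¹, ?_, ?_, ?_, ?_⟩
    · rw [mul_smul, ← h0, inv_smul_smul, h0']
    · rw [mul_smul, ← h1, inv_smul_smul, h1']
    · rw [mul_smul, ← h2, inv_smul_smul, h2']
    · rw [mul_smul, ← h3, inv_smul_smul, h3']
  eq_one g a b c d h ha hb hc hd := by
    obtain ⟨k, h0, h1, h2, h3⟩ := exists_tuple h
    have h4 : k⁻¹ * g * k = 1 := by
      apply eq_one_of_fix
      · rw [mul_smul, mul_smul, h0, ha, ← h0, inv_smul_smul]
      · rw [mul_smul, mul_smul, h1, hb, ← h1, inv_smul_smul]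
      · rw [mul_smul, mul_smul, h2, hc, ← h2, inv_smul_smul]
      · rw [mul_smul, mul_smul, h3, hd, ← h3, inv_smul_smul]
    calc g = k * (k⁻¹ * g * k) * k⁻¹ := by group
      _ = 1 := by rw [h4]; group

end Cfsg.Agent.H870.MEleven
end

-- part: H870/MEleven/Main
section
/-!
# The Mathieu group of degree 11 in dimension 10 over the field with two elements (helper870)

`|F| = 2`, `|ι| = 10`, `G` isomorphic to the Mathieu group of degree 11, `φ : G →* GL ι F` not trivial.

* `absIrred_of_hom` : the image acts absolutely irreducibly;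
* `exists_fixed_of_hom` : every subgroup of index 11 fixes a non-zero vector;
* `card_field` : a core isomorphic to the group of degree 11, self-dual, in characteristic two: `|F| = 2`.
-/

set_option autoImplicit false
set_option linter.unusedSectionVars false

namespace Cfsg.Agent.H870.MEleven

open Cfsg Cfsg.Geo Matrix Cfsg.Agent.SporadicB.AtlasPres.M11Rec

universe u v

variable {F : Type u} [Field F] [Fintype F] {ι : Type} [Fintype ι] [DecidableEq ι]

section hom

variable (hF : Fintype.card F = 2) (hι : Fintype.card ι = 10) (φ : K0 →* GL ι F) (h : φ gX ≠ 1)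

/-- the matrices of a representation -/
def mat (φ : K0 →* GL ι F) : K0 →* Matrix ι ι F := (Units.coeHom _).comp φ

theorem mat_apply (φ : K0 →* GL ι F) (g : K0) : mat φ g = ((φ g : GL ι F) : Matrix ι ι F) := rfl

include hF hι h

theorem mat_pow : mat φ gX ^ 11 = 1 := by rw [← map_pow, X_pow, map_one]

omit hF hι in
theorem mat_ne : mat φ gX ≠ 1 := fun h0 => h (Units.ext h0)

theorem tf : TF (F := F) fun g => (mat φ g).trace where
  conj a b hab := by
    obtain ⟨c, hc⟩ := isConj_iff.1 hab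
    rw [← hc, map_mul, Matrix.trace_mul_comm, ← map_mul]
    congr 2
    group
  sq a := by
    rw [map_mul, trace_sq hF]
  one := by
    rw [map_one, Matrix.trace_one, hι]
    have := two_eq_zero hF
    push_cast
    linear_combination 5 * this

theorem coset_sum (g : K0) : ∑ i ∈ Finset.range 11, (mat φ (gX ^ i * g)).trace = 0 := by
  have h1 : ∀ i ∈ Finset.range 11, (mat φ (gX ^ i * g)).trace = ((mat φ gX) ^ i * mat φ g).trace := fun i _ => by
    rw [map_mul, map_pow]
  rw [Finset.sum_congr rfl h1, ← Matrix.trace_sum, ← Finset.sum_mul,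
    sum_pow_eq_zero hF hι (mat_pow hF hι φ h) (mat_ne φ h), zero_mul, Matrix.trace_zero]

/-- **The traces.** -/
theorem trace_eq (g : K0) : (mat φ g).trace = (fixp g : F) + 1 := by
  have h1 := (tf hF hι φ h).eq hF (coset_sum hF hι φ h) g
  rw [h1, trace_eq_one hF hι (mat_pow hF hι φ h) (mat_ne φ h), one_mul]

theorem trace_D : (mat φ gD).trace = 1 := by
  rw [trace_eq hF hι φ h]
  have f2 : fixp gD = 2 := by
    show (Finset.univ.filter fun j : Fin 11 => pD j = j).card = 2
    decide +kernel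
  have := two_eq_zero hF
  rw [f2]
  push_cast
  linear_combination this

/-- **Absolute irreducibility.** -/
theorem absIrred : ActsAbsolutelyIrreducibly (matrixSet φ.range) := by
  have hA := mat_pow hF hι φ h
  have hA1 := mat_ne φ h
  have hmem : ∀ g, mat φ g ∈ matrixSet φ.range := fun g => ⟨φ g, ⟨g, rfl⟩, rfl⟩
  refine ⟨fun W hW => ?_, fun M hM => ?_⟩
  · refine inv_cases hF hι hA hA1 fun u hu => ?_
    have := hW _ (hmem gX) ⟨u, hu, rfl⟩
    rwa [Matrix.toLin'_apply] at this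
  · have hc : ∀ g, M * mat φ g = mat φ g * M := fun g => hM _ (hmem g)
    have hY : IsUnit (mat φ gY) := (φ gY).isUnit
    have hS : IsUnit (mat φ gS) := (φ gS).isUnit
    rcases comm_cases hF hι hA hA1 hY (by rw [← map_pow, ← map_mul, ← map_mul, YX]) (hc gX) (hc gY) with h0 | h0 | h0
    · exact ⟨0, by rw [h0, zero_smul]⟩
    · exact ⟨1, by rw [h0, one_smul]⟩
    · exfalso
      have hsd : mat φ gS * mat φ gD = mat φ gD * mat φ gD * mat φ gS := by
        rw [← map_mul, SD_eq, map_mul, map_mul]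
      have e1 : (M * (mat φ gD * mat φ gD)).trace = (M * mat φ gD).trace := by
        obtain ⟨U, hU⟩ := hS
        have e2 : mat φ gD * mat φ gD = (U : Matrix ι ι F) * mat φ gD * ((U⁻¹ : (Matrix ι ι F)ˣ) : Matrix ι ι F) := by
          rw [hU, hsd, ← hU, mul_assoc (mat φ gD * mat φ gD), Units.mul_inv, mul_one]
        have e3 : M * (U : Matrix ι ι F) = (U : Matrix ι ι F) * M := by rw [hU]; exact hc gS
        rw [e2, mul_assoc, ← mul_assoc, e3, Matrix.trace_mul_comm, ← mul_assoc, mul_assoc (mat φ gD), Units.inv_mul,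
          mul_one, Matrix.trace_mul_comm]
      have e2 : (M * mat φ gD).trace = (M * (mat φ gD * mat φ gD)).trace + (mat φ gD * mat φ gD).trace := by
        rw [← trace_sq hF (M * mat φ gD)]
        have e4 : M * mat φ gD * (M * mat φ gD) = M * M * (mat φ gD * mat φ gD) := by
          rw [mul_assoc, ← mul_assoc (mat φ gD) M, ← hc gD, mul_assoc M (mat φ gD), ← mul_assoc M M]
        have e5 : M * M = M + 1 := by
          have e6 : ∀ N : Matrix ι ι F, N + N = 0 := by
            intro N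
            ext i j
            exact add_self' hF _
          have e7 : M * M + (M + 1) = 0 := by rw [← add_assoc]; exact h0
          calc M * M = M * M + ((M + 1) + (M + 1)) := by rw [e6, add_zero]
            _ = (M * M + (M + 1)) + (M + 1) := by abel
            _ = M + 1 := by rw [e7, zero_add]
        rw [e4, e5, add_mul, one_mul, Matrix.trace_add]
      rw [e1, trace_sq hF, trace_D hF hι φ h] at e2
      have e8 : (0 : F) = 1 := by linear_combination e2
      exact zero_ne_one e8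

theorem span_mat : Submodule.span F (Set.range (mat φ)) = ⊤ := by
  rw [← Cfsg.Agent.H920.span_eq_top (absIrred hF hι φ h)]
  congr 1
  ext X
  constructor
  · rintro ⟨g, rfl⟩
    exact ⟨φ g, ⟨g, rfl⟩, rfl⟩
  · rintro ⟨_, ⟨g, rfl⟩, rfl⟩
    exact ⟨g, rfl⟩

theorem exists_fix_point (b : Fin 11) : ∃ v : ι → F, v ≠ 0 ∧ ∀ k ∈ MulAction.stabilizer K0 b, mat φ k *ᵥ v = v := by
  obtain ⟨v, hv, hk⟩ := exists_fix hF (mat φ) (span_mat hF hι φ h) (trace_eq hF hι φ h)
  obtain ⟨g, hg⟩ : ∃ g : K0, g • (0 : Fin 11) = b := by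
    have hx : ∀ b : Fin 11, ((gX ^ ((11 - (b : ℕ)) : ℕ) : K0) : Equiv.Perm (Fin 11)) 0 = b := by
      have key : ∀ b : Fin 11, (pX ^ (11 - (b : ℕ))) 0 = b := by decide +kernel
      exact key
    exact ⟨_, hx b⟩
  refine ⟨mat φ g *ᵥ v, ?_, ?_⟩
  · intro h0
    apply hv
    have h1 : mat φ g⁻¹ *ᵥ (mat φ g *ᵥ v) = v := by
      rw [mulVec_mulVec, ← map_mul, inv_mul_cancel, map_one, one_mulVec]
    rw [← h1, h0, mulVec_zero]
  · intro k hkb
    have h1 : mat φ (g⁻¹ * k * g) *ᵥ v = v := by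
      apply hk
      have h2 : (g⁻¹ * k * g) • (0 : Fin 11) = 0 := by
        rw [mul_smul, mul_smul, hg, MulAction.mem_stabilizer_iff.1 hkb, ← hg, inv_smul_smul]
      exact h2
    have h3 : k * g = g * (g⁻¹ * k * g) := by group
    rw [mulVec_mulVec, ← map_mul, h3, map_mul, ← mulVec_mulVec, h1]

end hom

section general

variable {G : Type v} [Group G]

theorem exists_equiv (hG : Spor.IsoM11 G) : Nonempty (G ≃* K0) := by
  obtain ⟨e⟩ := hG
  obtain ⟨e'⟩ := isoM11
  exact ⟨e.trans e'.symm⟩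

variable (hF : Fintype.card F = 2) (hι : Fintype.card ι = 10) (hG : Spor.IsoM11 G) (φ : G →* GL ι F) (h : φ ≠ 1)

include hF hι hG h

end general

/-! ### cores in characteristic two -/

open Cfsg.Agent.H915.LD

theorem card_field [CharP F 2] {P : Subgroup (GL ι F)} (hC : Core P) (hsd : SD P) (e : Spor.IsoM11 P) :
    Fintype.card F = 2 := by
  have : Fact (Nat.Prime 2) := ⟨Nat.prime_two⟩
  refine hC.card_eq 2 (Fr.of_reg' 2 ?_)
  intro g hg hreg
  obtain ⟨e1⟩ := exists_equiv e
  have o6 : orderOf (e1.symm gX6) = 6 := (MulEquiv.orderOf_eq _ _).trans order_X6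
  have o8 : orderOf (e1.symm gX8) = 8 := (MulEquiv.orderOf_eq _ _).trans order_X8
  have o5 : orderOf (e1.symm gY) = 5 := (MulEquiv.orderOf_eq _ _).trans order_Y
  have o11 : orderOf (e1.symm gX) = 11 := (MulEquiv.orderOf_eq _ _).trans order_X
  have h1 : tr g ^ 2 = tr (g ^ 2) := by
    have := tr_pow_char 2 g 1
    rw [pow_one] at this
    exact this.symm
  rw [h1]
  have hreg' : ¬ 2 ∣ orderOf (⟨g, hg⟩ : P) := by rwa [Subgroup.orderOf_mk]
  have h2 : orderOf ((⟨g, hg⟩ : P) ^ 2) = orderOf (⟨g, hg⟩ : P) := by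
    rw [orderOf_pow, (Nat.Coprime.symm ((Nat.Prime.coprime_iff_not_dvd Nat.prime_two).2 hreg')).gcd_eq_one, Nat.div_one]
  exact (H6.M11.eq_of_order' e o6 o8 o5 o11 (fun g : P => tr (g : GL ι F)) (fun a b hab => tr_of_isConj hab)
    (hsd _ (e1.symm gX).2) (a := (⟨g, hg⟩ : P) ^ 2) (b := ⟨g, hg⟩) h2 (by
      rw [h2]
      intro h8
      apply hreg'
      rw [h8]
      norm_num) :)

end Cfsg.Agent.H870.MEleven
end

private theorem dce_bf8191af356e : _root_.True := by
  try have : _root_.True := by simp only [_root_.Cfsg.Agent.H870.MEleven.fixp.eq_1]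
  try have : _root_.True := by simp only [_root_.Cfsg.Agent.H870.MEleven.cnt.eq_1]
  try have : _root_.True := by simp only [_root_.Cfsg.Agent.H870.MEleven.fixS.eq_1]
  exact _root_.True.intro
end

-- part: H36/M12/Quat
section
set_option linter.all false
open scoped Cfsg.Agent.FastGrp

/-!
# Quaternion groups and symmetric forms (helper36)

* `alt_rank_even` : alternating forms have even rank;
* `minus_dvd` : a space with a nondegenerate symmetric form invariant under a faithful quaternion group has dimension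
  divisible by four.
* `plus_dvd` : two commuting involutions `i`, `j` such that `i`, `j`, `i j` have trace zero.
-/

set_option autoImplicit false
set_option linter.unusedSectionVars false

namespace Cfsg.Agent.H36.M12

open Module Cfsg.Agent.H932.Mt

section

variable {F T : Type*} [Field F] [AddCommGroup T] [Module F T] [FiniteDimensional F T]

/-- alternating forms have even rank -/
theorem alt_rank_even (B : LinearMap.BilinForm F T) (hB : ∀ x, B x x = 0) :
    ∃ r, finrank F T = finrank F (LinearMap.ker B) + 2 * r := by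
  obtain ⟨W, hW⟩ := Submodule.exists_isCompl (LinearMap.ker B)
  have hsw : ∀ x y, B x y = -B y x := by
    intro x y
    have h1 := hB (x + y)
    simp only [map_add, LinearMap.add_apply] at h1
    rw [hB, hB] at h1
    linear_combination h1
  have h1 := H727.GW.even_finrank (F := F) (finrank F W) W (B.restrict W) (fun x => hB x) (fun x hx => by
    have h2 : (x : T) ∈ LinearMap.ker B := by
      rw [LinearMap.mem_ker]
      apply LinearMap.ext
      intro y
      have hy : y ∈ LinearMap.ker B ⊔ W := by rw [hW.sup_eq_top]; trivial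
      obtain ⟨a, ha, b, hb, rfl⟩ := Submodule.mem_sup.1 hy
      rw [LinearMap.mem_ker] at ha
      have h3 : B x b = 0 := hx ⟨b, hb⟩
      rw [map_add, hsw x a, ha, LinearMap.zero_apply, h3, neg_zero, add_zero, LinearMap.zero_apply]
    have h3 : (x : T) ∈ LinearMap.ker B ⊓ W := ⟨h2, x.2⟩
    rw [hW.inf_eq_bot, Submodule.mem_bot] at h3
    exact Subtype.ext h3) rfl
  obtain ⟨k, hk⟩ := h1
  have h2 := Submodule.finrank_add_eq_of_isCompl hW
  exact ⟨k, by omega⟩

/-- **The faithful part.** -/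
theorem quat_dvd (h2 : (2 : F) ≠ 0) (f : LinearMap.BilinForm F T) (hs : ∀ x y, f x y = f y x)
    (hnd : ∀ x, (∀ y, f x y = 0) → x = 0) (I J : Module.End F T) (hI : ∀ x, I (I x) = -x) (hJ : ∀ x, J (J x) = -x)
    (hJI : ∀ x, J (I x) = -(I (J x))) (fI : ∀ x y, f (I x) (I y) = f x y) (fJ : ∀ x y, f (J x) (J y) = f x y)
    {β γ : F} (hβ : β * β + γ * γ = -1) : 4 ∣ finrank F T := by
  -- skewness
  have sI : ∀ x y, f (I x) y = -f x (I y) := by
    intro x y
    have h1 := fI (I x) y
    rw [hI, map_neg, LinearMap.neg_apply] at h1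
    rw [← h1]
  have sJ : ∀ x y, f (J x) y = -f x (J y) := by
    intro x y
    have h1 := fJ (J x) y
    rw [hJ, map_neg, LinearMap.neg_apply] at h1
    rw [← h1]
  set n : Module.End F T := I + β • J + γ • (I * J) with hn
  have n_apply : ∀ x, n x = I x + β • J x + γ • I (J x) := fun x => rfl
  have skew : ∀ x y, f (n x) y = -f x (n y) := by
    intro x y
    rw [n_apply, n_apply]
    simp only [map_add, map_smul, LinearMap.add_apply, LinearMap.smul_apply, smul_eq_mul]
    have e1 : f (I (J x)) y = -f x (I (J y)) := by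
      rw [sI, sJ, hJI, map_neg, neg_neg]
    rw [sI, sJ, e1]
    ring
  have n2 : ∀ x, n (n x) = 0 := by
    intro x
    rw [n_apply x]
    simp only [map_add, map_smul]
    rw [n_apply, n_apply, n_apply]
    have a1 : J (I (J x)) = I x := by rw [hJI, hJ, map_neg, neg_neg]
    have a2 : I (J (I x)) = J x := by rw [hJI, map_neg, hI, neg_neg]
    have a3 : I (J (I (J x))) = -x := by rw [a1, hI]
    rw [a3, a1, a2, hI, hI, hJ, hJI, map_neg]
    simp only [smul_add, smul_neg, smul_smul]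
    have : -x + -(β • I (J x)) + γ • J x + (β • I (J x) + -((β * β) • x) + -((β * γ) • I x)) +
        (-(γ • J x) + (γ * β) • I x + -((γ * γ) • x)) = -((1 + (β * β + γ * γ)) • x) + ((γ * β) • I x - (β * γ) • I x) := by
      rw [add_smul, add_smul, one_smul]; abel
    rw [this, hβ, mul_comm γ β, sub_self, add_neg_cancel, zero_smul, neg_zero, add_zero]
  have nI : ∀ x, n (I x) + I (n x) = -((2 : F) • x) := by
    intro x
    rw [n_apply, n_apply, map_add, map_add, map_smul, map_smul, hI, hI, hJI, map_neg, hI, neg_neg]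
    simp only [smul_neg]
    rw [two_smul]
    abel
  -- kernel and range
  have hkr : LinearMap.range n = LinearMap.ker n := by
    apply le_antisymm
    · rintro _ ⟨x, rfl⟩
      rw [LinearMap.mem_ker, n2]
    · intro x hx
      rw [LinearMap.mem_ker] at hx
      refine ⟨(-(2 : F)⁻¹) • I x, ?_⟩
      have h1 := nI x
      rw [hx, map_zero, add_zero] at h1
      rw [map_smul, h1, smul_neg, smul_smul, neg_mul, inv_mul_cancel₀ h2, neg_smul, one_smul, neg_neg]
  have h1 := LinearMap.finrank_range_add_finrank_ker n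
  rw [hkr] at h1
  -- the alternating form
  let B : LinearMap.BilinForm F T := f.comp n LinearMap.id
  have hB : ∀ x y, B x y = f (n x) y := fun _ _ => rfl
  obtain ⟨r, hr⟩ := alt_rank_even B (fun x => by
    have h3 := skew x x
    rw [hs x (n x)] at h3
    rw [hB]
    have h4 : (2 : F) * f (n x) x = 0 := by
      rw [two_mul]
      nth_rewrite 1 [h3]
      exact neg_add_cancel _
    exact (mul_eq_zero.1 h4).resolve_left h2)
  have h3 : LinearMap.ker B = LinearMap.ker n := by
    ext x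
    rw [LinearMap.mem_ker, LinearMap.mem_ker]
    constructor
    · intro h
      apply hnd
      intro y
      rw [← hB, h, LinearMap.zero_apply]
    · intro h
      apply LinearMap.ext
      intro y
      rw [hB, h, map_zero]
  rw [h3] at hr
  exact ⟨r, by omega⟩

end

section

variable {F V : Type*} [Field F] [AddCommGroup V] [Module F V] [FiniteDimensional F V]

/-- **The part with commuting involutions.** -/
theorem plus_dvd (h2 : (2 : F) ≠ 0) (W : Submodule F V) (I J HI HJ HK : Module.End F V)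
    (wI : ∀ v ∈ W, I v ∈ W) (wJ : ∀ v ∈ W, J v ∈ W) (I2 : ∀ v ∈ W, I (I v) = v) (J2 : ∀ v ∈ W, J (J v) = v)
    (hIJ : ∀ v ∈ W, J (I v) = I (J v))
    (wHI : ∀ v ∈ W, HI v ∈ W) (wHJ : ∀ v ∈ W, HJ v ∈ W) (wHK : ∀ v ∈ W, HK v ∈ W)
    (iHI : ∀ v, HI v = 0 → v = 0) (iHJ : ∀ v, HJ v = 0 → v = 0) (iHK : ∀ v, HK v = 0 → v = 0)
    (aI : ∀ v ∈ W, I (HI v) = -(HI (I v))) (aJ : ∀ v ∈ W, J (HJ v) = -(HJ (J v)))
    (aK : ∀ v ∈ W, (I * J) (HK v) = -(HK ((I * J) v))) : 4 ∣ finrank F W := by
  have c1 : (2 : F) * 1 ≠ 0 := by rwa [mul_one]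
  have sI := split W I c1 wI (fun v hv => by rw [I2 v hv, mul_one, one_smul])
  have sJ := split W J c1 wJ (fun v hv => by rw [J2 v hv, mul_one, one_smul])
  have wK : ∀ v ∈ W, (I * J) v ∈ W := fun v hv => wI _ (wJ _ hv)
  have K2 : ∀ v ∈ W, (I * J) ((I * J) v) = v := by
    intro v hv
    rw [Module.End.mul_apply, Module.End.mul_apply, hIJ _ (wJ _ hv), J2 v hv, I2 v hv]
  have sK := split W (I * J) c1 wK (fun v hv => by rw [K2 v hv, mul_one, one_smul])
  have eI := anti W I HI 1 wHI (fun v _ => iHI v) aI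
  have eJ := anti W J HJ 1 wHJ (fun v _ => iHJ v) aJ
  have eK := anti W (I * J) HK 1 wHK (fun v _ => iHK v) aK
  have sub : ∀ a : F, finrank F (W ⊓ es I a : Submodule F V) =
      finrank F (W ⊓ es I a ⊓ es J 1 : Submodule F V) + finrank F (W ⊓ es I a ⊓ es J (-1) : Submodule F V) := by
    intro a
    refine split (W ⊓ es I a) J c1 ?_ (fun v hv => by rw [J2 v hv.1, mul_one, one_smul])
    rintro v ⟨hv, hv'⟩
    refine ⟨wJ v hv, ?_⟩
    rw [SetLike.mem_coe, mem_es] at hv' ⊢
    rw [← hIJ v hv, hv', map_smul]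
  have subJ : finrank F (W ⊓ es J 1 : Submodule F V) =
      finrank F (W ⊓ es J 1 ⊓ es I 1 : Submodule F V) + finrank F (W ⊓ es J 1 ⊓ es I (-1) : Submodule F V) := by
    refine split (W ⊓ es J 1) I c1 ?_ (fun v hv => by rw [I2 v hv.1, mul_one, one_smul])
    rintro v ⟨hv, hv'⟩
    refine ⟨wI v hv, ?_⟩
    rw [SetLike.mem_coe, mem_es] at hv' ⊢
    rw [hIJ v hv, hv', map_smul]
  have subK : finrank F (W ⊓ es (I * J) 1 : Submodule F V) =
      finrank F (W ⊓ es (I * J) 1 ⊓ es I 1 : Submodule F V) + finrank F (W ⊓ es (I * J) 1 ⊓ es I (-1) : Submodule F V) := by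
    refine split (W ⊓ es (I * J) 1) I c1 ?_ (fun v hv => by rw [I2 v hv.1, mul_one, one_smul])
    rintro v ⟨hv, hv'⟩
    refine ⟨wI v hv, ?_⟩
    rw [SetLike.mem_coe, mem_es] at hv' ⊢
    rw [Module.End.mul_apply, hIJ v hv, ← Module.End.mul_apply I J, hv', map_smul]
  have q1 : W ⊓ es J 1 ⊓ es I 1 = W ⊓ es I 1 ⊓ es J 1 := by rw [inf_right_comm]
  have q2 : W ⊓ es J 1 ⊓ es I (-1) = W ⊓ es I (-1) ⊓ es J 1 := by rw [inf_right_comm]
  have q3 : W ⊓ es (I * J) 1 ⊓ es I 1 = W ⊓ es I 1 ⊓ es J 1 := by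
    ext v
    simp only [Submodule.mem_inf, mem_es, one_smul, Module.End.mul_apply]
    constructor
    · rintro ⟨⟨hv, h3⟩, h4⟩
      refine ⟨⟨hv, h4⟩, ?_⟩
      rw [← hIJ v hv, h4] at h3
      exact h3
    · rintro ⟨⟨hv, h3⟩, h4⟩
      exact ⟨⟨hv, by rw [h4, h3]⟩, h3⟩
  have q4 : W ⊓ es (I * J) 1 ⊓ es I (-1) = W ⊓ es I (-1) ⊓ es J (-1) := by
    ext v
    simp only [Submodule.mem_inf, mem_es, one_smul, neg_one_smul, Module.End.mul_apply]
    constructor
    · rintro ⟨⟨hv, h3⟩, h4⟩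
      refine ⟨⟨hv, h4⟩, ?_⟩
      rw [← hIJ v hv, h4, map_neg, neg_eq_iff_eq_neg] at h3
      exact h3
    · rintro ⟨⟨hv, h3⟩, h4⟩
      exact ⟨⟨hv, by rw [h4, map_neg, h3, neg_neg]⟩, h3⟩
  rw [q1, q2] at subJ
  rw [q3, q4] at subK
  have s1 := sub 1
  have s2 := sub (-1)
  omega

end

end Cfsg.Agent.H36.M12
end

-- part: H36/M12/Double
section
set_option linter.all false
open scoped Cfsg.Agent.FastGrp

/-!
# `2.M₁₂` does not act on an orthogonal space of dimension ten (helper36)
-/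

set_option autoImplicit false
set_option maxRecDepth 100000

namespace Cfsg.Agent.H36.M12

open Cfsg Cfsg.Geo Matrix Module Cfsg.Agent.H915.LD Cfsg.Agent.H933.O10 Cfsg.Agent.H932.Mt

universe u

variable {F : Type u} [Field F]

/-- the natural representation -/
def rp (P : Subgroup (GL (Fin 10) F)) : P →* Module.End F (Fin 10 → F) where
  toFun g := Matrix.mulVecLin ((g : GL (Fin 10) F) : Matrix (Fin 10) (Fin 10) F)
  map_one' := Matrix.mulVecLin_one
  map_mul' a b := by rw [Subgroup.coe_mul, Units.val_mul, Matrix.mulVecLin_mul]; rfl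

variable {p : ℕ} {Q : (Fin 10 → F) → F} {H P : Subgroup (GL (Fin 10) F)}

theorem exists_form (h : Cx p Q H P) : ∃ f : LinearMap.BilinForm F (Fin 10 → F),
    (∀ x y, f x y = QuadraticMap.polar Q x y) ∧ (∀ x, (∀ y, f x y = 0) → x = 0) ∧ (∀ x y, f x y = f y x) := by
  obtain ⟨R, hR, -⟩ := H883.Bridge.exists_quadraticForm h.hQ
  have h1 : ∀ x y, QuadraticMap.polarBilin R x y = QuadraticMap.polar Q x y := fun x y => by
    rw [← hR]; rfl
  refine ⟨QuadraticMap.polarBilin R, h1, ?_, fun x y => by rw [h1, h1, QuadraticMap.polar_comm]⟩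
  intro x hx
  by_contra hx0
  obtain ⟨-, z, hz⟩ := h.hQ.nondegenerate x hx0
  apply hz
  rw [← h1, hx]

/-- `j` to `-j` -/
def hj : Γ := gu * hi * gu

theorem hj_rel : hj * gj = H932.Mt.neg * gj * hj := gext (by decide +kernel)
theorem hi_t : hi * gt = gt * hi := gext (by decide +kernel)
theorem hj_t : hj * gt = gt * hj := gext (by decide +kernel)
theorem hk_t : hk * gt = gt * hk := gext (by decide +kernel)

/-- dimension of `+` -/
theorem plus_four (h2 : (2 : F) ≠ 0) (ρ : Γ →* Module.End F (Fin 10 → F)) (hneg : ∀ v, ρ H932.Mt.neg v = -v) :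
    4 ∣ finrank F (es (ρ gt) 1) := by
  have mul : ∀ (g h : Γ) (v : Fin 10 → F), ρ (g * h) v = ρ g (ρ h v) := fun g h v => by rw [map_mul]; rfl
  have rel : ∀ {g h g' h' : Γ}, g * h = g' * h' → ∀ v, ρ g (ρ h v) = ρ g' (ρ h' v) := by
    intro g h g' h' e v
    rw [← mul, ← mul, e]
  have inj : ∀ (g : Γ) (v : Fin 10 → F), ρ g v = 0 → v = 0 := by
    intro g v hv
    have : ρ g⁻¹ (ρ g v) = v := by rw [← mul, inv_mul_cancel, map_one]; rfl
    rw [← this, hv, map_zero]
  have cm : ∀ {g : Γ}, g * gt = gt * g → ∀ v ∈ es (ρ gt) 1, ρ g v ∈ es (ρ gt) 1 := by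
    intro g e v hv
    rw [mem_es_one] at hv ⊢
    rw [← rel e, hv]
  have sq : ∀ {g : Γ}, g * g = gt → ∀ v ∈ es (ρ gt) 1, ρ g (ρ g v) = v := by
    intro g e v hv
    rw [← mul, e]
    exact mem_es_one.1 hv
  have nt : ∀ {g k : Γ}, k * g = H932.Mt.neg * g * k → ∀ v, ρ g (ρ k v) = -(ρ k (ρ g v)) := by
    intro g k e v
    rw [← mul k, e, mul, mul, hneg, neg_neg]
  refine plus_dvd h2 (es (ρ gt) 1) (ρ gi) (ρ gj) (ρ hi) (ρ hj) (ρ hk) (cm it) (cm jt) (sq ii) (sq jj) ?_ (cm hi_t)
    (cm hj_t) (cm hk_t) (inj _) (inj _) (inj _) (fun v _ => nt hi_rel v) (fun v _ => nt hj_rel v) ?_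
  · intro v hv
    rw [← mul, ji, mul]
    have h1 := cm jt v hv
    have h3 : ρ gi⁻¹ (ρ gi (ρ gi (ρ gj v))) = ρ gi (ρ gj v) := by
      rw [← mul, inv_mul_cancel, map_one]; rfl
    rw [sq ii _ h1] at h3
    exact h3
  · intro v _
    have h1 := nt hk_rel v
    rw [gk, mul, mul] at h1
    exact h1

/-- dimension of `-` -/
theorem minus_four (h2 : (2 : F) ≠ 0) (ρ : Γ →* Module.End F (Fin 10 → F))
    (f : LinearMap.BilinForm F (Fin 10 → F)) (hnd : ∀ x, (∀ y, f x y = 0) → x = 0) (hs : ∀ x y, f x y = f y x)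
    (hinv : ∀ g x y, f (ρ g x) (ρ g y) = f x y) {β γ : F} (hβ : β * β + γ * γ = -1) :
    4 ∣ finrank F (es (ρ gt) (-1)) := by
  have mul : ∀ (g h : Γ) (v : Fin 10 → F), ρ (g * h) v = ρ g (ρ h v) := fun g h v => by rw [map_mul]; rfl
  have rel : ∀ {g h g' h' : Γ}, g * h = g' * h' → ∀ v, ρ g (ρ h v) = ρ g' (ρ h' v) := by
    intro g h g' h' e v
    rw [← mul, ← mul, e]
  have cm : ∀ {g : Γ}, g * gt = gt * g → ∀ v ∈ es (ρ gt) (-1), ρ g v ∈ es (ρ gt) (-1) := by
    intro g e v hv
    rw [mem_es_neg_one] at hv ⊢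
    rw [← rel e, hv, map_neg]
  have sq : ∀ {g : Γ}, g * g = gt → ∀ v ∈ es (ρ gt) (-1), ρ g (ρ g v) = -v := by
    intro g e v hv
    rw [← mul, e]
    exact mem_es_neg_one.1 hv
  have t2 : ∀ v, ρ gt (ρ gt v) = v := fun v => by rw [← mul, tt, map_one]; rfl
  refine quat_dvd h2 (f.restrict (es (ρ gt) (-1))) (fun x y => hs x y) ?_ ((ρ gi).restrict (cm it))
    ((ρ gj).restrict (cm jt)) ?_ ?_ ?_ (fun x y => hinv gi x y) (fun x y => hinv gj x y) hβ
  · intro x hx
    apply Subtype.ext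
    apply hnd
    intro y
    have h3 : y - ρ gt y ∈ es (ρ gt) (-1) := by
      rw [mem_es_neg_one, map_sub, t2]; abel
    have h4 : f x (y - ρ gt y) = 0 := hx ⟨_, h3⟩
    have h5 : f x (ρ gt y) = -f x y := by
      have h6 := hinv gt x y
      rw [mem_es_neg_one.1 x.2, map_neg, LinearMap.neg_apply] at h6
      rw [← h6, neg_neg]
    rw [map_sub, h5, sub_neg_eq_add, ← two_mul] at h4
    exact (mul_eq_zero.1 h4).resolve_left h2
  · intro x
    exact Subtype.ext (sq ii x x.2)
  · intro x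
    exact Subtype.ext (sq jj x x.2)
  · intro x
    apply Subtype.ext
    show ρ gj (ρ gi x) = -(ρ gi (ρ gj x))
    rw [← mul, ji, mul]
    have h1 := cm jt x x.2
    have h3 : ρ gi⁻¹ (ρ gi (ρ gi (ρ gj x))) = ρ gi (ρ gj x) := by
      rw [← mul, inv_mul_cancel, map_one]; rfl
    rw [sq ii _ h1, map_neg] at h3
    rw [← h3, neg_neg]

/-- **No double cover.** -/
theorem no_double [Finite F] (h : Cx p Q H P) (e : Soc P ≃* Spor.M12) (h2 : (2 : F) ≠ 0) {z : P}
    (hz : ((z : GL (Fin 10) F) : Matrix (Fin 10) (Fin 10) F) = -1) : False := by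
  obtain ⟨φ, hφ, hφe⟩ := exists_cover h.core e
  have hch := h.char
  have hprime : Fact p.Prime := ⟨h.prime⟩
  have h11 : (1 : Matrix (Fin 10) (Fin 10) F) ≠ -1 := by
    intro h0
    have h3 := congrFun (congrFun h0 0) 0
    rw [Matrix.neg_apply, Matrix.one_apply_eq] at h3
    apply h2
    linear_combination h3
  have hneg1 : ((φ H932.Mt.neg : GL (Fin 10) F) : Matrix (Fin 10) (Fin 10) F) = -1 := by
    have h3 : toSoc P (φ H932.Mt.neg) = 1 := by
      apply e.injective
      rw [hφe, sig_neg, map_one]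
    have h4 : φ H932.Mt.neg ∈ (toSoc P).ker := h3
    rw [ker_toSoc, Subgroup.mem_subgroupOf] at h4
    obtain ⟨c, hc⟩ := (mem_scalars_iff _).1 h4
    have h5 := h.scalar_sq (φ H932.Mt.neg).2 hc
    have h6 : ((c : F) - 1) * ((c : F) + 1) = 0 := by linear_combination h5
    rcases mul_eq_zero.1 h6 with h7 | h7
    · exfalso
      have h8 : (c : F) = 1 := sub_eq_zero.1 h7
      have h9 : φ H932.Mt.neg = 1 := by
        apply Subtype.ext
        apply Units.ext
        rw [hc, h8, one_smul]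
        rfl
      obtain ⟨x, hx⟩ := hφ z
      have h10 : toSoc P z = 1 := by
        have : z ∈ (toSoc P).ker := by
          rw [ker_toSoc, Subgroup.mem_subgroupOf, mem_scalars_iff]
          exact ⟨-1, by rw [hz]; simp⟩
        exact this
      have h12 := hφe x
      rw [hx, h10, map_one] at h12
      have h13 : z = 1 := by
        rcases eq_of_sig h12.symm with h14 | h14
        · rw [← hx, h14, map_one]
        · rw [← hx, h14, h9]
      rw [h13] at hz
      exact h11 hz
    · rw [hc, eq_neg_of_add_eq_zero_left h7, neg_one_smul]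
  set ρ : Γ →* Module.End F (Fin 10 → F) := (rp P).comp φ with hρ
  have ρ_apply : ∀ g v, ρ g v = ((φ g : GL (Fin 10) F) : Matrix (Fin 10) (Fin 10) F) *ᵥ v := fun _ _ => rfl
  have hneg : ∀ v, ρ H932.Mt.neg v = -v := fun v => by rw [ρ_apply, hneg1, Matrix.neg_mulVec, Matrix.one_mulVec]
  obtain ⟨f, hf, hnd, hs⟩ := exists_form h
  have hinv : ∀ g x y, f (ρ g x) (ρ g y) = f x y := by
    intro g x y
    rw [hf, hf, ρ_apply, ρ_apply]
    exact polar_mulVec (h.le_omega (φ g).2) x y
  have : NeZero p := ⟨h.prime.ne_zero⟩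
  obtain ⟨a, b, hab⟩ := CharP.sq_add_sq F p (-1)
  have h3 := plus_four h2 ρ hneg
  have h4 := minus_four h2 ρ f hnd hs hinv (β := a) (γ := b) (by rw [← pow_two, ← pow_two, hab]; simp)
  have t2 : ∀ v, ρ gt (ρ gt v) = v := fun v => by
    have : ρ (gt * gt) v = ρ gt (ρ gt v) := by rw [map_mul]; rfl
    rw [← this, tt, map_one]; rfl
  have h5 := split_one h2 (⊤ : Submodule F (Fin 10 → F)) (ρ gt) (fun _ _ => trivial) t2
  rw [top_inf_eq, top_inf_eq, finrank_top, Module.finrank_fintype_fun_eq_card, Fintype.card_fin] at h5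
  omega

end Cfsg.Agent.H36.M12

private theorem dce_7dccea45db44 : _root_.True := by
  try have : _root_.True := by simp only [_root_.Cfsg.Agent.H932.Mt.gk.eq_1]
  exact _root_.True.intro
end

-- part: H926/MThFix_mg
section
prune_inst 0x424000000052200000000808001200020300000000000080008c002040200a00200800040000000001200800100010020000000200000000000000000000000000000120090080000000000000000000000000000000000000000000000000000000000000
set_option linter.all false
open scoped Cfsg.Agent.FastGrp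

-- part: H926/MThLin
section
/-!
# Involutions, quaternion groups and `S₃` in characteristic 3: dimensions of fixed spaces (helper926)

* `split`, `vier` : involutions and commuting pairs of involutions on a subspace;
* `ND` : the form is nondegenerate on the subspace; `ND.plus`, `ND.minus`;
* `quat` : a quaternion group acting faithfully and isometrically (symmetric form): `4 ∣ dim`;
* `three_fixed` : `S₃` acting isometrically in characteristic 3, the involution having trace zero: there is a fixed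
  vector.
-/

set_option autoImplicit false

namespace Cfsg.Agent.H926.MTh

open Module

variable {k : Type*} [Field k] {V : Type*} [AddCommGroup V] [Module k V]

/-- the fixed vectors -/
def C (α : End k V) : Submodule k V := LinearMap.ker (α - 1)

/-- the negated vectors -/
def N (α : End k V) : Submodule k V := LinearMap.ker (α + 1)

theorem mem_C {α : End k V} {v : V} : v ∈ C α ↔ α v = v := by
  rw [C, LinearMap.mem_ker, LinearMap.sub_apply, Module.End.one_apply, sub_eq_zero]

theorem mem_N {α : End k V} {v : V} : v ∈ N α ↔ α v = -v := by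
  rw [N, LinearMap.mem_ker, LinearMap.add_apply, Module.End.one_apply, add_eq_zero_iff_eq_neg]

theorem eq_zero_of_neg (h2 : (2 : k) ≠ 0) {v : V} (h : v = -v) : v = 0 := by
  have h1 : (2 : k) • v = 0 := by
    rw [two_smul]
    nth_rewrite 2 [h]
    rw [add_neg_cancel]
  exact (smul_eq_zero.1 h1).resolve_left h2

theorem split [FiniteDimensional k V] (h2 : (2 : k) ≠ 0) {α : End k V} {W : Submodule k V} (hW : ∀ w ∈ W, α w ∈ W)
    (hα : ∀ w ∈ W, α (α w) = w) :
    finrank k W = finrank k (W ⊓ C α : Submodule k V) + finrank k (W ⊓ N α : Submodule k V) := by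
  have h1 : (W ⊓ C α) ⊔ (W ⊓ N α) = W := by
    apply le_antisymm
    · exact sup_le inf_le_left inf_le_left
    · intro w hw
      rw [Submodule.mem_sup]
      refine ⟨(2 : k)⁻¹ • (w + α w), ⟨W.smul_mem _ (W.add_mem hw (hW w hw)), ?_⟩,
        (2 : k)⁻¹ • (w - α w), ⟨W.smul_mem _ (W.sub_mem hw (hW w hw)), ?_⟩, ?_⟩
      · rw [SetLike.mem_coe, mem_C, map_smul, map_add, hα w hw, add_comm]
      · rw [SetLike.mem_coe, mem_N, map_smul, map_sub, hα w hw, ← smul_neg, neg_sub]
      · rw [← smul_add, add_add_sub_cancel, ← two_smul k w, smul_smul, inv_mul_cancel₀ h2, one_smul]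
  have h3 : (W ⊓ C α) ⊓ (W ⊓ N α) = ⊥ := by
    rw [eq_bot_iff]
    rintro w ⟨⟨-, hw1⟩, -, hw2⟩
    rw [SetLike.mem_coe, mem_C] at hw1
    rw [SetLike.mem_coe, mem_N] at hw2
    exact eq_zero_of_neg h2 (hw1.symm.trans hw2)
  have h4 := Submodule.finrank_sup_add_finrank_inf_eq (W ⊓ C α) (W ⊓ N α)
  rw [h1, h3, finrank_bot, add_zero] at h4
  exact h4

theorem vier [FiniteDimensional k V] (h2 : (2 : k) ≠ 0) {α β : End k V} {W : Submodule k V} (hα : ∀ w ∈ W, α w ∈ W)
    (hβ : ∀ w ∈ W, β w ∈ W) (hα2 : ∀ w ∈ W, α (α w) = w) (hβ2 : ∀ w ∈ W, β (β w) = w)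
    (hc : ∀ w ∈ W, α (β w) = β (α w)) :
    finrank k W + 2 * finrank k (W ⊓ C α ⊓ C β : Submodule k V) =
      finrank k (W ⊓ C α : Submodule k V) + finrank k (W ⊓ C β : Submodule k V) +
        finrank k (W ⊓ C (α * β) : Submodule k V) := by
  have e1 := split h2 hα hα2
  have e2 : finrank k (W ⊓ C α : Submodule k V) = finrank k (W ⊓ C α ⊓ C β : Submodule k V) +
      finrank k (W ⊓ C α ⊓ N β : Submodule k V) := by
    refine split h2 ?_ fun w hw => hβ2 w hw.1
    rintro w ⟨hw, hw'⟩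
    rw [SetLike.mem_coe, mem_C] at hw'
    refine ⟨hβ w hw, ?_⟩
    rw [SetLike.mem_coe, mem_C, hc w hw, hw']
  have e3 : finrank k (W ⊓ C β : Submodule k V) = finrank k (W ⊓ C β ⊓ C α : Submodule k V) +
      finrank k (W ⊓ C β ⊓ N α : Submodule k V) := by
    refine split h2 ?_ fun w hw => hα2 w hw.1
    rintro w ⟨hw, hw'⟩
    rw [SetLike.mem_coe, mem_C] at hw'
    refine ⟨hα w hw, ?_⟩
    rw [SetLike.mem_coe, mem_C, ← hc w hw, hw']
  have e4 : finrank k (W ⊓ N α : Submodule k V) = finrank k (W ⊓ N α ⊓ C β : Submodule k V) +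
      finrank k (W ⊓ N α ⊓ N β : Submodule k V) := by
    refine split h2 ?_ fun w hw => hβ2 w hw.1
    rintro w ⟨hw, hw'⟩
    rw [SetLike.mem_coe, mem_N] at hw'
    refine ⟨hβ w hw, ?_⟩
    rw [SetLike.mem_coe, mem_N, hc w hw, hw', map_neg]
  have e5 : finrank k (W ⊓ C (α * β) : Submodule k V) = finrank k (W ⊓ C (α * β) ⊓ C α : Submodule k V) +
      finrank k (W ⊓ C (α * β) ⊓ N α : Submodule k V) := by
    refine split h2 ?_ fun w hw => hα2 w hw.1
    rintro w ⟨hw, hw'⟩
    rw [SetLike.mem_coe, mem_C, Module.End.mul_apply] at hw'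
    refine ⟨hα w hw, ?_⟩
    rw [SetLike.mem_coe, mem_C, Module.End.mul_apply, ← hc w hw, hw']
  have s1 : (W ⊓ C β ⊓ C α : Submodule k V) = W ⊓ C α ⊓ C β := by
    rw [inf_assoc, inf_comm (C β), inf_assoc]
  have s2 : (W ⊓ C β ⊓ N α : Submodule k V) = W ⊓ N α ⊓ C β := by
    rw [inf_assoc, inf_comm (C β), inf_assoc]
  have key : ∀ w ∈ W, α (β w) = w → β w = α w := by
    intro w hw h
    have h1 := congrArg α h
    rwa [hα2 _ (hβ w hw)] at h1
  have s3 : (W ⊓ C (α * β) ⊓ C α : Submodule k V) = W ⊓ C α ⊓ C β := by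
    ext w
    constructor
    · rintro ⟨⟨hw, h1⟩, h3⟩
      rw [SetLike.mem_coe, mem_C, Module.End.mul_apply] at h1
      rw [SetLike.mem_coe, mem_C] at h3
      exact ⟨⟨hw, mem_C.2 h3⟩, mem_C.2 ((key w hw h1).trans h3)⟩
    · rintro ⟨⟨hw, h1⟩, h3⟩
      rw [SetLike.mem_coe, mem_C] at h1 h3
      refine ⟨⟨hw, ?_⟩, mem_C.2 h1⟩
      rw [SetLike.mem_coe, mem_C, Module.End.mul_apply, h3, h1]
  have s4 : (W ⊓ C (α * β) ⊓ N α : Submodule k V) = W ⊓ N α ⊓ N β := by
    ext w
    constructor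
    · rintro ⟨⟨hw, h1⟩, h3⟩
      rw [SetLike.mem_coe, mem_C, Module.End.mul_apply] at h1
      rw [SetLike.mem_coe, mem_N] at h3
      exact ⟨⟨hw, mem_N.2 h3⟩, mem_N.2 ((key w hw h1).trans h3)⟩
    · rintro ⟨⟨hw, h1⟩, h3⟩
      rw [SetLike.mem_coe, mem_N] at h1 h3
      refine ⟨⟨hw, ?_⟩, mem_N.2 h1⟩
      rw [SetLike.mem_coe, mem_C, Module.End.mul_apply, h3, map_neg, h1, neg_neg]
  rw [s1, s2] at e3
  rw [s3, s4] at e5
  omega

/-! ### The form -/

variable (B : LinearMap.BilinForm k V)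

/-- the form is nondegenerate on `U` -/
def ND (U : Submodule k V) : Prop := ∀ v ∈ U, v ≠ 0 → ∃ w ∈ U, B v w ≠ 0

variable {B}

theorem ND.plus (h2 : (2 : k) ≠ 0) {U : Submodule k V} (hU : ND B U) {α : End k V} (hα : ∀ v ∈ U, α v ∈ U)
    (hα2 : ∀ v ∈ U, α (α v) = v) (hi : ∀ v w, B (α v) (α w) = B v w) : ND B (U ⊓ C α) := by
  rintro v ⟨hv, hv'⟩ h0
  rw [SetLike.mem_coe, mem_C] at hv'
  obtain ⟨w, hw, hvw⟩ := hU v hv h0
  refine ⟨w + α w, ⟨U.add_mem hw (hα w hw), ?_⟩, ?_⟩
  · rw [SetLike.mem_coe, mem_C, map_add, hα2 w hw, add_comm]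
  · have h1 := hi v w
    rw [hv'] at h1
    rw [map_add, h1, ← two_mul]
    exact mul_ne_zero h2 hvw

theorem ND.minus (h2 : (2 : k) ≠ 0) {U : Submodule k V} (hU : ND B U) {α : End k V} (hα : ∀ v ∈ U, α v ∈ U)
    (hα2 : ∀ v ∈ U, α (α v) = v) (hi : ∀ v w, B (α v) (α w) = B v w) : ND B (U ⊓ N α) := by
  rintro v ⟨hv, hv'⟩ h0
  rw [SetLike.mem_coe, mem_N] at hv'
  obtain ⟨w, hw, hvw⟩ := hU v hv h0
  refine ⟨w - α w, ⟨U.sub_mem hw (hα w hw), ?_⟩, ?_⟩
  · rw [SetLike.mem_coe, mem_N, map_sub, hα2 w hw, neg_sub]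
  · have h1 := hi v w
    rw [hv', map_neg, LinearMap.neg_apply] at h1
    rw [map_sub, sub_eq_add_neg, h1, ← two_mul]
    exact mul_ne_zero h2 hvw

theorem exists_nonsing (h2 : (2 : k) ≠ 0) (hs : ∀ v w, B v w = B w v) {U : Submodule k V} (hU : ND B U) (h0 : U ≠ ⊥) :
    ∃ v ∈ U, B v v ≠ 0 := by
  by_contra hcon
  push Not at hcon
  obtain ⟨v, hv, hv0⟩ := U.exists_mem_ne_zero_of_ne_bot h0
  obtain ⟨w, hw, hvw⟩ := hU v hv hv0
  have h1 := hcon (v + w) (U.add_mem hv hw)
  simp only [map_add, LinearMap.add_apply] at h1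
  rw [hcon v hv, hcon w hw, hs w v, zero_add, add_zero, ← two_mul] at h1
  exact (mul_ne_zero h2 hvw) h1

theorem quat [FiniteDimensional k V] (h2 : (2 : k) ≠ 0) (hs : ∀ v w, B v w = B w v) {f g : End k V}
    (hf : ∀ v w, B (f v) (f w) = B v w) (hg : ∀ v w, B (g v) (g w) = B v w) : ∀ (n : ℕ) (U : Submodule k V),
    finrank k U ≤ n → ND B U → (∀ u ∈ U, f u ∈ U) → (∀ u ∈ U, g u ∈ U) → (∀ u ∈ U, f (f u) = -u) →
    (∀ u ∈ U, g (g u) = -u) → (∀ u ∈ U, f (g u) = -g (f u)) → 4 ∣ finrank k U := by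
  intro n
  induction n with
  | zero =>
    intro U hU _ _ _ _ _ _
    rw [Nat.le_zero.1 hU]
    exact dvd_zero 4
  | succ n ih =>
    intro U hU hnd hfU hgU hff hgg hfg
    by_cases h0 : U = ⊥
    · rw [h0, finrank_bot]
      exact dvd_zero 4
    obtain ⟨v, hv, hvv⟩ := exists_nonsing h2 hs hnd h0
    have self_zero : ∀ a b : V, B a b = -B a b → B a b = 0 := by
      intro a b h
      have h1 : (2 : k) * B a b = 0 := by linear_combination h
      exact (mul_eq_zero.1 h1).resolve_left h2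
    -- skewness
    have skf : ∀ a ∈ U, ∀ b ∈ U, B (f a) b = -B a (f b) := by
      intro a ha b hb
      have h1 := hf a (f b)
      rw [hff b hb, map_neg] at h1
      rw [← h1, neg_neg]
    have skg : ∀ a ∈ U, ∀ b ∈ U, B (g a) b = -B a (g b) := by
      intro a ha b hb
      have h1 := hg a (g b)
      rw [hgg b hb, map_neg] at h1
      rw [← h1, neg_neg]
    have hfv := hfU v hv
    have hgv := hgU v hv
    have hfgv := hfU _ hgv
    have b12 : B v (f v) = 0 := by
      apply self_zero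
      rw [← skf v hv v hv, hs]
    have b13 : B v (g v) = 0 := by
      apply self_zero
      rw [← skg v hv v hv, hs]
    have b14 : B v (f (g v)) = 0 := by
      apply self_zero
      have h1 : B v (f (g v)) = -B (f v) (g v) := by rw [skf v hv (g v) hgv, neg_neg]
      have h3 : B (f v) (g v) = B v (f (g v)) := by
        have h4 := skg (f v) hfv v hv
        rw [hfg v hv, map_neg, hs v, h4, neg_neg]
      rw [h3] at h1
      exact h1
    have b23 : B (f v) (g v) = 0 := by
      rw [skf v hv (g v) hgv, b14, neg_zero]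
    have b24 : B (f v) (f (g v)) = 0 := by rw [hf, b13]
    have b34 : B (g v) (f (g v)) = 0 := by
      apply self_zero
      have h1 := skf (g v) hgv (g v) hgv
      rw [← h1, hs]
    have b22 : B (f v) (f v) = B v v := hf v v
    have b33 : B (g v) (g v) = B v v := hg v v
    have b44 : B (f (g v)) (f (g v)) = B v v := by rw [hf, hg]
    -- the map
    let L : U →ₗ[k] (Fin 4 → k) := LinearMap.pi ![(B v).comp U.subtype, (B (f v)).comp U.subtype,
      (B (g v)).comp U.subtype, (B (f (g v))).comp U.subtype]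
    have hL : ∀ u : U, L u = ![B v u, B (f v) u, B (g v) u, B (f (g v)) u] := by
      intro u
      ext i
      fin_cases i <;> rfl
    have hsurj : Function.Surjective L := by
      intro c
      refine ⟨⟨(B v v)⁻¹ • (c 0 • v + c 1 • f v + c 2 • g v + c 3 • f (g v)),
        U.smul_mem _ (U.add_mem (U.add_mem (U.add_mem (U.smul_mem _ hv) (U.smul_mem _ hfv)) (U.smul_mem _ hgv))
          (U.smul_mem _ hfgv))⟩, ?_⟩
      rw [hL]
      ext i
      fin_cases i
      · change B v ((B v v)⁻¹ • (c 0 • v + c 1 • f v + c 2 • g v + c 3 • f (g v))) = c 0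
        simp only [map_smul, map_add, smul_eq_mul, b12, b13, b14, mul_zero, add_zero]
        field_simp
      · change B (f v) ((B v v)⁻¹ • (c 0 • v + c 1 • f v + c 2 • g v + c 3 • f (g v))) = c 1
        simp only [map_smul, map_add, smul_eq_mul, hs (f v) v, b12, b22, b23, b24, mul_zero, add_zero, zero_add]
        field_simp
      · change B (g v) ((B v v)⁻¹ • (c 0 • v + c 1 • f v + c 2 • g v + c 3 • f (g v))) = c 2
        simp only [map_smul, map_add, smul_eq_mul, hs (g v) v, hs (g v) (f v), b13, b23, b33, b34, mul_zero, add_zero,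
          zero_add]
        field_simp
      · change B (f (g v)) ((B v v)⁻¹ • (c 0 • v + c 1 • f v + c 2 • g v + c 3 • f (g v))) = c 3
        simp only [map_smul, map_add, smul_eq_mul, hs (f (g v)) v, hs (f (g v)) (f v), hs (f (g v)) (g v), b14, b24,
          b34, b44, mul_zero, add_zero, zero_add]
        field_simp
    have hrn := L.finrank_range_add_finrank_ker
    rw [LinearMap.range_eq_top.2 hsurj, finrank_top, Module.finrank_fin_fun] at hrn
    let U' : Submodule k V := (LinearMap.ker L).map U.subtype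
    have hU' : ∀ u, u ∈ U' ↔ u ∈ U ∧ B v u = 0 ∧ B (f v) u = 0 ∧ B (g v) u = 0 ∧ B (f (g v)) u = 0 := by
      intro u
      constructor
      · rintro ⟨u, hu, rfl⟩
        rw [SetLike.mem_coe, LinearMap.mem_ker, hL] at hu
        exact ⟨u.2, congrFun hu 0, congrFun hu 1, congrFun hu 2, congrFun hu 3⟩
      · rintro ⟨hu, h1, h3, h4, h5⟩
        refine ⟨⟨u, hu⟩, ?_, rfl⟩
        rw [SetLike.mem_coe, LinearMap.mem_ker, hL]
        ext i
        fin_cases i
        · exact h1
        · exact h3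
        · exact h4
        · exact h5
    have hfr : finrank k U' = finrank k (LinearMap.ker L) :=
      Submodule.finrank_map_subtype_eq _ _
    have h4 : 4 ∣ finrank k U' := by
      refine ih U' (by omega) ?_ ?_ ?_ ?_ ?_ ?_
      · intro u hu hu0
        obtain ⟨hu, h1, h3, h4, h5⟩ := (hU' u).1 hu
        obtain ⟨w, hw, huw⟩ := hnd u hu hu0
        refine ⟨w - (B v v)⁻¹ • (B v w • v + B (f v) w • f v + B (g v) w • g v + B (f (g v)) w • f (g v)),
          (hU' _).2 ⟨U.sub_mem hw (U.smul_mem _ (U.add_mem (U.add_mem (U.add_mem (U.smul_mem _ hv) (U.smul_mem _ hfv))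
            (U.smul_mem _ hgv)) (U.smul_mem _ hfgv))), ?_, ?_, ?_, ?_⟩, ?_⟩
        · simp only [map_sub, map_smul, map_add, smul_eq_mul, b12, b13, b14, mul_zero, add_zero]
          field_simp
          ring
        · simp only [map_sub, map_smul, map_add, smul_eq_mul, hs (f v) v, b12, b22, b23, b24, mul_zero, add_zero,
            zero_add]
          field_simp
          ring
        · simp only [map_sub, map_smul, map_add, smul_eq_mul, hs (g v) v, hs (g v) (f v), b13, b23, b33, b34, mul_zero,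
            add_zero, zero_add]
          field_simp
          ring
        · simp only [map_sub, map_smul, map_add, smul_eq_mul, hs (f (g v)) v, hs (f (g v)) (f v), hs (f (g v)) (g v),
            b14, b24, b34, b44, mul_zero, add_zero, zero_add]
          field_simp
          ring
        · simp only [map_sub, map_smul, map_add, smul_eq_mul, hs u v, hs u (f v), hs u (g v), hs u (f (g v)), h1, h3,
            h4, h5, mul_zero, add_zero, sub_zero]
          exact huw
      · intro u hu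
        obtain ⟨hu, h1, h3, h4, h5⟩ := (hU' u).1 hu
        refine (hU' _).2 ⟨hfU u hu, ?_, ?_, ?_, ?_⟩
        · rw [hs, skf u hu v hv, hs, h3, neg_zero]
        · rw [hf, h1]
        · rw [hs, skf u hu (g v) hgv, hs, h5, neg_zero]
        · rw [hf, h4]
      · intro u hu
        obtain ⟨hu, h1, h3, h4, h5⟩ := (hU' u).1 hu
        refine (hU' _).2 ⟨hgU u hu, ?_, ?_, ?_, ?_⟩
        · rw [hs, skg u hu v hv, hs, h4, neg_zero]
        · have e : g (f v) = -f (g v) := by rw [hfg v hv, neg_neg]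
          rw [hs, skg u hu (f v) hfv, e, map_neg, neg_neg, hs, h5]
        · rw [hg, h1]
        · rw [hfg v hv, map_neg, LinearMap.neg_apply, hg, h3, neg_zero]
      · intro u hu
        exact hff u ((hU' u).1 hu).1
      · intro u hu
        exact hgg u ((hU' u).1 hu).1
      · intro u hu
        exact hfg u ((hU' u).1 hu).1
    omega

/-- `S₃` in characteristic 3 -/
theorem three_fixed [FiniteDimensional k V] (h3 : (3 : k) = 0) (h2 : (2 : k) ≠ 0) {Y : Submodule k V}
    (hY : ND B Y) (h0 : Y ≠ ⊥) {u s : End k V} (hu : ∀ y ∈ Y, u y ∈ Y) (hs' : ∀ y ∈ Y, s y ∈ Y)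
    (hui : ∀ v w, B (u v) (u w) = B v w) (hsi : ∀ v w, B (s v) (s w) = B v w) (huu : ∀ y ∈ Y, u (u y) = y)
    (hsss : ∀ y ∈ Y, s (s (s y)) = y) (hus : ∀ y ∈ Y, u (s y) = s (s (u y)))
    (hd : finrank k (Y ⊓ C u : Submodule k V) = finrank k (Y ⊓ N u : Submodule k V)) :
    ∃ v ∈ Y, v ≠ 0 ∧ u v = v ∧ s v = v := by
  by_contra hcon
  push Not at hcon
  let D : End k V := s - s * s
  have hD : ∀ y, D y = s y - s (s y) := fun y => rfl
  have hDY : ∀ y ∈ Y, D y ∈ Y := fun y hy => Y.sub_mem (hs' y hy) (hs' _ (hs' y hy))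
  have huD : ∀ y ∈ Y, u (D y) = -D (u y) := by
    intro y hy
    have h1 : u (s (s y)) = s (u y) := by
      rw [hus _ (hs' y hy), hus y hy, hsss _ (hs' _ (hu y hy))]
    rw [hD, map_sub, hus y hy, h1, hD, neg_sub]
  have hDp : ∀ y ∈ Y ⊓ C u, D y ∈ Y ⊓ N u := by
    rintro y ⟨hy, hy'⟩
    rw [SetLike.mem_coe, mem_C] at hy'
    refine ⟨hDY y hy, ?_⟩
    rw [SetLike.mem_coe, mem_N, huD y hy, hy']
  have hDm : ∀ y ∈ Y ⊓ N u, D y ∈ Y ⊓ C u := by
    rintro y ⟨hy, hy'⟩
    rw [SetLike.mem_coe, mem_N] at hy'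
    refine ⟨hDY y hy, ?_⟩
    rw [SetLike.mem_coe, mem_C, huD y hy, hy', map_neg, neg_neg]
  have hinj : ∀ y ∈ Y ⊓ C u, D y = 0 → y = 0 := by
    rintro y ⟨hy, hy'⟩ hDy
    rw [SetLike.mem_coe, mem_C] at hy'
    by_contra hy0
    refine hcon y hy hy0 hy' ?_
    rw [hD, sub_eq_zero] at hDy
    have h1 := congrArg (fun w => s (s w)) hDy
    rw [hsss y hy] at h1
    exact h1.symm
  have hD3 : ∀ y ∈ Y, D (D (D y)) = 0 := by
    intro y hy
    have h4 : ∀ w : V, (3 : k) • w = 0 := fun w => by rw [h3, zero_smul]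
    have e1 : D (D y) = s y + s (s y) - (2 : k) • y := by
      rw [hD, hD, map_sub, map_sub, hsss y hy, two_smul]
      abel
    rw [e1, hD, map_sub, map_add, map_smul, map_sub, map_add, map_smul, hsss y hy, two_smul, two_smul]
    have h5 := h4 (s (s y) - s y)
    rw [show (3 : k) = 1 + 1 + 1 by norm_num, add_smul, add_smul, one_smul] at h5
    rw [← h5]
    abel
  -- surjectivity
  have hsurj : ∀ y' ∈ Y ⊓ N u, ∃ y ∈ Y ⊓ C u, D y = y' := by
    have h1 : (Y ⊓ C u).map D ≤ Y ⊓ N u := by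
      rintro _ ⟨y, hy, rfl⟩
      exact hDp y hy
    have h4 : finrank k ((Y ⊓ C u).map D) = finrank k (Y ⊓ C u : Submodule k V) := by
      have h5 : Function.Injective (D.domRestrict (Y ⊓ C u)) := by
        rw [injective_iff_map_eq_zero]
        intro y hy
        exact Subtype.ext (hinj y y.2 hy)
      have h6 := LinearMap.finrank_range_of_inj h5
      rw [LinearMap.range_domRestrict] at h6
      exact h6
    have h5 := Submodule.eq_of_le_of_finrank_eq h1 (h4.trans hd)
    intro y' hy'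
    rw [← h5] at hy'
    obtain ⟨y, hy, hyy⟩ := hy'
    exact ⟨y, hy, hyy⟩
  have hDm0 : ∀ y' ∈ Y ⊓ N u, D y' = 0 := by
    intro y' hy'
    obtain ⟨y, hy, rfl⟩ := hsurj y' hy'
    exact hinj _ (hDm _ (hDp y hy)) (hD3 y hy.1)
  have hYm : ND B (Y ⊓ N u) := hY.minus h2 hu huu hui
  have hp : ∀ y ∈ Y ⊓ C u, y = 0 := by
    intro y hy
    apply hinj y hy
    by_contra hne
    obtain ⟨w, hw, hyw⟩ := hYm _ (hDp y hy) hne
    apply hyw
    have h1 := hDm0 w hw
    rw [hD, sub_eq_zero] at h1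
    have e1 : B (s y) w = B y (s (s w)) := by
      rw [← hsi (s y) w, ← hsi (s (s y)) (s w), hsss y hy.1]
    have e2 : B (s (s y)) w = B y (s w) := by
      rw [← hsi (s (s y)) w, hsss y hy.1]
    rw [hD, map_sub, LinearMap.sub_apply, e1, e2, ← h1, sub_self]
  have h1 : finrank k (Y ⊓ C u : Submodule k V) = 0 := by
    rw [Submodule.finrank_eq_zero, eq_bot_iff]
    exact fun y hy => hp y hy
  have h4 := split h2 hu huu
  rw [← hd, h1, add_zero, Submodule.finrank_eq_zero] at h4
  exact h0 h4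

end Cfsg.Agent.H926.MTh
end

-- part: H926/MThDim
section
/-!
# `M₁₁` in dimension 10 and characteristic 3: the vector (helper926)

`exists_vec` : elements `x, t, s, r` of a group with the relations `Dat`, acting faithfully and isometrically on an
orthogonal space of dimension 10 in characteristic 3: there is `v ≠ 0` fixed by `t` and `s` with `x v = ± v`.
-/

set_option autoImplicit false

namespace Cfsg.Agent.H926.MTh

open Module

/-- the relations -/
structure Dat {G : Type*} [Group G] (x t s r u : G) : Prop where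
  zz : (x * x) * (x * x) * ((x * x) * (x * x)) = 1
  z1 : (x * x) * (x * x) ≠ 1
  tt : t * t = 1
  tx : t * x = x * x * x * t
  ux : u * x = x * t
  sss : s * s * s = 1
  sz : s * ((x * x) * (x * x)) = t * s
  st : s * t = (x * x) * (x * x) * t * s
  us : u * s = s * s * u
  rf : r * (x * x) = x * t * r
  rg : r * (x * t) = (x * x) * (x * t) * r

variable {k : Type*} [Field k] {V : Type*} [AddCommGroup V] [Module k V] {G : Type*} [Group G]

theorem rmul (ρ : G →* End k V) (g h : G) (v : V) : ρ (g * h) v = ρ g (ρ h v) := by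
  rw [map_mul]; rfl

theorem rone (ρ : G →* End k V) (v : V) : ρ 1 v = v := by
  rw [map_one]; rfl

theorem rinj (ρ : G →* End k V) (g : G) {v w : V} (h : ρ g v = ρ g w) : v = w := by
  have h1 := congrArg (ρ g⁻¹) h
  rwa [← rmul, ← rmul, inv_mul_cancel, rone, rone] at h1

theorem fr_le [FiniteDimensional k V] (ρ : G →* End k V) {A A' : Submodule k V} (g : G) (h : ∀ v ∈ A, ρ g v ∈ A') :
    finrank k A ≤ finrank k A' := by
  have h1 : A.map (ρ g) ≤ A' := by
    rintro _ ⟨v, hv, rfl⟩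
    exact h v hv
  have h2 : finrank k (A.map (ρ g)) = finrank k A :=
    (LinearMap.finrank_range_of_inj (f := (ρ g).domRestrict A) (fun a b hab => Subtype.ext (rinj ρ g hab))).symm ▸ by
      rw [LinearMap.range_domRestrict]
  rw [← h2]
  exact Submodule.finrank_mono h1

theorem fr_conj [FiniteDimensional k V] (ρ : G →* End k V) {a b g : G} (h : g * a = b * g) :
    finrank k (C (ρ a)) = finrank k (C (ρ b)) := by
  apply le_antisymm
  · refine fr_le ρ g fun v hv => ?_
    rw [mem_C] at hv ⊢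
    rw [← rmul, ← h, rmul, hv]
  · refine fr_le ρ g⁻¹ fun v hv => ?_
    rw [mem_C] at hv ⊢
    have h1 : a * g⁻¹ = g⁻¹ * b := by
      rw [eq_inv_mul_iff_mul_eq, ← mul_assoc, h, mul_inv_cancel_right]
    rw [← rmul, h1, rmul, hv]

theorem fr_conj₂ [FiniteDimensional k V] (ρ : G →* End k V) {a b a' b' g : G} (h : g * a = b * g)
    (h' : g * a' = b' * g) :
    finrank k (C (ρ a) ⊓ C (ρ a') : Submodule k V) = finrank k (C (ρ b) ⊓ C (ρ b') : Submodule k V) := by
  have key : ∀ {a b : G}, g * a = b * g → a * g⁻¹ = g⁻¹ * b := by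
    intro a b h
    rw [eq_inv_mul_iff_mul_eq, ← mul_assoc, h, mul_inv_cancel_right]
  apply le_antisymm
  · refine fr_le ρ g fun v hv => ⟨?_, ?_⟩
    · have h1 := mem_C.1 hv.1
      rw [SetLike.mem_coe, mem_C, ← rmul, ← h, rmul, h1]
    · have h1 := mem_C.1 hv.2
      rw [SetLike.mem_coe, mem_C, ← rmul, ← h', rmul, h1]
  · refine fr_le ρ g⁻¹ fun v hv => ⟨?_, ?_⟩
    · have h1 := mem_C.1 hv.1
      rw [SetLike.mem_coe, mem_C, ← rmul, key h, rmul, h1]
    · have h1 := mem_C.1 hv.2
      rw [SetLike.mem_coe, mem_C, ← rmul, key h', rmul, h1]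

theorem exists_vec [FiniteDimensional k V] (h3 : (3 : k) = 0) (h2 : (2 : k) ≠ 0) (h10 : finrank k V = 10)
    {B : LinearMap.BilinForm k V} (hs : ∀ v w, B v w = B w v) (hnd : ∀ v, v ≠ 0 → ∃ w, B v w ≠ 0)
    (ρ : G →* End k V) (hρ : Function.Injective ρ) (hi : ∀ g v w, B (ρ g v) (ρ g w) = B v w) {x t s r u : G}
    (D : Dat x t s r u) :
    ∃ v : V, v ≠ 0 ∧ ρ t v = v ∧ ρ s v = v ∧ (ρ x v = v ∨ ρ x v = -v) := by
  -- group relations
  obtain ⟨zz, z1, tt, tx, ux, sss, sz, st, us, rf, rg⟩ := D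
  have gtu : t * u = x * x := by
    have h1 : u = x * t * x⁻¹ := by rw [← ux, mul_inv_cancel_right]
    rw [h1, ← mul_assoc, ← mul_assoc, tx, mul_assoc (x * x * x), tt, mul_one, mul_inv_cancel_right]
  have guu : u * u = 1 := by
    have h1 : u = x * t * x⁻¹ := by rw [← ux, mul_inv_cancel_right]
    rw [h1]
    calc x * t * x⁻¹ * (x * t * x⁻¹) = x * (t * t) * x⁻¹ := by group
      _ = 1 := by rw [tt]; group
  set f := x * x with hf
  set z := f * f with hz
  set g := x * t with hg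
  clear_value g z f
  have gxz : x * z = z * x := by rw [hz, hf]; group
  have gxf : x * f = f * x := by rw [hf]; group
  have gfz : f * z = z * f := by rw [hz]; group
  have gtf : t * f = z * f * t := by
    rw [hz, hf]
    calc t * (x * x) = (t * x) * x := by group
      _ = (x * x * x * t) * x := by rw [tx, hf]
      _ = x * x * x * (t * x) := by group
      _ = x * x * x * (x * x * x * t) := by rw [tx, hf]
      _ = x * x * (x * x) * (x * x) * t := by group
  have gtz : t * z = z * t := by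
    calc t * z = (t * f) * f := by rw [hz]; group
      _ = (z * f * t) * f := by rw [gtf]
      _ = z * f * (t * f) := by group
      _ = z * f * (z * f * t) := by rw [gtf]
      _ = (z * z) * (f * f) * t := by rw [hz]; group
      _ = z * t := by rw [zz, one_mul, hz]
  have guz : u * z = z * u := by
    have h1 : u = t * f := by rw [← gtu, ← mul_assoc, tt, one_mul]
    rw [h1, mul_assoc, gfz, ← mul_assoc, gtz, mul_assoc]
  have ggg : g * g = z := by
    rw [hg]
    calc x * t * (x * t) = x * (t * x) * t := by group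
      _ = x * (x * x * x * t) * t := by rw [tx, hf]
      _ = x * x * (x * x) * (t * t) := by group
      _ = z := by rw [tt, hz, hf, mul_one]
  have gfg : f * g = z * (g * f) := by
    rw [hg]
    calc f * (x * t) = z * z * f * (x * t) := by rw [zz, one_mul]
      _ = z * (x * (z * f * t)) := by rw [hz, hf]; group
      _ = z * (x * (t * f)) := by rw [gtf]
      _ = z * (x * t * f) := by group
  have gzg : z * g = g * z := by rw [← ggg]; group
  -- operators
  have hzz : ∀ v, ρ z (ρ z v) = v := fun v => by rw [← rmul, zz, rone]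
  have htt : ∀ v, ρ t (ρ t v) = v := fun v => by rw [← rmul, tt, rone]
  have huu : ∀ v, ρ u (ρ u v) = v := fun v => by rw [← rmul, guu, rone]
  have hff : ∀ v, ρ f (ρ f v) = ρ z v := fun v => by rw [← rmul, hz]
  have hgg : ∀ v, ρ g (ρ g v) = ρ z v := fun v => by rw [← rmul, ggg]
  have htu : ∀ v, ρ t (ρ u v) = ρ f v := fun v => by rw [← rmul, gtu]
  have htz : ∀ v, ρ t (ρ z v) = ρ z (ρ t v) := fun v => by rw [← rmul, gtz, rmul]
  have huz : ∀ v, ρ u (ρ z v) = ρ z (ρ u v) := fun v => by rw [← rmul, guz, rmul]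
  have hgz : ∀ v, ρ z (ρ g v) = ρ g (ρ z v) := fun v => by rw [← rmul, gzg, rmul]
  have hfz : ∀ v, ρ f (ρ z v) = ρ z (ρ f v) := fun v => by rw [← rmul, gfz, rmul]
  have hfg : ∀ v, ρ f (ρ g v) = ρ z (ρ g (ρ f v)) := fun v => by rw [← rmul, gfg, rmul, rmul]
  have hxz : ∀ v, ρ x (ρ z v) = ρ z (ρ x v) := fun v => by rw [← rmul, gxz, rmul]
  have hxx : ∀ v, ρ x (ρ x v) = ρ f v := fun v => by rw [← rmul, hf]
  have hfut : ∀ v, ρ f (ρ u (ρ t v)) = v := fun v => by rw [← htu, huu, htt]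
  have hCF : C (ρ f) ≤ C (ρ z) := by
    intro v hv
    rw [mem_C] at hv ⊢
    rw [← hff, hv, hv]
  have hCG : C (ρ g) ≤ C (ρ z) := by
    intro v hv
    rw [mem_C] at hv ⊢
    rw [← hgg, hv, hv]
  have hCFG : C (ρ f * ρ g) ≤ C (ρ z) := by
    intro v hv
    rw [mem_C, Module.End.mul_apply] at hv
    have h1 : ρ f (ρ g (ρ f (ρ g v))) = ρ z v := by
      rw [← rmul, ← rmul, ← rmul]
      congr 2
      calc f * g * f * g = z * (g * f) * f * g := by rw [← gfg]
        _ = z * g * (f * f) * g := by group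
        _ = z * (g * z) * g := by rw [← hz]; group
        _ = z * z * (g * g) := by rw [← gzg]; group
        _ = z := by rw [zz, ggg, one_mul]
    rw [mem_C, ← h1, hv, hv]
  -- the centre
  have e1 := split (α := ρ z) h2 (W := ⊤) (fun _ _ => trivial) (fun w _ => hzz w)
  have e2 := vier (α := ρ z) (β := ρ t) h2 (W := ⊤) (fun _ _ => trivial) (fun _ _ => trivial) (fun w _ => hzz w)
    (fun w _ => htt w) (fun w _ => (htz w).symm)
  rw [top_inf_eq, top_inf_eq, finrank_top, h10] at e1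
  rw [top_inf_eq, top_inf_eq, top_inf_eq, finrank_top, h10, ← map_mul] at e2
  have e3 : finrank k (C (ρ z)) = finrank k (C (ρ t)) := fr_conj ρ sz
  have e4 : finrank k (C (ρ t)) = finrank k (C (ρ (z * t))) := fr_conj ρ st
  have ndV : ND B ⊤ := by
    intro v _ hv
    obtain ⟨w, hw⟩ := hnd v hv
    exact ⟨w, trivial, hw⟩
  have e5 : 4 ∣ finrank k (N (ρ z)) := by
    have hN : ∀ v, v ∈ N (ρ z) → ρ z v = -v := fun v hv => mem_N.1 hv
    refine quat h2 hs (f := ρ f) (g := ρ g) (hi f) (hi g) _ (N (ρ z)) le_rfl ?_ ?_ ?_ ?_ ?_ ?_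
    · have h1 := ndV.minus h2 (α := ρ z) (fun _ _ => trivial) (fun v _ => hzz v) (hi z)
      rwa [top_inf_eq] at h1
    · intro v hv
      rw [mem_N, ← hfz, hN v hv, map_neg]
    · intro v hv
      rw [mem_N, hgz, hN v hv, map_neg]
    · intro v hv
      rw [hff, hN v hv]
    · intro v hv
      rw [hgg, hN v hv]
    · intro v hv
      rw [hfg, hgz, ← hfz, hN v hv, map_neg, map_neg]
  have e6 : finrank k (N (ρ z)) ≠ 0 := by
    rw [Ne, Submodule.finrank_eq_zero]
    intro h0
    apply z1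
    apply hρ
    rw [map_one]
    ext v
    have h1 : v - ρ z v ∈ N (ρ z) := by
      rw [mem_N, map_sub, hzz, neg_sub]
    rw [h0, Submodule.mem_bot, sub_eq_zero] at h1
    exact h1.symm
  have c6 : finrank k (C (ρ z)) = 6 := by omega
  have c4 : finrank k (C (ρ z) ⊓ C (ρ t) : Submodule k V) = 4 := by (clear * - e2 e3 e4 c6; omega)
  have c4' : finrank k (C (ρ z) ⊓ C (ρ u) : Submodule k V) = 4 := by
    rw [← c4]
    exact (fr_conj₂ ρ gxz (ux.trans hg).symm).symm
  -- `D₈`
  have e7 := vier (α := ρ t) (β := ρ u) h2 (W := C (ρ z))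
    (fun w hw => by rw [mem_C] at hw ⊢; rw [← htz, hw]) (fun w hw => by rw [mem_C] at hw ⊢; rw [← huz, hw])
    (fun w _ => htt w) (fun w _ => huu w) (fun w hw => by
      rw [mem_C] at hw
      rw [htu]
      exact (rinj ρ f (by rw [hfut, hff, hw])).symm)
  have e8 : (C (ρ z) ⊓ C (ρ t * ρ u) : Submodule k V) = C (ρ f) := by
    have h1 : ρ t * ρ u = ρ f := by rw [← map_mul, gtu]
    rw [h1]
    exact inf_eq_right.2 hCF
  rw [e8, c6, c4, c4'] at e7
  -- `Q₈`
  have e9 := vier (α := ρ f) (β := ρ g) h2 (W := C (ρ z))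
    (fun w hw => by rw [mem_C] at hw ⊢; rw [← hfz, hw]) (fun w hw => by rw [mem_C] at hw ⊢; rw [hgz, hw])
    (fun w hw => by rw [hff, mem_C.1 hw]) (fun w hw => by rw [hgg, mem_C.1 hw])
    (fun w hw => by rw [hfg, hgz, ← hfz, mem_C.1 hw])
  rw [inf_eq_right.2 hCF, inf_eq_right.2 hCG, inf_eq_right.2 hCFG, c6, ← map_mul] at e9
  have e10 : finrank k (C (ρ f)) = finrank k (C (ρ g)) := fr_conj ρ rf
  have e11 : finrank k (C (ρ g)) = finrank k (C (ρ (f * g))) := fr_conj ρ rg
  have hA : C (ρ z) ⊓ C (ρ t) ⊓ C (ρ u) ≤ C (ρ f) := by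
    rintro v ⟨⟨-, h4⟩, h5⟩
    rw [SetLike.mem_coe, mem_C] at h4 h5
    rw [mem_C, ← htu, h5, h4]
  have e12 := Submodule.finrank_mono hA
  have e13 := Submodule.finrank_mono (R := k)
    (inf_le_left : C (ρ z) ⊓ C (ρ t) ⊓ C (ρ u) ≤ C (ρ z) ⊓ C (ρ t))
  rw [c4] at e13
  have hSY : ∀ v ∈ C (ρ z) ⊓ C (ρ t), ρ s v ∈ C (ρ z) ⊓ C (ρ t) := by
    rintro v ⟨h4, h5⟩
    rw [SetLike.mem_coe, mem_C] at h4 h5
    have h6 : ρ t (ρ s v) = ρ s v := by rw [← rmul, ← sz, rmul, h4]
    have h7 : ρ z (ρ t (ρ s v)) = ρ s v := by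
      rw [← rmul, ← rmul, ← st, rmul, h5]
    rw [h6] at h7
    exact ⟨mem_C.2 h7, mem_C.2 h6⟩
  have hus : ∀ v, ρ u (ρ s v) = ρ s (ρ s (ρ u v)) := fun v => by rw [← rmul, us, rmul, rmul]
  have hsss : ∀ v, ρ s (ρ s (ρ s v)) = v := fun v => by
    rw [← rmul, ← rmul, sss, rone]
  by_cases hn : finrank k (C (ρ z) ⊓ C (ρ t) ⊓ C (ρ u) : Submodule k V) = 2
  · -- the case of dimension 2
    have hUY : ∀ v ∈ C (ρ z) ⊓ C (ρ t), ρ u v ∈ C (ρ z) ⊓ C (ρ t) := by
      rintro v ⟨h4, h5⟩
      rw [SetLike.mem_coe, mem_C] at h4 h5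
      have h6 : ρ u (ρ t v) = ρ f v := rinj ρ f (by rw [hfut, hff, h4])
      refine ⟨?_, ?_⟩
      · rw [SetLike.mem_coe, mem_C, ← huz, h4]
      · rw [SetLike.mem_coe, mem_C, htu, ← h6, h5]
    have hYnd : ND B (C (ρ z) ⊓ C (ρ t)) := by
      have h1 := ndV.plus h2 (α := ρ z) (fun _ _ => trivial) (fun v _ => hzz v) (hi z)
      rw [top_inf_eq] at h1
      exact h1.plus h2 (fun w hw => by rw [mem_C] at hw ⊢; rw [← htz, hw]) (fun w _ => htt w) (hi t)
    have e14 := split h2 hUY (fun w _ => huu w)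
    obtain ⟨v, hv, hv0, huv, hsv⟩ := three_fixed h3 h2 hYnd (by
      intro h0
      rw [h0, finrank_bot] at c4
      omega) hUY hSY (hi u) (hi s) (fun w _ => huu w) (fun w _ => hsss w) (fun w _ => hus w) (by (clear * - e2 e3 e4 c6 hn e14; omega))
    have hzv := mem_C.1 hv.1
    have htv := mem_C.1 hv.2
    have hfv : ρ f v = v := by rw [← htu, huv, htv]
    have hk0 : (C (ρ f) ⊓ C (ρ g) : Submodule k V) = ⊥ := by
      rw [← Submodule.finrank_eq_zero (R := k)]
      omega
    have hmem : v + ρ g v ∈ (C (ρ f) ⊓ C (ρ g) : Submodule k V) := by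
      refine ⟨?_, ?_⟩
      · rw [SetLike.mem_coe, mem_C, map_add, hfg, hfv, hgz, hzv]
      · rw [SetLike.mem_coe, mem_C, map_add, hgg, hzv, add_comm]
    rw [hk0, Submodule.mem_bot, hg, rmul, htv, add_comm] at hmem
    exact ⟨v, hv0, htv, hsv, Or.inr (eq_neg_of_add_eq_zero_left hmem)⟩
  · -- the case of dimension at least 3
    have hAsub : ∀ v ∈ C (ρ z) ⊓ C (ρ t) ⊓ C (ρ u), ρ z v = v ∧ ρ t v = v ∧ ρ u v = v ∧ ρ f v = v := fun v hv =>
      ⟨mem_C.1 hv.1.1, mem_C.1 hv.1.2, mem_C.1 hv.2, mem_C.1 (hA hv)⟩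
    set A : Submodule k V := C (ρ z) ⊓ C (ρ t) ⊓ C (ρ u) with hAd
    have hmapfr : ∀ (g : G) (L : Submodule k V), finrank k (L.map (ρ g)) = finrank k L := by
      intro g L
      apply le_antisymm
      · refine fr_le ρ g⁻¹ ?_
        rintro _ ⟨w, hw, rfl⟩
        rwa [← rmul, inv_mul_cancel, rone]
      · exact fr_le ρ g fun v hv => ⟨v, hv, rfl⟩
    have d1 := Submodule.finrank_sup_add_finrank_inf_eq A (A.map (ρ s))
    have d2 : finrank k (A ⊔ A.map (ρ s) : Submodule k V) ≤ 4 := by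
      rw [← c4]
      apply Submodule.finrank_mono
      refine sup_le (fun v hv => hv.1) ?_
      rintro _ ⟨w, hw, rfl⟩
      exact hSY w hw.1
    rw [hmapfr] at d1
    set L : Submodule k V := A ⊓ A.map (ρ s) with hL
    have hLs : ∀ v ∈ L, v ∈ A ∧ ρ s v = v := by
      rintro v ⟨hv, w, hw, hwv⟩
      refine ⟨hv, ?_⟩
      have h4 := (hAsub v hv).2.2.1
      have h5 := (hAsub w hw).2.2.1
      have h6 := hus w
      rw [h5, hwv, h4] at h6
      exact h6.symm
    have d3 := Submodule.finrank_sup_add_finrank_inf_eq L (L.map (ρ x))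
    have hxA : ∀ v ∈ A, ρ x v ∈ A := by
      intro v hv
      obtain ⟨h4, h5, h6, h7⟩ := hAsub v hv
      refine ⟨⟨?_, ?_⟩, ?_⟩
      · rw [SetLike.mem_coe, mem_C, ← hxz, h4]
      · rw [SetLike.mem_coe, mem_C, ← rmul, tx, rmul, h5, ← gxf, rmul, h7]
      · rw [SetLike.mem_coe, mem_C, ← rmul, ux, hg, rmul, h5]
    have d4 : finrank k (L ⊔ L.map (ρ x) : Submodule k V) ≤ finrank k A := by
      apply Submodule.finrank_mono
      refine sup_le (fun v hv => (hLs v hv).1) ?_
      rintro _ ⟨w, hw, rfl⟩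
      exact hxA w (hLs w hw).1
    rw [hmapfr] at d3
    have d5 : (L ⊓ L.map (ρ x) : Submodule k V) ≠ ⊥ := by
      rw [Ne, ← Submodule.finrank_eq_zero (R := k)]
      omega
    obtain ⟨v, ⟨hv, w, hw, hwv⟩, hv0⟩ := Submodule.exists_mem_ne_zero_of_ne_bot d5
    have hxv : ρ x v = w := by
      rw [← hwv, hxx]
      exact (hAsub w (hLs w hw).1).2.2.2
    by_cases h0 : v + w = 0
    · refine ⟨v, hv0, (hAsub v (hLs v hv).1).2.1, (hLs v hv).2, Or.inr ?_⟩
      rw [hxv]
      exact eq_neg_of_add_eq_zero_right h0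
    · refine ⟨v + w, h0, ?_, ?_, Or.inl ?_⟩
      · rw [map_add, (hAsub v (hLs v hv).1).2.1, (hAsub w (hLs w hw).1).2.1]
      · rw [map_add, (hLs v hv).2, (hLs w hw).2]
      · rw [map_add, hxv, hwv, add_comm]

end Cfsg.Agent.H926.MTh
end

-- part: H926/MThMod
section
/-!
# Explicit elements of `M₁₁` and the stabiliser of a point of the dodecad (helper926)

* `dat` : the elements `ex, et, es, er, eu` of `Spor.M11` satisfy `Dat`;
* `K` : the stabiliser of the point `some 1` (index 11); `K_le` : it is generated by `ex, et, es`;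
* `index_K`, `double_K`, `er_not_mem`.
-/

set_option autoImplicit false

namespace Cfsg.Agent.H926.MTh

open Cfsg Cfsg.Agent.SporadicA.GolayBase Cfsg.Agent.SporadicA.GolayPerm Cfsg.Agent.H882.Tab Cfsg.Agent.H882.Grp
open scoped Pointwise

def qx : ℕ := 233950865888990746377447415904013344
def qt : ℕ := 965346966670364367458681901213092896
def qs : ℕ := 970294198445089438799834204141527072
def qr : ℕ := 735007443424217238740507493471945824
def qu : ℕ := 721064549862662597311266359538158624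

noncomputable def ex : Spor.M11 := mk11 qx (by decide +kernel)
noncomputable def et : Spor.M11 := mk11 qt (by decide +kernel)
noncomputable def es : Spor.M11 := mk11 qs (by decide +kernel)
noncomputable def er : Spor.M11 := mk11 qr (by decide +kernel)
noncomputable def eu : Spor.M11 := mk11 qu (by decide +kernel)

theorem ix : IsT ex qx := isT_mk11 _ _
theorem it : IsT et qt := isT_mk11 _ _
theorem is : IsT es qs := isT_mk11 _ _
theorem ir : IsT er qr := isT_mk11 _ _
theorem iu : IsT eu qu := isT_mk11 _ _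

theorem dat : Dat ex et es er eu where
  zz := eq11 (m11 (m11 (m11 ix ix) (m11 ix ix)) (m11 (m11 ix ix) (m11 ix ix))) one11 (by decide +kernel)
  z1 := fun h => ne_of_isT (m11 (m11 ix ix) (m11 ix ix)) one11 4 (by norm_num) (by decide +kernel)
    (congrArg Subtype.val h)
  tt := eq11 (m11 it it) one11 (by decide +kernel)
  tx := eq11 (m11 it ix) (m11 (m11 (m11 ix ix) ix) it) (by decide +kernel)
  ux := eq11 (m11 iu ix) (m11 ix it) (by decide +kernel)
  sss := eq11 (m11 (m11 is is) is) one11 (by decide +kernel)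
  sz := eq11 (m11 is (m11 (m11 ix ix) (m11 ix ix))) (m11 it is) (by decide +kernel)
  st := eq11 (m11 is it) (m11 (m11 (m11 (m11 ix ix) (m11 ix ix)) it) is) (by decide +kernel)
  us := eq11 (m11 iu is) (m11 (m11 is is) iu) (by decide +kernel)
  rf := eq11 (m11 ir (m11 ix ix)) (m11 (m11 ix it) ir) (by decide +kernel)
  rg := eq11 (m11 ir (m11 ix it)) (m11 (m11 (m11 ix ix) (m11 ix it)) ir) (by decide +kernel)

/-! ### Words -/

def gt : ℕ → ℕ
  | 0 => qx
  | 1 => qt
  | 2 => qs
  | _ => qr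

noncomputable def ge : ℕ → Spor.M11
  | 0 => ex
  | 1 => et
  | 2 => es
  | _ => er

theorem ig : ∀ i, IsT (ge i) (gt i)
  | 0 => ix
  | 1 => it
  | 2 => is
  | _ + 3 => ir

def wt : List ℕ → ℕ
  | [] => pone
  | i :: w => pcomp (gt i) (wt w)

noncomputable def we : List ℕ → Spor.M11
  | [] => 1
  | i :: w => ge i * we w

theorem iw : ∀ w, IsT (we w) (wt w)
  | [] => one11
  | i :: w => m11 (ig i) (iw w)

theorem we_mem {K0 : Subgroup Spor.M11} (hx : ex ∈ K0) (ht : et ∈ K0) (hs : es ∈ K0) :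
    ∀ w : List ℕ, (w.all fun i => Nat.blt i 3) = true → we w ∈ K0
  | [], _ => K0.one_mem
  | i :: w, h => by
    rw [List.all_cons, Bool.and_eq_true] at h
    refine K0.mul_mem ?_ (we_mem hx ht hs w h.2)
    match i, h.1 with
    | 0, _ => exact hx
    | 1, _ => exact ht
    | 2, _ => exact hs

/-! ### The action on indices -/

/-- the action on indices -/
def act (g : Spor.M11) (i : ℕ) : ℕ := idx ((g : Equiv.Perm GolayPt) (pt i))

theorem act_lt (g : Spor.M11) (i : ℕ) : act g i < 24 := idx_lt _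

theorem act_mul (g h : Spor.M11) (i : ℕ) : act (g * h) i = act g (act h i) := by
  rw [act, act, act, pt_idx]
  rfl

theorem act_one {i : ℕ} (hi : i < 24) : act 1 i = i := idx_pt hi

theorem act_we (w : List ℕ) {i : ℕ} (hi : i < 24) : act (we w) i = papp (wt w) i := by
  rw [act, iw w, idx_pt hi]

theorem act_inv (g : Spor.M11) {i : ℕ} (hi : i < 24) : act g⁻¹ (act g i) = i := by
  rw [← act_mul, inv_mul_cancel, act_one hi]

theorem act_inj (g : Spor.M11) {i j : ℕ} (hi : i < 24) (hj : j < 24) (h : act g i = act g j) : i = j := by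
  rw [← act_inv g hi, h, act_inv g hj]

theorem act_zero (g : Spor.M11) : act g 0 = 0 := by
  have h : (g : Equiv.Perm GolayPt) (some 0) = some 0 := g.2.2
  have h1 : pt 0 = (some 0 : GolayPt) := by decide +kernel
  rw [act, h1, h, ← h1, idx_pt (by norm_num)]

theorem act_D (g : Spor.M11) {i : ℕ} (hi : i < 24) (h : (340831 : ℕ).testBit i = true) :
    (340831 : ℕ).testBit (act g i) = true := by
  have h1 : pt i ∈ Spor.squareDodecad := by
    rw [squareDodecad_eq, mem_fin, idx_pt hi, h]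
  have h2 : (g : Equiv.Perm GolayPt) • Spor.squareDodecad = Spor.squareDodecad := g.2.1.2
  have h3 : (g : Equiv.Perm GolayPt) (pt i) ∈ (g : Equiv.Perm GolayPt) • Spor.squareDodecad :=
    (mem_smul_iff _ _ _).2 h1
  rw [h2, squareDodecad_eq, mem_fin] at h3
  exact h3

/-- the stabiliser of the point `1` -/
def K : Subgroup Spor.M11 := MulAction.stabilizer Spor.M11 (some 1 : GolayPt)

theorem pt_one : pt 1 = (some 1 : GolayPt) := by decide +kernel

theorem mem_K {g : Spor.M11} : g ∈ K ↔ act g 1 = 1 := by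
  have h1 : g ∈ K ↔ (g : Equiv.Perm GolayPt) (some 1) = some 1 := Iff.rfl
  rw [h1, act, pt_one]
  constructor
  · intro h
    rw [h]
    decide +kernel
  · intro h
    apply idx_injective
    rw [h]
    decide +kernel

def W0 : List (List ℕ) := [[], [0, 3], [3], [0, 2, 2, 3], [0, 2, 0, 3], [2, 0, 3], [0, 2, 3], [3, 2, 2, 3],
  [1, 2, 2, 3], [2, 3], [2, 2, 3]]
def W1 : List (List ℕ) := [[], [0], [2, 0, 2], [0, 2], [2], [0, 2, 0], [0, 2, 2], [2, 2], [2, 0], [1, 2, 2]]
def W2 : List (List ℕ) := [[], [0, 2, 0, 2, 1, 2, 0, 2], [0, 2, 1, 2, 0, 2, 0, 2], [2, 2, 1, 0, 2, 0, 2],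
  [0, 2, 2, 0, 2, 2, 0, 2], [0, 2, 0, 1, 2, 0, 2], [2, 0, 0, 0, 2, 0, 2], [2, 2, 0, 2, 0, 2], [2, 0, 2, 0, 2, 2]]
def W3 : List (List ℕ) := [[], [0, 0], [1, 0], [1, 0, 0, 1], [0, 0, 0, 0], [0, 0, 1, 0], [0, 1, 0, 0], [0, 1]]

theorem orb0 : ∀ i < 24, (340831 : ℕ).testBit i = true → i ≠ 0 → ∃ w ∈ W0, papp (wt w) 1 = i := by decide +kernel

def ck1 (i : ℕ) : Bool := W1.any fun w =>
  (w.all fun i => Nat.blt i 3) && (Nat.beq (papp (wt w) 1) 1 && Nat.beq (papp (wt w) 2) i)
def ck2 (i : ℕ) : Bool := W2.any fun w =>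
  (w.all fun i => Nat.blt i 3) && (Nat.beq (papp (wt w) 1) 1 && (Nat.beq (papp (wt w) 2) 2 && Nat.beq (papp (wt w) 3) i))
def ck3 (i : ℕ) : Bool := W3.any fun w =>
  (w.all fun i => Nat.blt i 3) && (Nat.beq (papp (wt w) 1) 1 && (Nat.beq (papp (wt w) 2) 2 &&
    (Nat.beq (papp (wt w) 3) 3 && Nat.beq (papp (wt w) 4) i)))

theorem orb1 : ∀ i < 24, (340831 : ℕ).testBit i = true → i ≠ 0 → i ≠ 1 →
    ∃ w, (w.all fun i => Nat.blt i 3) = true ∧ papp (wt w) 1 = 1 ∧ papp (wt w) 2 = i := by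
  have h : ∀ i < 24, (340831 : ℕ).testBit i = true → i ≠ 0 → i ≠ 1 → ck1 i = true := by decide +kernel
  intro i hi h1 h2 h3
  have h4 := h i hi h1 h2 h3
  rw [ck1, List.any_eq_true] at h4
  obtain ⟨w, -, hw⟩ := h4
  simp only [Bool.and_eq_true, Nat.beq_eq] at hw
  exact ⟨w, hw⟩

theorem orb2 : ∀ i < 24, (340831 : ℕ).testBit i = true → i ≠ 0 → i ≠ 1 → i ≠ 2 →
    ∃ w, (w.all fun i => Nat.blt i 3) = true ∧ papp (wt w) 1 = 1 ∧ papp (wt w) 2 = 2 ∧ papp (wt w) 3 = i := by
  have h : ∀ i < 24, (340831 : ℕ).testBit i = true → i ≠ 0 → i ≠ 1 → i ≠ 2 → ck2 i = true := by decide +kernel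
  intro i hi h1 h2 h3 h3'
  have h4 := h i hi h1 h2 h3 h3'
  rw [ck2, List.any_eq_true] at h4
  obtain ⟨w, -, hw⟩ := h4
  simp only [Bool.and_eq_true, Nat.beq_eq] at hw
  exact ⟨w, hw⟩

theorem orb3 : ∀ i < 24, (340831 : ℕ).testBit i = true → i ≠ 0 → i ≠ 1 → i ≠ 2 → i ≠ 3 →
    ∃ w, (w.all fun i => Nat.blt i 3) = true ∧ papp (wt w) 1 = 1 ∧ papp (wt w) 2 = 2 ∧ papp (wt w) 3 = 3 ∧
      papp (wt w) 4 = i := by
  have h : ∀ i < 24, (340831 : ℕ).testBit i = true → (i = 0 ∨ i = 1 ∨ i = 2 ∨ i = 3 ∨ ck3 i = true) := by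
    decide +kernel
  intro i hi h1 h2 h3 h3' h3''
  have h4 := (((h i hi h1).resolve_left h2).resolve_left h3).resolve_left h3' |>.resolve_left h3''
  rw [ck3, List.any_eq_true] at h4
  obtain ⟨w, -, hw⟩ := h4
  simp only [Bool.and_eq_true, Nat.beq_eq] at hw
  exact ⟨w, hw⟩

/-- the points `0, 1, 2, 3, 4` -/
def five : Fin 5 ↪ GolayPt := ⟨fun i => pt i, by decide +kernel⟩

theorem sharp {g : Spor.M11} (h1 : act g 1 = 1) (h2 : act g 2 = 2) (h3 : act g 3 = 3) (h4 : act g 4 = 4) : g = 1 := by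
  have h0 := act_zero g
  have key := Cfsg.Agent.S0384.result _ squareDodecad_mem five five (by decide +kernel) (by decide +kernel)
  have e := key.unique (y₁ := equiv12.symm ⟨(g : Equiv.Perm GolayPt), g.2.1⟩) (y₂ := 1) (by
    intro i
    apply idx_injective
    change act g (i : ℕ) = idx (pt (i : ℕ))
    rw [idx_pt (by omega)]
    fin_cases i
    · exact h0
    · exact h1
    · exact h2
    · exact h3
    · exact h4) (fun i => rfl)
  have e2 := congrArg equiv12 e
  rw [MulEquiv.apply_symm_apply, map_one] at e2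
  exact Subtype.ext (congrArg (fun x : Spor.M12 => (x : Equiv.Perm GolayPt)) e2)

theorem K_le {K0 : Subgroup Spor.M11} (hx : ex ∈ K0) (ht : et ∈ K0) (hs : es ∈ K0) : K ≤ K0 := by
  intro g hg
  rw [mem_K] at hg
  have n : ∀ (g : Spor.M11) {i j : ℕ}, i < 24 → act g i = i → j < 24 → j ≠ i → act g j ≠ i := by
    intro g i j hi h hj hne h1
    exact hne (act_inj g hj hi (h1.trans h.symm))
  obtain ⟨w1, m1, a1, a2⟩ := orb1 (act g 2) (act_lt _ _) (act_D g (by norm_num) (by decide))
    (n g (by norm_num) (act_zero g) (by norm_num) (by norm_num)) (n g (by norm_num) hg (by norm_num) (by norm_num))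
  rw [← act_we w1 (by norm_num)] at a1 a2
  set g1 := (we w1)⁻¹ * g with hg1
  have b0 := act_zero g1
  have b1 : act g1 1 = 1 := by
    rw [hg1, act_mul, hg]
    nth_rewrite 1 [← a1]
    rw [act_inv _ (by norm_num)]
  have b2 : act g1 2 = 2 := by
    rw [hg1, act_mul, ← a2, act_inv _ (by norm_num)]
  obtain ⟨w2, m2, c1, c2, c3⟩ := orb2 (act g1 3) (act_lt _ _) (act_D g1 (by norm_num) (by decide))
    (n g1 (by norm_num) b0 (by norm_num) (by norm_num)) (n g1 (by norm_num) b1 (by norm_num) (by norm_num))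
    (n g1 (by norm_num) b2 (by norm_num) (by norm_num))
  rw [← act_we w2 (by norm_num)] at c1 c2 c3
  set g2 := (we w2)⁻¹ * g1 with hg2
  have d0 := act_zero g2
  have d1 : act g2 1 = 1 := by
    rw [hg2, act_mul, b1]
    nth_rewrite 1 [← c1]
    rw [act_inv _ (by norm_num)]
  have d2 : act g2 2 = 2 := by
    rw [hg2, act_mul, b2]
    nth_rewrite 1 [← c2]
    rw [act_inv _ (by norm_num)]
  have d3 : act g2 3 = 3 := by
    rw [hg2, act_mul, ← c3, act_inv _ (by norm_num)]
  obtain ⟨w3, m3, f1, f2, f3, f4⟩ := orb3 (act g2 4) (act_lt _ _) (act_D g2 (by norm_num) (by decide))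
    (n g2 (by norm_num) d0 (by norm_num) (by norm_num)) (n g2 (by norm_num) d1 (by norm_num) (by norm_num))
    (n g2 (by norm_num) d2 (by norm_num) (by norm_num)) (n g2 (by norm_num) d3 (by norm_num) (by norm_num))
  rw [← act_we w3 (by norm_num)] at f1 f2 f3 f4
  have e : (we w3)⁻¹ * g2 = 1 := by
    apply sharp
    · rw [act_mul, d1]
      nth_rewrite 1 [← f1]
      rw [act_inv _ (by norm_num)]
    · rw [act_mul, d2]
      nth_rewrite 1 [← f2]
      rw [act_inv _ (by norm_num)]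
    · rw [act_mul, d3]
      nth_rewrite 1 [← f3]
      rw [act_inv _ (by norm_num)]
    · rw [act_mul, ← f4, act_inv _ (by norm_num)]
  have e2 : g = we w1 * (we w2 * we w3) := by
    rw [inv_mul_eq_one] at e
    rw [e, hg2, hg1]
    group
  rw [e2]
  exact K0.mul_mem (we_mem hx ht hs _ m1) (K0.mul_mem (we_mem hx ht hs _ m2) (we_mem hx ht hs _ m3))

theorem index_K : K.index = 11 := by
  have h1 : MulAction.orbit Spor.M11 (some 1 : GolayPt) = (fin 340830 : Set GolayPt) := by
    ext p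
    rw [Finset.mem_coe, mem_fin]
    constructor
    · rintro ⟨g, rfl⟩
      have h2 : act g 1 = idx ((g : Equiv.Perm GolayPt) (some 1)) := by rw [act, pt_one]
      change (340830 : ℕ).testBit (idx ((g : Equiv.Perm GolayPt) (some 1))) = true
      rw [← h2]
      have h3 := act_D g (i := 1) (by norm_num) (by decide)
      have h4 : act g 1 ≠ 0 := by
        intro h
        exact absurd (act_inj g (by norm_num) (by norm_num) (h.trans (act_zero g).symm)) (by norm_num)
      have h5 : ∀ i < 24, (340831 : ℕ).testBit i = true → i ≠ 0 → (340830 : ℕ).testBit i = true := by decide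
      exact h5 _ (act_lt _ _) h3 h4
    · intro hp
      have h5 : ∀ i < 24, (340830 : ℕ).testBit i = true → (340831 : ℕ).testBit i = true ∧ i ≠ 0 := by decide
      obtain ⟨h6, h7⟩ := h5 _ (idx_lt p) hp
      obtain ⟨w, -, hw⟩ := orb0 _ (idx_lt p) h6 h7
      refine ⟨we w, ?_⟩
      apply idx_injective
      rw [← hw, ← act_we w (by norm_num), act, pt_one]
      rfl
  rw [K, MulAction.index_stabilizer, h1, Set.ncard_coe_finset]
  decide +kernel

theorem double_K {g g' : Spor.M11} (hg : g ∉ K) (hg' : g' ∉ K) : ∃ k ∈ K, ∃ k' ∈ K, g' = k * g * k' := by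
  rw [mem_K] at hg hg'
  have n : ∀ g : Spor.M11, act g 1 ≠ 0 := by
    intro g h
    exact absurd (act_inj g (by norm_num) (by norm_num) (h.trans (act_zero g).symm)) (by norm_num)
  obtain ⟨w, m, a1, a2⟩ := orb1 (act g 1) (act_lt _ _) (act_D g (by norm_num) (by decide)) (n g) hg
  obtain ⟨w', m', a1', a2'⟩ := orb1 (act g' 1) (act_lt _ _) (act_D g' (by norm_num) (by decide)) (n g') hg'
  rw [← act_we _ (by norm_num)] at a1 a2 a1' a2'
  refine ⟨we w' * (we w)⁻¹, K.mul_mem (mem_K.2 a1') (K.inv_mem (mem_K.2 a1)),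
    (we w' * (we w)⁻¹ * g)⁻¹ * g', ?_, by group⟩
  have h1 : act (we w' * (we w)⁻¹ * g) 1 = act g' 1 := by
    rw [act_mul, act_mul, ← a2, act_inv _ (by norm_num), a2']
  rw [mem_K, act_mul, ← h1, act_inv _ (by norm_num)]

theorem er_not_mem : er ∉ K := by
  rw [mem_K, act, ir, idx_pt (by norm_num)]
  decide +kernel

end Cfsg.Agent.H926.MTh
end

-- part: H926/MThFix
section
/-!
# `M₁₁` in dimension 10 and characteristic 3, orthogonal: a vector fixed by the stabiliser of a point (helper926)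
-/

set_option autoImplicit false

namespace Cfsg.Agent.H926.MTh

open Module Cfsg Cfsg.Geo

section rep

variable {k : Type*} [Field k] {V : Type*} [AddCommGroup V] [Module k V]

theorem exists_fix [FiniteDimensional k V] (h3 : (3 : k) = 0) (h2 : (2 : k) ≠ 0) (h10 : finrank k V = 10)
    {B : LinearMap.BilinForm k V} (hs : ∀ v w, B v w = B w v) (hnd : ∀ v, v ≠ 0 → ∃ w, B v w ≠ 0)
    (ρ : Spor.M11 →* End k V) (hρ : Function.Injective ρ) (hi : ∀ g v w, B (ρ g v) (ρ g w) = B v w)
    (hirr : ∀ S : Submodule k V, (∀ g, ∀ w ∈ S, ρ g w ∈ S) → S = ⊥ ∨ S = ⊤) :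
    ∃ v : V, v ≠ 0 ∧ ∀ g ∈ K, ρ g v = v := by
  obtain ⟨v, hv0, ht, hsv, hx | hx⟩ := exists_vec h3 h2 h10 hs hnd ρ hρ hi dat
  · let S : Subgroup Spor.M11 :=
      { carrier := {g | ρ g v = v}
        one_mem' := rone ρ v
        mul_mem' := by
          intro a b ha hb
          change ρ (a * b) v = v
          rw [rmul, show ρ b v = v from hb, show ρ a v = v from ha]
        inv_mem' := by
          intro a ha
          change ρ a⁻¹ v = v
          apply rinj ρ a
          rw [← rmul, mul_inv_cancel, rone, show ρ a v = v from ha] }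
    exact ⟨v, hv0, fun g hg => K_le (K0 := S) hx ht hsv hg⟩
  · exfalso
    let S : Subgroup Spor.M11 :=
      { carrier := {g | ρ g v = v ∨ ρ g v = -v}
        one_mem' := Or.inl (rone ρ v)
        mul_mem' := by
          intro a b ha hb
          change ρ (a * b) v = v ∨ ρ (a * b) v = -v
          rcases (show ρ b v = v ∨ ρ b v = -v from hb) with hb | hb <;>
            rcases (show ρ a v = v ∨ ρ a v = -v from ha) with ha | ha
          · exact Or.inl (by rw [rmul, hb, ha])
          · exact Or.inr (by rw [rmul, hb, ha])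
          · exact Or.inr (by rw [rmul, hb, map_neg, ha])
          · exact Or.inl (by rw [rmul, hb, map_neg, ha, neg_neg])
        inv_mem' := by
          intro a ha
          change ρ a⁻¹ v = v ∨ ρ a⁻¹ v = -v
          rcases (show ρ a v = v ∨ ρ a v = -v from ha) with ha | ha
          · left
            apply rinj ρ a
            rw [← rmul, mul_inv_cancel, rone, ha]
          · right
            apply rinj ρ a
            rw [← rmul, mul_inv_cancel, rone, map_neg, ha, neg_neg] }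
    have hK : ∀ g ∈ K, ρ g v = v ∨ ρ g v = -v := fun g hg => K_le (K0 := S) (Or.inr hx) (Or.inl ht) (Or.inl hsv) hg
    have hgv : ρ (ex * et) v = -v := by rw [rmul, ht, hx]
    have hfv : ρ (ex * ex) v = v := by rw [rmul, hx, map_neg, hx, neg_neg]
    have self_zero : ∀ a : k, a = -a → a = 0 := by
      intro a h
      have h1 : (2 : k) * a = 0 := by linear_combination h
      exact (mul_eq_zero.1 h1).resolve_left h2
    have hr : B v (ρ er v) = 0 := by
      apply self_zero
      have h1 := hi (ex * et) v (ρ er v)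
      rw [← rmul, ← dat.rf, rmul ρ er, hfv, hgv, map_neg, LinearMap.neg_apply] at h1
      exact h1.symm
    have hall : ∀ g, g ∉ K → B v (ρ g v) = 0 := by
      intro g hg
      obtain ⟨a, ha, b, hb, rfl⟩ := double_K er_not_mem hg
      have h1 := hi a⁻¹ v (ρ (a * er * b) v)
      rw [← rmul, show a⁻¹ * (a * er * b) = er * b by group, rmul] at h1
      rw [← h1]
      rcases hK _ (K.inv_mem ha) with h4 | h4 <;> rcases hK _ hb with h5 | h5 <;>
        simp only [h4, h5, hr, _root_.map_neg, _root_.neg_zero, _root_.LinearMap.neg_apply]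
    have hvv : B v v ≠ 0 := by
      intro h0
      let T : Submodule k V :=
        { carrier := {w | ∀ g, B (ρ g v) w = 0}
          zero_mem' := fun g => map_zero _
          add_mem' := by
            intro a b ha hb g
            rw [map_add, ha g, hb g, add_zero]
          smul_mem' := by
            intro c a ha g
            rw [map_smul, ha g, smul_zero] }
      have hvT : v ∈ T := by
        intro g
        rw [hs]
        by_cases hg : g ∈ K
        · rcases hK g hg with h4 | h4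
          · rw [h4, h0]
          · rw [h4, map_neg, h0, neg_zero]
        · exact hall g hg
      rcases hirr T (by
        intro g w hw h
        have h1 := hi g⁻¹ (ρ h v) (ρ g w)
        rw [← rmul, ← rmul, inv_mul_cancel, rone] at h1
        rw [← h1]
        exact hw (g⁻¹ * h)) with h1 | h1
      · rw [h1, Submodule.mem_bot] at hvT
        exact hv0 hvT
      · obtain ⟨w, hw⟩ := hnd v hv0
        have h4 : w ∈ T := by rw [h1]; trivial
        apply hw
        have h5 := h4 1
        rwa [rone] at h5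
    haveI : Finite (Spor.M11 ⧸ K) := inferInstance
    haveI := Fintype.ofFinite (Spor.M11 ⧸ K)
    have hli : LinearIndependent k (fun q : Spor.M11 ⧸ K => ρ q.out v) := by
      refine LinearMap.linearIndependent_of_isOrthoᵢ (B := B) ?_ ?_
      · intro q q' hqq
        change B (ρ q.out v) (ρ q'.out v) = 0
        have h1 := hi q.out⁻¹ (ρ q.out v) (ρ q'.out v)
        rw [← rmul, ← rmul, inv_mul_cancel, rone] at h1
        rw [← h1]
        apply hall
        intro hmem
        apply hqq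
        have h4 := QuotientGroup.eq.2 hmem
        rwa [QuotientGroup.out_eq', QuotientGroup.out_eq'] at h4
      · intro q h
        apply hvv
        rw [← hi q.out]
        exact h
    have h1 := hli.fintype_card_le_finrank
    rw [h10, ← Nat.card_eq_fintype_card] at h1
    have h4 : Nat.card (Spor.M11 ⧸ K) = 11 := index_K
    omega

end rep

open Matrix Cfsg.Agent.H915.LD

universe u

variable {ι : Type} [Fintype ι] [DecidableEq ι] {F : Type u} [Field F]

/-- a group of matrices isomorphic to `M₁₁` -/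
theorem fixed_three {P : Subgroup (GL ι F)} (hirr : ActsIrreducibly (matrixSet P)) (e : P ≃* Spor.M11)
    (hι : Fintype.card ι = 10) (h3 : (3 : F) = 0) (h2 : (2 : F) ≠ 0) (hf : FixQ P) :
    ∃ v : ι → F, v ≠ 0 ∧ ∀ g : P, e g ∈ K → ((g : GL ι F) : Matrix ι ι F) *ᵥ v = v := by
  obtain ⟨Q, hQ, hfix⟩ := hf
  have hb := hQ.polar_bilinear
  let B : LinearMap.BilinForm F (ι → F) :=
    LinearMap.mk₂ F (QuadraticMap.polar Q) hb.add_left hb.smul_left hb.add_right hb.smul_right
  have hB : ∀ v w, B v w = QuadraticMap.polar Q v w := fun v w => rfl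
  let ρ : Spor.M11 →* End F (ι → F) :=
    { toFun := fun g => Matrix.toLin' (((e.symm g : P) : GL ι F) : Matrix ι ι F)
      map_one' := by
        rw [map_one, Subgroup.coe_one, Units.val_one, Matrix.toLin'_one]
        rfl
      map_mul' := by
        intro g h
        rw [map_mul, Subgroup.coe_mul, Units.val_mul, Matrix.toLin'_mul]
        rfl }
  have hρa : ∀ (g : Spor.M11) (v : ι → F), ρ g v = (((e.symm g : P) : GL ι F) : Matrix ι ι F) *ᵥ v :=
    fun g v => Matrix.toLin'_apply _ _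
  have hρi : Function.Injective ρ := by
    intro g h hgh
    exact e.symm.injective (Subtype.ext (Units.ext (Matrix.toLin'.injective hgh)))
  obtain ⟨v, hv, hv'⟩ := exists_fix h3 h2 (by rw [Module.finrank_fintype_fun_eq_card, hι]) (B := B)
    (fun v w => QuadraticMap.polar_comm Q v w)
    (fun v hv => by
      obtain ⟨-, w, hw⟩ := hQ.nondegenerate v hv
      exact ⟨w, hw⟩) ρ hρi
    (fun g v w => by
      rw [hB, hB, hρa, hρa, QuadraticMap.polar, QuadraticMap.polar, ← Matrix.mulVec_add,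
        hfix _ ⟨_, (e.symm g).2, rfl⟩, hfix _ ⟨_, (e.symm g).2, rfl⟩, hfix _ ⟨_, (e.symm g).2, rfl⟩])
    (fun S hS => by
      refine hirr S ?_
      rintro _ ⟨g, hg, rfl⟩ _ ⟨w, hw, rfl⟩
      have h1 := hS (e ⟨g, hg⟩) w hw
      rw [hρa, MulEquiv.symm_apply_apply] at h1
      rw [Matrix.toLin'_apply]
      exact h1)
  refine ⟨v, hv, fun g hg => ?_⟩
  have h1 := hv' (e g) hg
  rwa [hρa, MulEquiv.symm_apply_apply] at h1

end Cfsg.Agent.H926.MTh
end

-- part: H911/UF/Tor
section
/-!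
# Elements of the torus of `SU_N(q)` (helper911)

* `exists_tor` : `dl W k t = c` if `k = i` and `1` otherwise, `i` not the last node;
* `exists_tor_last` : the same for the last node, `c ^ q = c`.
-/

set_option autoImplicit false
set_option linter.unusedSectionVars false

namespace Cfsg.Agent.H911.UF

open Cfsg Cfsg.Geo Matrix
open LieClassical.HermBasic LieClassical.HermSiegel Cfsg.Agent.TitsThree.KSideU Cfsg.Agent.TitsThree.KSideUDesc
  Cfsg.Agent.TitsThree.WBridge Cfsg.Agent.TitsThree.SiegelGen Cfsg.Agent.TitsThree.Siegel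
  Cfsg.Agent.TitsThree Cfsg.Agent.TitsThree.WittFrame Cfsg.Agent.H61.SUCross Cfsg.Agent.H876.D3
  Cfsg.Agent.Nodes.BNOf Cfsg.Agent.Nodes.TypeC Cfsg.Agent.Nodes.WittAll Cfsg.Agent.Nodes.WittRGD
  Cfsg.Agent.Nodes.WittRoot Cfsg.Agent.Nodes
open Cfsg.Agent.ClassicalGeometry.UnitTransv (rankOne rankOne_mulVec det_rankOne)

variable {K : Type} [Field K] [Fintype K] {N q m : ℕ} (hK : Fintype.card K = q ^ 2)

section

/-- `e ↦ c e`, `f ↦ c^(-q) f` -/
noncomputable def sc (q : ℕ) (e f : Fin N → K) (c : K) : Matrix (Fin N) (Fin N) K :=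
  rankOne q ((c - 1) • e) f * rankOne q (((c ^ q)⁻¹ - 1) • f) e

theorem sc_mulVec {e f : Fin N → K} (hf : hermForm N K q f f = 0) (c : K) (x : Fin N → K) :
    sc q e f c *ᵥ x = x + (hermForm N K q x e * ((c ^ q)⁻¹ - 1)) • f + (hermForm N K q x f * (c - 1)) • e := by
  rw [sc, ← Matrix.mulVec_mulVec, rankOne_mulVec, rankOne_mulVec, herm_add_left, herm_smul_left, herm_smul_left,
    hf, mul_zero, mul_zero, add_zero, smul_smul, smul_smul]

include hK in
theorem sc_isom {e f : Fin N → K} (he : hermForm N K q e e = 0) (hf : hermForm N K q f f = 0)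
    (hef : hermForm N K q e f = 1) {c : K} (hc0 : c ≠ 0) (x y : Fin N → K) :
    hermForm N K q (sc q e f c *ᵥ x) (sc q e f c *ᵥ y) = hermForm N K q x y := by
  have hfe : hermForm N K q f e = 1 := by
    rw [herm_swap hK e f, hef, one_pow]
  have hcq : c ^ q ≠ 0 := pow_ne_zero _ hc0
  rw [sc_mulVec hf, sc_mulVec hf]
  simp only [herm_add_left, herm_add_right hK, herm_smul_left, herm_smul_right, he, hf, hef, hfe]
  have e1 : hermForm N K q f y = hermForm N K q y f ^ q := herm_swap hK y f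
  have e2 : hermForm N K q e y = hermForm N K q y e ^ q := herm_swap hK y e
  rw [e1, e2, mul_pow, mul_pow, sub_pow_q hK, sub_pow_q hK, one_pow, inv_pow, pow_q_pow_q hK]
  field_simp
  ring

theorem det_sc {e f : Fin N → K} (hef : hermForm N K q e f = 1) (hfe : hermForm N K q f e = 1) (c : K) :
    (sc q e f c).det = c * (c ^ q)⁻¹ := by
  rw [sc, Matrix.det_mul, det_rankOne, det_rankOne, herm_smul_left, herm_smul_left, hef, hfe]
  ring

end

variable {hK} (hN : 3 ≤ N) (W : WFrame (PU hK N) m)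

theorem sc_b (i : Fin m) (c : K) (a : Fin m) (s : Bool) :
    sc q (W.e i) (W.f i) c *ᵥ ((toFrame W).b (a, s)) =
      (if a = i then (if s then c else (c ^ q)⁻¹) else 1) • (toFrame W).b (a, s) := by
  rw [sc_mulVec (by have := hb_iso W false i i; exact this)]
  have he : W.e i = (toFrame W).b (i, true) := rfl
  have hf : W.f i = (toFrame W).b (i, false) := rfl
  rw [he, hf]
  cases s
  · rw [hb_iso]
    have h1 := hb_pair W false a i
    rw [Bool.not_false] at h1
    rw [h1]
    by_cases h : a = i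
    · subst h
      rw [if_pos rfl, if_pos rfl]
      simp only [zero_mul, zero_smul, add_zero, one_mul, Bool.false_eq_true, if_false]
      module
    · rw [if_neg h, if_neg h, zero_mul, zero_mul, zero_smul, zero_smul, add_zero, add_zero, one_smul]
  · rw [hb_iso]
    have h1 := hb_pair W true a i
    rw [Bool.not_true] at h1
    rw [h1]
    by_cases h : a = i
    · subst h
      rw [if_pos rfl, if_pos rfl]
      simp only [zero_mul, zero_smul, add_zero, one_mul, if_true]
      module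
    · rw [if_neg h, if_neg h, zero_mul, zero_mul, zero_smul, zero_smul, add_zero, add_zero, one_smul]

theorem herm_ee (i : Fin m) : hermForm N K q (W.e i) (W.e i) = 0 := hb_iso W true i i

theorem herm_ff (i : Fin m) : hermForm N K q (W.f i) (W.f i) = 0 := hb_iso W false i i

theorem herm_ef (i : Fin m) : hermForm N K q (W.e i) (W.f i) = 1 := by
  have := hb_pair W true i i
  rw [if_pos rfl] at this
  exact this

theorem herm_fe (i : Fin m) : hermForm N K q (W.f i) (W.e i) = 1 := by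
  have := hb_pair W false i i
  rw [if_pos rfl] at this
  exact this

/-- diagonal elements are in the torus -/
theorem tor_of_diag {t : SU N K q} {l : Fin m → Bool → K} (hl : ∀ a s, l a s ≠ 0)
    (ht : ∀ a s, act t ((toFrame W).b (a, s)) = l a s • (toFrame W).b (a, s)) :
    t ∈ WittModel.T (modelSU hK hN W) ∧ ∀ k, dl W k t = ∏ a : {a : Fin m // a ≤ k}, l a.1 true := by
  constructor
  · rw [T_eq, Subgroup.mem_comap, mem_Tor]
    exact ⟨⟨t, rfl⟩, fun x => ⟨l x.1 x.2, hl _ _, ht x.1 x.2⟩⟩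
  · intro k
    have h1 := Dl_mul_diag (Fr := toFrame W) (s := true) (i := k) (t := toLin K q N t) (l := fun a => l a true)
      (fun a _ => ht a true) 1
    rw [one_mul, Dl_one, mul_one] at h1
    exact h1

/-- **the first nodes** -/
theorem exists_tor {i : Fin m} (hi : (i : ℕ) + 1 < m) {c : K} (hc : c ≠ 0) :
    ∃ t ∈ WittModel.T (modelSU hK hN W), ∀ k, dl W k t = if k = i then c else 1 := by
  set i' : Fin m := ⟨i + 1, hi⟩ with hi'
  have hii : i ≠ i' := fun h => by
    have := congrArg Fin.val h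
    rw [hi'] at this
    simp only at this
    omega
  have hc' : c⁻¹ ≠ 0 := inv_ne_zero hc
  have hdet : (sc q (W.e i) (W.f i) c * sc q (W.e i') (W.f i') c⁻¹).det = 1 := by
    rw [Matrix.det_mul, det_sc (herm_ef W i) (herm_fe W i), det_sc (herm_ef W i') (herm_fe W i'), inv_pow, inv_inv]
    have : c ^ q ≠ 0 := pow_ne_zero _ hc
    field_simp
  have hiso : ∀ x y, hermForm N K q ((sc q (W.e i) (W.f i) c * sc q (W.e i') (W.f i') c⁻¹) *ᵥ x)
      ((sc q (W.e i) (W.f i) c * sc q (W.e i') (W.f i') c⁻¹) *ᵥ y) = hermForm N K q x y := by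
    intro x y
    rw [← Matrix.mulVec_mulVec, ← Matrix.mulVec_mulVec,
      sc_isom hK (herm_ee W i) (herm_ff W i) (herm_ef W i) hc,
      sc_isom hK (herm_ee W i') (herm_ff W i') (herm_ef W i') hc']
  obtain ⟨h1, h2⟩ := tor_of_diag hN W (t := mkSU _ hdet hiso)
    (l := fun a s => (if a = i' then (if s then c⁻¹ else (c⁻¹ ^ q)⁻¹) else 1) *
      (if a = i then (if s then c else (c ^ q)⁻¹) else 1)) (fun a s => by
        have h3 : c ^ q ≠ 0 := pow_ne_zero _ hc
        have h4 : c⁻¹ ^ q ≠ 0 := pow_ne_zero _ hc'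
        refine mul_ne_zero ?_ ?_ <;> split_ifs <;>
          first
            | exact one_ne_zero
            | exact hc
            | exact hc'
            | exact inv_ne_zero h3
            | exact inv_ne_zero h4) (fun a s => by
        rw [act_def, mat_mkSU, ← Matrix.mulVec_mulVec, sc_b, Matrix.mulVec_smul, sc_b, smul_smul])
  refine ⟨_, h1, fun k => ?_⟩
  rw [h2]
  simp only [if_true]
  rw [Finset.prod_mul_distrib]
  have key : ∀ (j : Fin m) (d : K), (∏ a : {a : Fin m // a ≤ k}, if a.1 = j then d else 1) = if j ≤ k then d else 1 := by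
    intro j d
    by_cases hj : j ≤ k
    · rw [if_pos hj, Finset.prod_eq_single ⟨j, hj⟩]
      · rw [if_pos rfl]
      · rintro ⟨a, ha⟩ _ h1
        rw [if_neg]
        intro h2
        exact h1 (Subtype.ext h2)
      · intro h1; exact absurd (Finset.mem_univ _) h1
    · rw [if_neg hj]
      refine Finset.prod_eq_one fun a _ => ?_
      rw [if_neg]
      intro h
      exact hj (h ▸ a.2)
  rw [key, key]
  by_cases h3 : k = i
  · subst h3
    rw [if_pos rfl, if_pos le_rfl, if_neg, one_mul]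
    rw [Fin.le_def, hi']
    simp
  · rw [if_neg h3]
    by_cases h4 : i' ≤ k
    · have h5 : i ≤ k := by
        rw [Fin.le_def] at h4 ⊢
        rw [hi'] at h4
        simp only at h4
        omega
      rw [if_pos h4, if_pos h5, inv_mul_cancel₀ hc]
    · have h5 : ¬ i ≤ k := by
        rw [Fin.le_def] at h4 ⊢
        rw [hi'] at h4
        simp only at h4
        intro h6
        apply h3
        apply Fin.ext
        omega
      rw [if_neg h4, if_neg h5, one_mul]

/-- **the last node** -/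
theorem exists_tor_last {i : Fin m} (hi : ¬ (i : ℕ) + 1 < m) {c : K} (hc : c ≠ 0) (hcq : c ^ q = c) :
    ∃ t ∈ WittModel.T (modelSU hK hN W), ∀ k, dl W k t = if k = i then c else 1 := by
  have hdet : (sc q (W.e i) (W.f i) c).det = 1 := by
    rw [det_sc (herm_ef W i) (herm_fe W i), hcq, mul_inv_cancel₀ hc]
  have hiso : ∀ x y, hermForm N K q (sc q (W.e i) (W.f i) c *ᵥ x) (sc q (W.e i) (W.f i) c *ᵥ y) = hermForm N K q x y :=
    fun x y => sc_isom hK (herm_ee W i) (herm_ff W i) (herm_ef W i) hc x y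
  obtain ⟨h1, h2⟩ := tor_of_diag hN W (t := mkSU _ hdet hiso)
    (l := fun a s => if a = i then (if s then c else (c ^ q)⁻¹) else 1) (fun a s => by
        have h3 : c ^ q ≠ 0 := pow_ne_zero _ hc
        split_ifs <;>
          first
            | exact one_ne_zero
            | exact hc
            | exact inv_ne_zero h3) (fun a s => by
        rw [act_def, mat_mkSU, sc_b])
  refine ⟨_, h1, fun k => ?_⟩
  rw [h2]
  simp only [if_true]
  by_cases h3 : k = i
  · subst h3
    rw [if_pos rfl, Finset.prod_eq_single ⟨k, le_rfl⟩]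
    · rw [if_pos rfl]
    · rintro ⟨a, ha⟩ _ h1
      rw [if_neg]
      intro h2
      exact h1 (Subtype.ext h2)
    · intro h1; exact absurd (Finset.mem_univ _) h1
  · rw [if_neg h3]
    refine Finset.prod_eq_one fun a _ => ?_
    rw [if_neg]
    intro h4
    apply h3
    have h5 := a.2
    rw [h4, Fin.le_def] at h5
    have h6 := k.2
    apply Fin.ext
    omega

end Cfsg.Agent.H911.UF
end

-- part: H911/UF/SetupF
section
/-!
# `PSU(N, K)` in the defining characteristic: the exponents and the field (helper911)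

* **`setupF`** : `H151.D3.setup` together with the congruences `θ Q ≡ θ` if `x ^ Q = x` on `F`.
-/

set_option autoImplicit false
set_option linter.unusedSectionVars false
set_option linter.style.haveILetI false

namespace Cfsg.Agent.H911.UF

open CoxeterSystem Cfsg.Agent.ChevalleyStructure.CoxeterGeom Cfsg.Agent.Tits.Roots Cfsg.Agent.Nodes.TypeC
open Cfsg.Agent.Nodes.Comb Cfsg.Agent.Nodes.Reps Cfsg.Agent.Nodes.WittRoot Cfsg.Agent.Nodes.BNOf
open Cfsg.Agent.Nodes.WittRGD Cfsg.Agent.Nodes.RGDLib Cfsg.Agent.Nodes.WittAll Cfsg.Agent.Nodes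
open Cfsg.Agent.TitsThree Cfsg.Agent.TitsThree.Siegel Cfsg.Agent.TitsThree.WittFrame
  Cfsg.Agent.TitsThree.WittWeyl Cfsg.Agent.TitsThree.FrameCN Cfsg.Agent.H905.Md
  Cfsg.Agent.Nodes.StabComb Cfsg.Agent.Tits.Core
open Cfsg Cfsg.Geo Cfsg.Agent.H876.D3 Cfsg.Agent.H911 Cfsg.Agent.H915.LD
open LieClassical.HermBasic Cfsg.Agent.TitsThree.KSideU Cfsg.Agent.TitsThree.KSideUDesc Cfsg.Agent.Nodes.WittU
  Cfsg.Agent.TitsThree.WBridge Cfsg.Agent.TitsThree.SiegelGen Cfsg.Agent.H61.SUCross Cfsg.Agent.H61.SUNode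
open Cfsg.Agent.KFacts.MulOdd.Inst (Lv)
open Cfsg.Agent.Omega.CR Cfsg.Agent.Omega.FOne.Lift.Sd Cfsg.Agent.Nodes.Bruhat Cfsg.Agent.Nodes.OppDec
open scoped MatrixGroups

universe u

variable {F : Type u} [Field F] [Finite F] {ι : Type} [Fintype ι] [DecidableEq ι] {P : Subgroup (GL ι F)}

/-- the character of the torus has values in `F` -/
theorem cf_pow_of_field (p : ℕ) [Fact p.Prime] [CharP F p] {K : Type} [Field K] [Fintype K] [CharP K p] {N q : ℕ}
    (hN : 3 ≤ N) (hK : Fintype.card K = q ^ 2) (hP : ActsAbsolutelyIrreducibly (matrixSet P)) [Nonempty ι]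
    {m : ℕ} (hm : 0 < m) {W : WFrame (PU hK N) m} (hW : Kind W) {φ : SU N K q →* GL ι F} (hφ : φ.range = P)
    {c : ι → AlgebraicClosure F} (hc0 : c ≠ 0)
    (hc : c ∈ fx (lin (acRep φ)) (RGD.Sup (WittModel.X (modelSU hK hN W))
        (RGD.Pos (CoxeterMatrix.B m).toCoxeterSystem (isCartan m)))) {χ : SU N K q → AlgebraicClosure F}
    (hχ : ∀ t ∈ WittModel.T (modelSU hK hN W), lin (acRep φ) t c = χ t • c) {Q : ℕ} (hQ : ∀ x : F, x ^ Q = x)
    {t : SU N K q} (ht : t ∈ WittModel.T (modelSU hK hN W)) : χ t ^ Q = χ t := by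
  have hchar : CharP (AlgebraicClosure F) p := charP_of_injective_algebraMap (algebraMap F _).injective p
  obtain ⟨p0, hp0, -⟩ := exists_adm hK W
  have hA : AmbT (toFrame W) p (modelSU hK hN W).I := AmbT.of_amb (amb_U hK W) p
  haveI : Finite (CoxeterMatrix.B m).Group := finite_W (CoxeterMatrix.B m).toCoxeterSystem
  have R := rgdC_model (modelSU hK hN W) hA hp0 (CoxeterMatrix.B m).toCoxeterSystem
  have hG : GG (CoxeterMatrix.B m).toCoxeterSystem (isCartan m) (WittModel.T (modelSU hK hN W))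
      (WittModel.X (modelSU hK hN W)) = ⊤ := gg_top (WittModel.G1_eq_top _ hm _)
  have hT := modelT_comm (M := modelSU hK hN W) hA (kd_su hW)
  have hirr := ac_irr R hG hT hφ hP
  obtain ⟨c1, hc1, hc10, χ1, hχ1⟩ := Ad.exists_chiF (p := p) R hG hT hφ hP
  have hspan := fx_eq_span R (lin (acRep φ)) hirr hc hc0 hχ
  set ĉ : ι → AlgebraicClosure F := fun i => algebraMap F (AlgebraicClosure F) (c1 i) with hĉ
  have hinj := (algebraMap F (AlgebraicClosure F)).injective
  have hĉD : ĉ ∈ fx (lin (acRep φ)) (RGD.Sup (WittModel.X (modelSU hK hN W))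
        (RGD.Pos (CoxeterMatrix.B m).toCoxeterSystem (isCartan m))) := by
    intro u hu
    rw [hĉ, Ad.ac_map, hc1 u hu]
  rw [hspan] at hĉD
  obtain ⟨a, ha⟩ := Submodule.mem_span_singleton.1 hĉD
  have h1 : lin (acRep φ) t ĉ = χ t • ĉ := by
    rw [← ha, map_smul, hχ t ht, smul_comm]
  have h2 : lin (acRep φ) t ĉ = algebraMap F (AlgebraicClosure F) (χ1 t) • ĉ := by
    rw [hĉ, Ad.ac_map, hχ1 t ht]
    funext i
    simp only [Pi.smul_apply, smul_eq_mul, map_mul]
  have hĉ0 : ĉ ≠ 0 := by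
    intro h0
    apply hc10
    funext i
    apply hinj
    rw [Pi.zero_apply, map_zero]
    exact congrFun h0 i
  have h3 : χ t = algebraMap F (AlgebraicClosure F) (χ1 t) := by
    have h4 : (χ t - algebraMap F (AlgebraicClosure F) (χ1 t)) • ĉ = 0 := by
      rw [sub_smul, ← h1, h2, sub_self]
    rcases smul_eq_zero.1 h4 with h5 | h5
    · exact sub_eq_zero.1 h5
    · exact absurd h5 hĉ0
  rw [h3, ← map_pow, hQ]

theorem cf_tor {K : Type} [Field K] [Fintype K] {N q m : ℕ} {hK : Fintype.card K = q ^ 2} {W : WFrame (PU hK N) m}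
    {k : Type*} [Field k] (j : K →+* k) (θ : Fin m → ℕ) {t : SU N K q} {i : Fin m} {c : K}
    (ht : ∀ k, dl W k t = if k = i then c else 1) : cf W j θ t = j c ^ θ i := by
  unfold cf
  rw [Finset.prod_eq_single i]
  · rw [ht, if_pos rfl]
  · intro a _ ha
    rw [ht, if_neg ha, map_one, one_pow]
  · intro h; exact absurd (Finset.mem_univ _) h

/-- **the congruences** -/
theorem modEq_of_pow {K : Type} [Field K] [Fintype K] {q : ℕ} (hK : Fintype.card K = q ^ 2) {a b : ℕ} :
    ((∀ c : K, c ≠ 0 → c ^ a = c ^ b) → a ≡ b [MOD q ^ 2 - 1]) ∧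
      ((∀ c : K, c ≠ 0 → c ^ q = c → c ^ a = c ^ b) → a ≡ b [MOD q - 1]) := by
  have hq : 2 ≤ q := two_le_q hK
  obtain ⟨g, hg⟩ := IsCyclic.exists_generator (α := Kˣ)
  have hord : orderOf g = q ^ 2 - 1 := by
    rw [orderOf_eq_card_of_forall_mem_zpowers hg, Nat.card_units, Nat.card_eq_fintype_card, hK]
  constructor
  · intro h
    rw [← hord]
    apply pow_eq_pow_iff_modEq.1
    apply Units.ext
    push_cast
    exact h _ (Units.ne_zero g)
  · intro h
    have e1 : q ^ 2 - 1 = (q + 1) * (q - 1) := Nat.sq_sub_sq q 1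
    have hord2 : orderOf (g ^ (q + 1)) = q - 1 := by
      rw [orderOf_pow_of_dvd (by omega) (by rw [hord, e1]; exact Dvd.intro _ rfl), hord, e1,
        Nat.mul_div_cancel_left _ (by omega)]
    rw [← hord2]
    apply pow_eq_pow_iff_modEq.1
    apply Units.ext
    have h2 := h ((g ^ (q + 1) : Kˣ) : K) (Units.ne_zero _) (by
      have h3 : (g ^ (q + 1)) ^ (q - 1) = 1 := by rw [← hord2, pow_orderOf_eq_one]
      have h4 := congrArg Units.val h3
      push_cast at h4 ⊢
      calc ((g : K) ^ (q + 1)) ^ q = ((g : K) ^ (q + 1)) ^ (q - 1) * (g : K) ^ (q + 1) := by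
            rw [← pow_succ, Nat.sub_add_cancel (by omega)]
        _ = _ := by rw [h4, one_mul])
    push_cast at h2 ⊢
    exact h2

/-- **The kernel of `P`, with the field.** -/
theorem setupF (p : ℕ) [Fact p.Prime] [CharP F p] (K : Type) [Field K] [Fintype K] [CharP K p]
    {N q : ℕ} (hN : 4 ≤ N) (hK : Fintype.card K = q ^ 2) (hC : Core P) (Φ : Soc P ≃* PSU N K q) :
    ∃ (m : ℕ) (W : WFrame (PU hK N) m), 2 ≤ m ∧ Kind W ∧ (W.V0 = ⊥ → N = 2 * m) ∧
      (W.V0 ≠ ⊥ → N = 2 * m + 1) ∧ ∃ (k : Type u) (_ : Field k) (_ : IsAlgClosed k) (_ : CharP k p)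
      (j : K →+* k) (J : Set (Fin m)) (θ : Fin m → ℕ), Bd W J θ ∧ (∃ i, i ∉ J) ∧
      (∀ r, r ≤ m → 0 < r → (∀ i : Fin m, r ≤ (i : ℕ) → θ i = 0) →
        ∃ (vv : (Fin m → Fin N → K) → (ι → k)) (ff : (Fin m → Fin N → K) → Module.Dual k (ι → k)),
          IsKer q r j θ vv ff) ∧
      (∀ Q : ℕ, (∀ x : F, x ^ Q = x) → (∀ i : Fin m, (i : ℕ) + 1 < m → θ i * Q ≡ θ i [MOD q ^ 2 - 1]) ∧
        (∀ i : Fin m, ¬ (i : ℕ) + 1 < m → θ i * Q ≡ θ i [MOD q - 1])) := by
  classical
  have hN3 : 3 ≤ N := by omega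
  haveI := hC.nonempty
  obtain ⟨m, W, hm, hW, hev, hodd⟩ := H151.D3.exists_kind' hK hN
  obtain ⟨φ, hφ, -, -⟩ := psu_cover p hC.perfect hN3 hK (by omega) Φ
  haveI hchar : CharP (AlgebraicClosure F) p := charP_of_injective_algebraMap (algebraMap F _).injective p
  obtain ⟨j⟩ := H151.D3.exists_emb p K (AlgebraicClosure F)
  have hm0 : 0 < m := by omega
  obtain ⟨p0, hp0, -⟩ := exists_adm hK W
  have hA : AmbT (toFrame W) p (modelSU hK hN3 W).I := AmbT.of_amb (amb_U hK W) p
  haveI : Finite (CoxeterMatrix.B m).Group := finite_W (CoxeterMatrix.B m).toCoxeterSystem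
  have R := rgdC_model (modelSU hK hN3 W) hA hp0 (CoxeterMatrix.B m).toCoxeterSystem
  have hG : GG (CoxeterMatrix.B m).toCoxeterSystem (isCartan m) (WittModel.T (modelSU hK hN3 W))
      (WittModel.X (modelSU hK hN3 W)) = ⊤ := gg_top (WittModel.G1_eq_top _ hm0 _)
  have hT := modelT_comm (M := modelSU hK hN3 W) hA (kd_su hW)
  have hirr := ac_irr R hG hT hφ hC.absIrred
  have hirr' : ∀ L : Submodule (AlgebraicClosure F) (ι → AlgebraicClosure F), Ivt (lin (acRep φ)) ⊤ L →
      L = ⊥ ∨ L = ⊤ := by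
    intro L hL
    exact hirr L (by rw [hG]; exact hL)
  obtain ⟨J, θ, hB, hJ, v, ψ, hv0, hv, hvT, hψ⟩ := exists_coef hN3 p hW hm0 j (lin (acRep φ)) hirr'
  refine ⟨m, W, hm, hW, hev, hodd, AlgebraicClosure F, inferInstance, inferInstance, hchar, j, J, θ, hB, ?_, ?_, ?_⟩
  · apply hJ
    rw [Module.finrank_fintype_fun_eq_card]
    have := hC.two_le
    omega
  · intro r hr hr0 hθ
    exact isKer_of_coef hirr' hv0 hψ hr hr0 hθ
  · intro Q hQ
    have key : ∀ {t : SU N K q}, t ∈ WittModel.T (modelSU hK hN3 W) → cf W j θ t ^ Q = cf W j θ t := fun ht =>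
      cf_pow_of_field p hN3 hK hC.absIrred hm0 hW hφ hv0 hv hvT hQ ht
    have key2 : ∀ {i : Fin m} {c : K}, (∃ t ∈ WittModel.T (modelSU hK hN3 W), ∀ k, dl W k t = if k = i then c else 1) →
        c ^ (θ i * Q) = c ^ θ i := by
      rintro i c ⟨t, ht, h1⟩
      have h2 := key ht
      rw [cf_tor j θ h1, ← pow_mul, ← map_pow, ← map_pow] at h2
      exact j.injective h2
    exact ⟨fun i hi => (modEq_of_pow hK).1 fun c hc => key2 (exists_tor hN3 W hi hc),
      fun i hi => (modEq_of_pow hK).2 fun c hc hcq => key2 (exists_tor_last hN3 W hi hc hcq)⟩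

end Cfsg.Agent.H911.UF
end

-- part: H911/UF/Four
section
/-!
# `PSU(4, q)` in its own characteristic, self-dual (helper911)

* **`sd_psu4`** : self-dual of degree at most `12`: degree `6`, a quadratic form, `|F| = q`.
-/

set_option autoImplicit false
set_option linter.unusedSectionVars false
set_option linter.style.haveILetI false

namespace Cfsg.Agent.H911.UF

open Cfsg Cfsg.Geo Matrix Cfsg.Agent.H876.D3
open LieClassical.HermBasic LieClassical.HermSiegel Cfsg.Agent.TitsThree.KSideU Cfsg.Agent.TitsThree.KSideUDesc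
  Cfsg.Agent.TitsThree.WBridge Cfsg.Agent.TitsThree.SiegelGen Cfsg.Agent.TitsThree.Siegel Cfsg.Agent.H61.SUCross
  Cfsg.Agent.TitsThree.WittFrame
open Cfsg.Agent.H915.LD Cfsg.Agent.H905.Md
open scoped MatrixGroups

universe u

section num

variable {p : ℕ} [hp : Fact p.Prime]

theorem coprime_succ {q f : ℕ} (hf : q = p ^ f) (hq : 2 ≤ q) (a : ℕ) : Nat.Coprime (q + 1) (p ^ a) := by
  refine Nat.Coprime.pow_right _ ?_
  rw [Nat.coprime_comm, hp.out.coprime_iff_not_dvd]
  intro h
  have hf0 : f ≠ 0 := by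
    rintro rfl
    rw [pow_zero] at hf
    omega
  have h1 : p ∣ q := by rw [hf]; exact dvd_pow_self p hf0
  have h2 : p ∣ 1 := (Nat.dvd_add_right h1).1 h
  exact hp.out.one_lt.ne' (Nat.dvd_one.1 h2)

theorem dvd_of_modEq {q t : ℕ} (hq : 2 ≤ q) (h : t * q ≡ t [MOD q ^ 2 - 1]) : q + 1 ∣ t := by
  have e1 : q ^ 2 - 1 = (q + 1) * (q - 1) := Nat.sq_sub_sq q 1
  have h1 := (Nat.modEq_iff_dvd' (Nat.le_mul_of_pos_right t (by omega))).1 h.symm
  have e2 : t * q - t = t * (q - 1) := by
    rw [Nat.mul_sub, mul_one]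
  rw [e1, e2] at h1
  exact Nat.dvd_of_mul_dvd_mul_right (by omega) h1

end num

variable {F : Type u} [Field F] [Finite F] {ι : Type} [Fintype ι] [DecidableEq ι] {P : Subgroup (GL ι F)}

/-- the traces of a self-dual group -/
theorem pow_q_of_sd (p : ℕ) [hp : Fact p.Prime] [CharP F p] (K : Type) [Field K] [Fintype K] [CharP K p]
    {N q : ℕ} (hN : 4 ≤ N) (hK : Fintype.card K = q ^ 2) (hC : Core P) (Φ : Soc P ≃* PSU N K q) (hsd : SD P) (x : F) :
    x ^ q = x := by
  haveI := hC.nonempty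
  obtain ⟨f, hf⟩ := H876.D3.exists_f hK p
  have hcj : Cj P (p ^ f) := by
    intro g hg
    have h2 := (psu_both p hC.absIrred hC.perfect (by omega) hK (by omega) Φ hg).2
    rw [← hf]
    exact h2.symm
  have h1 := hC.pow_eq p (Fr.of_sd_cj hsd hcj) x
  rwa [← hf] at h1

/-- **Self-dual `PSU(4, q)`, `n ≤ 12`, in its own characteristic.** -/
theorem sd_psu4 (p : ℕ) [hp : Fact p.Prime] [CharP F p] (K : Type) [Field K] [Fintype K] [CharP K p] {q : ℕ}
    (hn : Fintype.card ι ≤ 12) (hK : Fintype.card K = q ^ 2) (hC : Core P) (hsd : SD P)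
    (Φ : Soc P ≃* PSU 4 K q) : Fintype.card ι = 6 ∧ FixQ P ∧ Nat.card F = q := by
  haveI := hC.nonempty
  have : Fintype F := Fintype.ofFinite F
  obtain ⟨f, hf⟩ := H876.D3.exists_f hK p
  have hq2 := two_le_q hK
  obtain ⟨m, W, hm, hW, hev, hodd, k, _, _, _, j, J, θ, hB, ⟨i, hi⟩, hker, hQ⟩ := setupF p K le_rfl hK hC Φ
  have hfin : Module.finrank k (ι → k) = Fintype.card ι := Module.finrank_fintype_fun_eq_card k
  have hxq := pow_q_of_sd p K le_rfl hK hC Φ hsd
  obtain ⟨hq1, -⟩ := hQ q hxq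
  have hV0 : W.V0 = ⊥ := by
    by_contra h
    have := hodd h
    omega
  have hm2 : m = 2 := by have := hev hV0; omega
  have hlt : ∀ i, θ i < q ^ 2 := by
    intro i
    have h3 := hB.le i
    have h4 : 0 < q ^ 2 := pow_pos (by omega) _
    omega
  have hθi := hB.pos i hi
  -- one node
  have huniq : ∀ i', i' ≠ i → θ i' = 0 := by
    by_contra hcon
    push Not at hcon
    obtain ⟨i', hne, hi'⟩ := hcon
    obtain ⟨vv, ff, h⟩ := hker m le_rfl (by omega) (fun i hi => absurd i.2 (by omega))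
    rcases lt_or_gt_of_ne hne with h3 | h3
    · have := two_nodes p W h h3 hi' hθi (hlt _)
      omega
    · have := two_nodes p W h h3 hθi hi' (hlt _)
      omega
  -- not the first node
  have hi1 : (i : ℕ) = 1 := by
    by_contra hne
    have h0 : (i : ℕ) = 0 := by have := i.2; omega
    have hi0 : i = ⟨0, by omega⟩ := Fin.ext h0
    have hd := dvd_of_modEq hq2 (hq1 i (by omega))
    have hθ : ∀ i' : Fin m, 1 ≤ (i' : ℕ) → θ i' = 0 := fun i' h1 => huniq i' (by
      rintro rfl
      omega)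
    obtain ⟨vv, ff, h⟩ := hker 1 (by omega) one_pos hθ
    rcases node0_cases p hm W h hθ (hi0 ▸ hθi) (hlt _) hf with ⟨a, ha⟩ | h1 | ⟨hp2, a, ha⟩ | ⟨a, ha⟩
    · rw [hi0, ha] at hd
      have h2 := Nat.Coprime.eq_one_of_dvd (coprime_succ hf hq2 a) hd
      omega
    · omega
    · rw [hi0, ha] at hd
      have h2 := (coprime_succ hf hq2 a).dvd_of_dvd_mul_right hd
      have := Nat.le_of_dvd (by norm_num) h2
      omega
    · have h2 := H887.D3.node0_adj (p := p) W hm h hf ha (fun i hi => hθ i (by omega))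
      omega
  have hi1' : i = ⟨1, by omega⟩ := Fin.ext hi1
  have hθ : ∀ i' : Fin m, (i' : ℕ) ≠ 1 → θ i' = 0 := fun i' h1 => huniq i' (by
    rintro rfl
    exact h1 hi1)
  obtain ⟨vv, ff, h⟩ := hker 2 (by omega) two_pos (fun i' h2 => hθ i' (by omega))
  have hle : θ ⟨1, by omega⟩ ≤ q - 1 := hB.last hV0 _ (by simp; omega)
  have h6 : Fintype.card ι = 6 := by
    rcases node1_four p hm W h hθ (hi1' ▸ hθi) hle with h1 | h1 <;> omega
  refine ⟨h6, H130.U4.u4_six hC hsd hK Φ h6, ?_⟩
  -- the exponent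
  obtain ⟨a, ha⟩ : ∃ a, θ i = p ^ a := by
    have h1 := pair_bound p hm W h hθ (hi1' ▸ hθi)
    rw [red_eq (hi1' ▸ hθi) hle, ← hi1'] at h1
    have h2 : (Ib p (θ i)).card ≤ 2 := by
      by_contra h3
      push Not at h3
      have h4 : 3 * (Ib p (θ i)).card ≤ (Ib p (θ i)).card * (Ib p (θ i)).card := Nat.mul_le_mul_right _ h3
      omega
    rcases Ib_cases (p := p) hθi with h3 | h3 | h3 | h3
    · exact h3
    all_goals omega
  -- the field
  have hle1 : Fintype.card F ≤ q := by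
    obtain ⟨b, -, hb⟩ := FiniteField.card F p
    by_contra hlt'
    push Not at hlt'
    have h3 : (Polynomial.X ^ q - Polynomial.X : Polynomial F) ≠ 0 := FiniteField.X_pow_card_sub_X_ne_zero F (by omega)
    have h4 := Polynomial.card_roots' (Polynomial.X ^ q - Polynomial.X : Polynomial F)
    rw [FiniteField.X_pow_card_sub_X_natDegree_eq F (by omega)] at h4
    have h5 : (Finset.univ : Finset F).val ≤ (Polynomial.X ^ q - Polynomial.X : Polynomial F).roots := by
      rw [Multiset.le_iff_subset Finset.univ.nodup]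
      intro x _
      rw [Polynomial.mem_roots h3]
      simp [hxq x]
    have h6 := Multiset.card_le_card h5
    have h7 : (Finset.univ : Finset F).val.card = Fintype.card F := rfl
    omega
  have hle2 : q ≤ Fintype.card F := by
    obtain ⟨-, hQ1⟩ := hQ (Fintype.card F) (fun x => FiniteField.pow_card x)
    have h1 := hQ1 i (by omega)
    rw [ha] at h1
    have hF2 : 2 ≤ Fintype.card F := Fintype.one_lt_card
    have h2 := (Nat.modEq_iff_dvd' (Nat.le_mul_of_pos_right (p ^ a) (by omega))).1 h1.symm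
    have e2 : p ^ a * Fintype.card F - p ^ a = p ^ a * (Fintype.card F - 1) := by
      rw [Nat.mul_sub, mul_one]
    rw [e2] at h2
    have hcop : Nat.Coprime (q - 1) (p ^ a) := by
      refine Nat.Coprime.pow_right _ ?_
      rw [Nat.coprime_comm, hp.out.coprime_iff_not_dvd]
      intro h3
      have hf0 : f ≠ 0 := by
        rintro rfl
        rw [pow_zero] at hf
        omega
      have h4 : p ∣ q := by rw [hf]; exact dvd_pow_self p hf0
      have h5 : p ∣ q - (q - 1) := Nat.dvd_sub h4 h3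
      rw [Nat.sub_sub_self (by omega)] at h5
      exact hp.out.one_lt.ne' (Nat.dvd_one.1 h5)
    have h3 := Nat.le_of_dvd (by omega) (hcop.dvd_of_dvd_mul_left h2)
    omega
  rw [Nat.card_eq_fintype_card]
  omega

end Cfsg.Agent.H911.UF
end

-- part: H911/UF/All
section
/-!
# `PSU(N, q)`, `N ≥ 4`, in its own characteristic, self-dual (helper911)

* **`sd_psu`** : self-dual of degree at most `12`: `N = 4`, degree `6`, a quadratic form, `|F| = q`.
-/

set_option autoImplicit false

namespace Cfsg.Agent.H911.UF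

open Cfsg Cfsg.Geo Cfsg.Agent.H915.LD
open scoped MatrixGroups

universe u

variable {F : Type u} [Field F] [Finite F] {ι : Type} [Fintype ι] [DecidableEq ι] {P : Subgroup (GL ι F)}

/-- **Self-dual `PSU(N, q)`, `4 ≤ N`, `n ≤ 12`, in its own characteristic.** -/
theorem sd_psu (p : ℕ) [hp : Fact p.Prime] [CharP F p] (K : Type) [Field K] [Fintype K] [CharP K p] {N q : ℕ}
    (hN : 4 ≤ N) (hn : Fintype.card ι ≤ 12) (hK : Fintype.card K = q ^ 2) (hC : Core P) (hsd : SD P)
    (Φ : Soc P ≃* PSU N K q) : N = 4 ∧ Fintype.card ι = 6 ∧ FixQ P ∧ Nat.card F = q := by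
  by_cases h6 : N = 4 ∧ Fintype.card ι = 6
  · obtain ⟨rfl, -⟩ := h6
    exact ⟨rfl, sd_psu4 p K hn hK hC hsd Φ⟩
  · exact absurd hsd (H887.D3.psu_field p K hN hn hK hC Φ h6).2

end Cfsg.Agent.H911.UF
end

private theorem dce_cca8e79e448f : _root_.True := by
  try have : _root_.True := by simp only [_root_.Cfsg.Agent.H911.UF.sc.eq_1]
  try have : _root_.True := by simp only [_root_.Cfsg.Agent.H926.MTh.K.eq_1]
  try have : _root_.True := by simp only [_root_.Cfsg.Agent.H926.MTh.ck2.eq_1]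
  try have : _root_.True := by simp only [_root_.Cfsg.Agent.H926.MTh.N.eq_1]
  try have : _root_.True := by simp only [_root_.Cfsg.Agent.H926.MTh.C.eq_1]
  try have : _root_.True := by simp only [_root_.Cfsg.Agent.H926.MTh.act.eq_1]
  try have : _root_.True := by simp only [_root_.Cfsg.Agent.H926.MTh.ck3.eq_1]
  try have : _root_.True := by simp only [_root_.Cfsg.Agent.H926.MTh.ck1.eq_1]
  exact _root_.True.intro
end
end
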